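import Cfsg.Agent.Lib.Linear.Unip
import Cfsg.Agent.Lib.Elu.Base

/-!
The Steinberg character of the general linear group as the Moebius function of the lattice of invariant
subspaces.
-/

set_option autoImplicit false

namespace Cfsg.Lib.Stein.Mob

open Module Finset Cfsg.Lib.Elu Cfsg.Lib.Known Cfsg.Lib.Conj Polynomial Equiv

attribute [local instance] Classical.propDecidable

universe u v

section Mu

variable {F : Type u} [Field F] [Finite F] {V : Type v} [AddCommGroup V] [Module F V] [FiniteDimensional F V]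

noncomputable instance : Fintype (Submodule F V) :=
  have := Module.finite_of_finite F (M := V)
  Fintype.ofFinite _

def IsMu (x : End F V) (ν : Submodule F V → ℂ) : Prop :=
  ∀ U, Inv x U → ∑ Y with Inv x Y ∧ U ≤ Y, ν Y = if U = ⊤ then 1 else 0

variable {x : End F V} {ν : Submodule F V → ℂ}

theorem IsMu.weisner (h : IsMu x ν) {b : Submodule F V} (hb : Inv x b) (hb' : b ≠ ⊤) (z : Submodule F V)
    (hz : Inv x z) : ∑ Y with Inv x Y ∧ Y ⊓ b = z, ν Y = 0 := by
  induction z using WellFoundedGT.induction with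
  | ind z ih =>
    by_cases hzb : z ≤ b
    · have h1 := h z hz
      rw [if_neg fun e : z = ⊤ => hb' (top_le_iff.1 (e ▸ hzb)), ← sum_fiberwise_of_maps_to (g := fun Y => Y ⊓ b)
        (t := {w | Inv x w ∧ z ≤ w}) (by
          simp only [mem_filter, mem_univ, true_and]
          exact fun Y hY => ⟨hY.1.inf hb, le_inf hY.2 hzb⟩), sum_eq_single z] at h1
      · rw [← h1]
        refine sum_congr ?_ fun _ _ => rfl
        ext Y
        simp only [mem_filter, mem_univ, true_and]
        exact ⟨fun e => ⟨⟨e.1, e.2 ▸ inf_le_left⟩, e.2⟩, fun e => ⟨e.1.1, e.2⟩⟩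
      · simp only [mem_filter, mem_univ, true_and]
        intro w hw hne
        rw [← ih w (lt_of_le_of_ne hw.2 hne.symm) hw.1]
        refine sum_congr ?_ fun _ _ => rfl
        ext Y
        simp only [mem_filter, mem_univ, true_and]
        exact ⟨fun e => ⟨e.1.1, e.2⟩, fun e => ⟨⟨e.1, hw.2.trans (e.2 ▸ inf_le_left)⟩, e.2⟩⟩
      · exact fun h => (h (mem_filter.2 ⟨mem_univ _, hz, le_rfl⟩)).elim
    · refine sum_eq_zero fun Y hY => (hzb ?_).elim
      rw [← (mem_filter.1 hY).2.2]; exact inf_le_right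

theorem IsMu.res (h : IsMu x ν) {b y : Submodule F V} (hb : Inv x b) (hy : Inv x y) (hc : IsCompl b y) :
    IsMu (x.restrict hb) fun Z => ν (Z.map b.subtype ⊔ y) := by
  have k1 : ∀ Z : Submodule F b, (Z.map b.subtype ⊔ y).comap b.subtype = Z := fun Z => by
    apply Submodule.map_injective_of_injective b.injective_subtype
    rw [Submodule.map_comap_subtype, inf_comm, sup_inf_assoc_of_le _ (Submodule.map_subtype_le b Z),
      hc.symm.inf_eq_bot, sup_bot_eq]
  have k2 : ∀ Y, y ≤ Y → (Y.comap b.subtype).map b.subtype ⊔ y = Y := fun Y hY => by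
    rw [Submodule.map_comap_subtype, sup_comm, ← sup_inf_assoc_of_le _ hY, hc.symm.sup_eq_top, top_inf_eq]
  have k3 : ∀ Z : Submodule F b, Inv (x.restrict hb) Z → Inv x (Z.map b.subtype ⊔ y) := fun Z hZ =>
    (hZ.map b.subtype fun _ => rfl).sup hy
  intro U hU
  have := h _ (k3 U hU)
  rw [if_congr (show (U.map b.subtype ⊔ y = ⊤) ↔ U = ⊤ from ⟨fun e => by rw [← k1 U, e]; rfl, fun e => by
    rw [e, Submodule.map_subtype_top, hc.sup_eq_top]⟩) rfl rfl] at this
  rw [← this]
  refine sum_bij' (fun Z _ => Z.map b.subtype ⊔ y) (fun Y _ => Y.comap b.subtype) ?_ ?_ (fun Z _ => k1 Z) ?_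
    fun _ _ => rfl
  · simp only [mem_filter, mem_univ, true_and]
    exact fun Z hZ => ⟨k3 Z hZ.1, sup_le_sup_right (Submodule.map_mono hZ.2) _⟩
  · simp only [mem_filter, mem_univ, true_and]
    exact fun Y hY => ⟨hY.1.comap b.subtype fun _ => rfl, (k1 U).ge.trans (Submodule.comap_mono hY.2)⟩
  · simp only [mem_filter, mem_univ, true_and]
    exact fun Y hY => k2 Y (le_sup_right.trans hY.2)

omit [Finite F] [FiniteDimensional F V] in
theorem inv_bot : Inv x ⊥ := fun v hv => by simp_all

omit [Finite F] [FiniteDimensional F V] in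
theorem aeval_restrict {U : Submodule F V} (hU : Inv x U) (f : F[X]) (u : U) :
    (aeval (x.restrict hU) f u : V) = aeval x f u := aeval_intertwine U.subtype (fun _ => rfl) f u

omit [Finite F] in
theorem le_finrank (hs : x.IsSemisimple) {f : F[X]} (hf : Irreducible f) (hm : f.Monic) {Y : Submodule F V}
    (hY : Inv x Y) (h0 : Y ≠ ⊥) (h : ∀ v ∈ Y, aeval x f v = 0) : f.natDegree ≤ finrank F Y := by
  have h1 := kd_of_ss (ss_restrict hs hY) hf hm
  have h2 : LinearMap.ker (aeval (x.restrict hY) f) = ⊤ :=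
    eq_top_iff.2 fun u _ => Subtype.ext ((aeval_restrict hY f u).trans (h _ u.2))
  rw [kd, h2, finrank_top] at h1
  have h3 : finrank F Y ≠ 0 := fun e => h0 (Submodule.finrank_eq_zero.1 e)
  rw [h1] at h3 ⊢
  exact Nat.le_mul_of_pos_left _ (Nat.pos_of_ne_zero (left_ne_zero_of_mul h3))

theorem card_compl (hs : x.IsSemisimple) {f : F[X]} (hf : Irreducible f) (hm : f.Monic) {b y : Submodule F V}
    (hb : Inv x b) (hy : Inv x y) (hc : IsCompl b y) (h : ∀ v ∈ y, aeval x f v = 0)
    (hd : finrank F y = f.natDegree) :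
    (∀ Y, Inv x Y → Y ⊓ b = ⊥ → Y ≠ ⊥ → IsCompl b Y) ∧
      #{Y | (Inv x Y ∧ Y ⊓ b = ⊥) ∧ Y ≠ ⊥} = Nat.card F ^ kd (x.restrict hb) f := by
  have k0 : ∀ v, aeval x f v ∈ b := fun v => by
    obtain ⟨β, hβ, w, hw, rfl⟩ := Submodule.mem_sup.1 (hc.sup_eq_top.ge (Submodule.mem_top (x := v)))
    rw [map_add, h w hw, add_zero]; exact aeval_mem hb f _ hβ
  have k1 : ∀ Y, Inv x Y → Y ⊓ b = ⊥ → Y ≠ ⊥ → IsCompl b Y := fun Y h1 h2 h3 => by
    have h4 := le_finrank hs hf hm h1 h3 fun v hv => (Submodule.mem_bot F).1 (h2.le ⟨aeval_mem h1 f v hv, k0 v⟩)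
    have h5 := Submodule.finrank_sup_add_finrank_inf_eq Y b
    have h6 := Submodule.finrank_add_eq_of_isCompl hc
    rw [h2, finrank_bot] at h5
    refine ⟨disjoint_iff.2 (by rwa [inf_comm]), codisjoint_iff.2 ?_⟩
    rw [sup_comm]
    exact Submodule.eq_top_of_finrank_eq (le_antisymm (Submodule.finrank_le _) (by omega))
  refine ⟨k1, ?_⟩
  obtain ⟨v, hv, hv0⟩ := y.exists_mem_ne_zero_of_ne_bot fun e => hf.natDegree_pos.ne' (by rw [← hd, e, finrank_bot])
  have k2 : ∀ w : LinearMap.ker (aeval (x.restrict hb) f), aeval x f (w.1 : V) = 0 := fun w => by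
    rw [← aeval_restrict hb, w.2]; rfl
  have k3 : ∀ w : LinearMap.ker (aeval (x.restrict hb) f),
      (Inv x (orb x (v + w.1)) ∧ orb x (v + w.1) ⊓ b = ⊥) ∧ orb x (v + w.1) ≠ ⊥ := fun w => by
    refine ⟨⟨orb_inv _, eq_bot_iff.2 ?_⟩, fun e => hv0 ?_⟩
    · rintro _ ⟨⟨g, rfl⟩, hg⟩
      have h1 : aeval x g v = 0 := by
        refine (Submodule.mem_bot F).1 (hc.inf_eq_bot.le ⟨?_, aeval_mem hy g v hv⟩)
        have := b.sub_mem hg (aeval_mem hb g _ w.1.2)
        simpa using this
      obtain ⟨g, rfl⟩ : f ∣ g := by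
        refine (hf.isCoprime_or_dvd g).resolve_left fun ⟨s, t, e⟩ => hv0 ?_
        have := congrArg (fun a => aeval x a v) e
        simpa [h1, h v hv] using this.symm
      simp [mul_comm f, h v hv, k2]
    · have h1 : v + w.1 = 0 := (Submodule.mem_bot F).1 (e ▸ self_mem_orb _)
      refine (Submodule.mem_bot F).1 (hc.inf_eq_bot.le ⟨?_, hv⟩)
      rw [eq_neg_of_add_eq_zero_left h1]; exact b.neg_mem w.1.2
  rw [kd, ← Module.natCard_eq_pow_finrank, ← Nat.card_eq_finsetCard]
  symm
  refine Nat.card_congr (Equiv.ofBijective (fun w => ⟨orb x (v + w.1), by simpa using k3 w⟩) ⟨fun w w' e => ?_, ?_⟩)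
  · have e : orb x (v + w.1) = orb x (v + w'.1) := congrArg Subtype.val e
    have := (orb x (v + w.1)).sub_mem (self_mem_orb _) (e.ge (self_mem_orb _))
    rw [add_sub_add_left_eq_sub] at this
    exact Subtype.ext (Subtype.ext (sub_eq_zero.1
      ((Submodule.mem_bot F).1 ((k3 w).1.2.le ⟨this, b.sub_mem w.1.2 w'.1.2⟩))))
  · rintro ⟨Y, hY⟩
    simp only [mem_filter, mem_univ, true_and] at hY
    have hc' := k1 Y hY.1.1 hY.1.2 hY.2
    obtain ⟨β, hβ, w, hw, rfl⟩ := Submodule.mem_sup.1 (hc'.sup_eq_top.ge (Submodule.mem_top (x := v)))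
    have h1 : aeval x f w = 0 := (Submodule.mem_bot F).1 (hY.1.2.le ⟨aeval_mem hY.1.1 f w hw, k0 w⟩)
    have h2 : aeval x f β = 0 := by simpa [h1] using h _ hv
    let w' : LinearMap.ker (aeval (x.restrict hb) f) := ⟨⟨-β, b.neg_mem hβ⟩, Subtype.ext (by
      rw [aeval_restrict]; simp [h2])⟩
    refine ⟨w', Subtype.ext (show orb x (β + w + w'.1) = Y from ?_)⟩
    have h3 := k3 w'
    have h4 := Submodule.finrank_add_eq_of_isCompl (k1 _ h3.1.1 h3.1.2 h3.2)
    have h5 := Submodule.finrank_add_eq_of_isCompl hc'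
    refine Submodule.eq_of_le_of_finrank_eq ?_ (by omega)
    rintro _ ⟨g, rfl⟩
    exact aeval_mem hY.1.1 g _ (by simpa [w'] using hw)

/-- The value of the Steinberg character. -/
noncomputable def val (q : ℕ) (s : Multiset F[X]) : ℂ :=
  ∏ f ∈ s.toFinset, (-1 : ℂ) ^ ((f.natDegree - 1) * s.count f) * (q : ℂ) ^ (f.natDegree * s.count f * (s.count f - 1) / 2)

omit [Finite F] in
theorem val_cons (q : ℕ) (f : F[X]) (s : Multiset F[X]) :
    val q (f ::ₘ s) = (-1) ^ (f.natDegree - 1) * q ^ (s.count f * f.natDegree) * val q s := by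
  have h1 : val q s = ∏ g ∈ insert f s.toFinset, (-1 : ℂ) ^ ((g.natDegree - 1) * s.count g) *
      (q : ℂ) ^ (g.natDegree * s.count g * (s.count g - 1) / 2) :=
    prod_subset (subset_insert _ _) fun g _ hg => by
      rw [Multiset.count_eq_zero.2 (by simpa using hg)]; simp
  rw [h1, val, Multiset.toFinset_cons, ← mul_prod_erase _ _ (mem_insert_self _ _),
    ← mul_prod_erase _ _ (mem_insert_self f _), ← mul_assoc]
  congr 1
  · rw [Multiset.count_cons_self]
    generalize s.count f = c
    have : f.natDegree * (c + 1) * (c + 1 - 1) / 2 = f.natDegree * c * (c - 1) / 2 + c * f.natDegree := by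
      rw [← Nat.add_mul_div_right _ _ two_pos]
      congr 1
      cases c with
      | zero => simp
      | succ c => simp only [Nat.add_sub_cancel]; ring
    rw [this]; ring
  · exact prod_congr rfl fun g hg => by rw [Multiset.count_cons_of_ne (ne_of_mem_erase hg)]

theorem IsMu.bot (h : IsMu x ν) (hs : x.IsSemisimple) :
    (-1) ^ finrank F V * ν ⊥ = val (Nat.card F) (nf x.charpoly) := by
  generalize e : nf x.charpoly = s
  induction s using Multiset.induction generalizing V with
  | empty =>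
    have h1 : finrank F V = 0 := by rw [← x.charpoly_natDegree, ← sum_nf x.charpoly_monic, e]; rfl
    have : Subsingleton V := finrank_zero_iff.1 h1
    have h2 := h ⊥ inv_bot
    rw [if_pos (Subsingleton.elim _ _), sum_eq_single ⊥ (fun _ _ h => (h (Subsingleton.elim _ _)).elim)
      (fun h => (h (mem_filter.2 ⟨mem_univ _, inv_bot, le_rfl⟩)).elim)] at h2
    simp [h1, h2, val]
  | cons f s ih =>
    have hm : ∀ g ∈ f ::ₘ s, Irreducible g ∧ g.Monic := fun g hg =>
      have := (mem_nf x.charpoly_monic.ne_zero).1 (e ▸ hg); ⟨this.1, this.2.1⟩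
    obtain ⟨hf, hf'⟩ := hm f (Multiset.mem_cons_self _ _)
    have h1 := hasED_ssOf hs
    rw [ssOf_eq, e, Multiset.map_cons, ← Multiset.singleton_add] at h1
    obtain ⟨y, b, hy, hb, hc, h2, h3⟩ := hasED_split h1
    have h4 : nf (x.restrict hb).charpoly = s := by
      rw [h3.charpoly, edProd, Multiset.map_map]
      simpa using nf_prod fun g hg => hm g (Multiset.mem_cons_of_mem hg)
    have h5 : finrank F y = f.natDegree := by simpa [edDeg] using h2.finrank
    obtain ⟨k1, k2⟩ := card_compl hs hf hf' hb hy hc.symm (fun v hv => by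
      rw [← aeval_restrict hy f ⟨v, hv⟩, (h2.aeval_eq_zero_iff f).2 (by simp)]; rfl) h5
    have h6 := Submodule.finrank_add_eq_of_isCompl hc
    have h7 := hf.natDegree_pos
    have h8 := h.weisner hb (fun e => by rw [e, finrank_top] at h6; omega) ⊥ inv_bot
    rw [← add_sum_erase _ _ (a := ⊥) (mem_filter.2 ⟨mem_univ _, inv_bot, bot_inf_eq _⟩), ← filter_ne', filter_filter,
      sum_congr rfl (g := fun _ => (-1) ^ finrank F b * val (Nat.card F) s), sum_const, k2,
      kd_of_ss (ss_restrict hs hb) hf hf', h4] at h8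
    · rw [eq_neg_of_add_eq_zero_left h8, val_cons, ← h6, h5]
      obtain ⟨d, hd⟩ := Nat.exists_eq_succ_of_ne_zero h7.ne'
      have : ((-1 : ℂ) ^ finrank F b) ^ 2 = 1 := by rw [← pow_mul, mul_comm, pow_mul]; simp
      rw [hd, nsmul_eq_mul, Nat.succ_eq_add_one]
      push_cast
      linear_combination ((-1) ^ d * (Nat.card F : ℂ) ^ (s.count f * (d + 1)) * val (Nat.card F) s) * this
    · intro Y hY
      simp only [mem_filter, mem_univ, true_and] at hY
      rw [← ih (h.res hb hY.1.1 (k1 Y hY.1.1 hY.1.2 hY.2)) (ss_restrict hs hb) h4, ← mul_assoc, ← mul_pow]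
      simp

/-- The number of invariant chains of type `μ` from `U` to the top. -/
noncomputable def chn (x : End F V) : (k : ℕ) → (Fin k → ℕ) → Submodule F V → ℂ
  | 0, _, U => if U = ⊤ then 1 else 0
  | k + 1, μ, U => ∑ Y with Inv x Y ∧ U ≤ Y ∧ finrank F Y = finrank F U + μ 0, chn x k (Fin.tail μ) Y

/-- The Hessenberg determinant. -/
noncomputable def hes (x : End F V) (k a : ℕ) (U : Submodule F V) : ℂ :=
  ∑ κ : Perm (Fin k), if ∀ i, (κ i).1 ≤ 1 + i then
    ((Perm.sign κ : ℤ) : ℂ) * chn x k (fun i => 1 + i - κ i + if (κ i).1 = 0 then a else 0) U else 0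

theorem hes_one (a : ℕ) (U : Submodule F V) :
    hes x 1 a U = ∑ Y with Inv x Y ∧ U ≤ Y ∧ finrank F Y = finrank F U + (1 + a), hes x 0 0 Y := by
  simp [hes, chn]

theorem hes_succ (k a : ℕ) {U : Submodule F V} (hU : Inv x U) : hes x (k + 2) a U =
    ∑ Y with Inv x Y ∧ U ≤ Y ∧ finrank F Y = finrank F U + (1 + a), hes x (k + 1) 0 Y - hes x (k + 1) (a + 1) U := by
  rw [hes, ← Perm.decomposeFin.symm.sum_comp, Fintype.sum_prod_type, Fin.sum_univ_succ, Fin.sum_univ_succ,
    sum_eq_zero (s := univ) (f := fun i : Fin k => _), add_zero, sub_eq_add_neg]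
  · congr 1
    · simp only [hes]
      rw [sum_comm]
      refine sum_congr rfl fun κ _ => ?_
      have : (∀ i, (Perm.decomposeFin.symm (0, κ) i).1 ≤ 1 + i) ↔ ∀ i, (κ i).1 ≤ 1 + i := by
        rw [Fin.forall_fin_succ]
        simp only [Perm.decomposeFin_symm_apply_zero, Perm.decomposeFin_symm_apply_succ, swap_self, refl_apply,
          Fin.val_succ, Fin.val_zero, zero_le, true_and]
        exact forall_congr' fun i => by omega
      rw [if_congr this rfl rfl]
      split_ifs with h
      · rw [chn, mul_sum]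
        simp only [Perm.decomposeFin_symm_apply_zero, Perm.decomposeFin.symm_sign, Fin.val_zero, if_true, one_mul,
          add_zero, Nat.sub_zero]
        refine sum_congr rfl fun Y _ => ?_
        congr 2
        funext i
        simp only [Fin.tail, Perm.decomposeFin_symm_apply_succ, swap_self, refl_apply, Fin.val_succ]
        simp
        omega
      · simp
    · rw [hes, ← sum_neg_distrib]
      refine sum_congr rfl fun κ _ => ?_
      have h0 : ∀ i, (Perm.decomposeFin.symm (Fin.succ 0, κ) i.succ).1 = if (κ i).1 = 0 then 0 else (κ i).1 + 1 :=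
        fun i => by
          rw [Perm.decomposeFin_symm_apply_succ]
          split_ifs with h
          · rw [show κ i = 0 from Fin.ext h, swap_apply_right]; rfl
          · rw [swap_apply_of_ne_of_ne (Fin.succ_ne_zero _) fun e => h (by simpa using Fin.succ_injective _ e)]; rfl
      have : (∀ i, (Perm.decomposeFin.symm (Fin.succ 0, κ) i).1 ≤ 1 + i) ↔ ∀ i, (κ i).1 ≤ 1 + i := by
        rw [Fin.forall_fin_succ]
        simp only [Perm.decomposeFin_symm_apply_zero, h0, Fin.val_succ, Fin.val_zero, le_refl, true_and, add_zero,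
          zero_add]
        exact forall_congr' fun i => by split_ifs <;> omega
      rw [if_congr this rfl rfl]
      split_ifs with h
      · rw [chn, sum_eq_single U]
        · simp only [Perm.decomposeFin.symm_sign, if_neg (Fin.succ_ne_zero _), Units.val_neg, Int.cast_neg, neg_mul,
            one_mul]
          congr 3
          funext i
          by_cases h1 : (κ i).1 = 0 <;> simp only [Fin.tail, h0, h1, Fin.val_succ, if_true, if_false, Nat.succ_ne_zero] <;>
            omega
        · simp only [mem_filter, mem_univ, true_and]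
          exact fun Y hY hne => (hne (Submodule.eq_of_le_of_finrank_eq hY.2.1 (by simpa using hY.2.2.symm)).symm).elim
        · exact fun h => (h (mem_filter.2 ⟨mem_univ _, hU, le_rfl, by simp⟩)).elim
      · simp
  · exact fun i _ => sum_eq_zero fun κ _ => if_neg fun h => by simpa using h 0

/-- The Moebius function. -/
noncomputable def mob (x : End F V) (U : Submodule F V) : ℂ :=
  (-1) ^ (finrank F V - finrank F U) * hes x (finrank F V - finrank F U) 0 U

theorem hes_eq (k a : ℕ) {U : Submodule F V} (hU : Inv x U) (h : finrank F V = finrank F U + (1 + a) + k) :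
    hes x (k + 1) a U = (-1) ^ k * ∑ Y with Inv x Y ∧ U ≤ Y ∧ finrank F U + (1 + a) ≤ finrank F Y, mob x Y := by
  have k1 : ∀ k a, finrank F V = finrank F U + (1 + a) + k →
      ∑ Y with Inv x Y ∧ U ≤ Y ∧ finrank F Y = finrank F U + (1 + a), hes x k 0 Y =
        (-1) ^ k * ∑ Y with Inv x Y ∧ U ≤ Y ∧ finrank F Y = finrank F U + (1 + a), mob x Y := fun k a h => by
    rw [mul_sum]
    refine sum_congr rfl fun Y hY => ?_
    rw [mob, (mem_filter.1 hY).2.2.2, h, Nat.add_sub_cancel_left, ← mul_assoc, ← mul_pow]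
    simp
  induction k generalizing a with
  | zero =>
    rw [hes_one, k1 0 a h]
    congr 1
    refine sum_congr (filter_congr fun Y _ => ?_) fun _ _ => rfl
    have := Y.finrank_le
    exact and_congr_right fun _ => and_congr_right fun _ => by omega
  | succ k ih =>
    rw [hes_succ k a hU, k1 _ a h, ih (a + 1) (by omega), ← sum_filter_add_sum_filter_not
      {Y | Inv x Y ∧ U ≤ Y ∧ finrank F U + (1 + a) ≤ finrank F Y} (fun Y => finrank F Y = finrank F U + (1 + a)),
      filter_filter, filter_filter, mul_add, sub_eq_add_neg, pow_succ (-1 : ℂ) k, mul_neg_one, neg_mul, neg_mul,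
      neg_mul]
    congr 3 <;> refine sum_congr (filter_congr fun Y _ => ?_) fun _ _ => rfl <;> simp only [and_assoc] <;>
      exact and_congr_right fun _ => and_congr_right fun _ => by omega

theorem isMu_mob (x : End F V) : IsMu x (mob x) := fun U hU => by
  split_ifs with h
  · rw [h, sum_eq_single ⊤ (fun Y hY hne => (hne (top_le_iff.1 (mem_filter.1 hY).2.2)).elim)
      fun h => (h (mem_filter.2 ⟨mem_univ _, fun _ _ => trivial, le_rfl⟩)).elim]
    rw [mob, finrank_top, Nat.sub_self]
    simp [hes, chn]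
  · obtain ⟨k, hk⟩ := Nat.exists_eq_add_of_lt (Submodule.finrank_lt h)
    rw [← add_sum_erase _ _ (a := U) (mem_filter.2 ⟨mem_univ _, hU, le_rfl⟩), mob,
      show finrank F V - finrank F U = k + 1 by omega, hes_eq k 0 hU (by omega), ← mul_assoc, ← pow_add,
      Odd.neg_one_pow ⟨k, by ring⟩, neg_one_mul, neg_add_eq_zero, ← filter_ne', filter_filter]
    refine sum_congr (filter_congr fun Y _ => ?_) fun _ _ => rfl
    rw [and_assoc]
    exact and_congr_right fun _ => and_congr_right fun h => ⟨fun e e' => by rw [e'] at e; omega,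
      fun e => Submodule.finrank_lt_finrank_of_lt (lt_of_le_of_ne h e.symm)⟩

theorem hes_bot (hs : x.IsSemisimple) : hes x (finrank F V) 0 ⊥ = val (Nat.card F) (nf x.charpoly) := by
  rw [← (isMu_mob x).bot hs, mob, ← mul_assoc, finrank_bot, Nat.sub_zero, ← mul_pow]
  simp

/-- Invariant chains. -/
def Chn (x : End F V) {k : ℕ} (μ : Fin k → ℕ) (U : Submodule F V) (W : Fin (k + 1) → Submodule F V) : Prop :=
  W 0 = U ∧ W (Fin.last k) = ⊤ ∧
    ∀ i : Fin k, Inv x (W i.succ) ∧ W i.castSucc ≤ W i.succ ∧ finrank F (W i.succ) = finrank F (W i.castSucc) + μ i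

theorem card_chn {k : ℕ} (μ : Fin k → ℕ) (U : Submodule F V) : (#{W | Chn x μ U W} : ℂ) = chn x k μ U := by
  induction k generalizing U with
  | zero =>
    rw [chn]
    split_ifs with h
    · rw [card_eq_one.2 ⟨fun _ => U, by
        ext W
        simp only [Chn, mem_filter, mem_univ, true_and, mem_singleton, IsEmpty.forall_iff, and_true]
        exact ⟨fun e => funext fun i => by rw [Fin.fin_one_eq_zero i, e.1], fun e => by simp [e, h]⟩⟩, Nat.cast_one]
    · rw [card_eq_zero.2 (filter_eq_empty_iff.2 fun W _ hW => h (hW.1.symm.trans hW.2.1)), Nat.cast_zero]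
  | succ k ih =>
    rw [chn, card_eq_sum_card_fiberwise (f := fun W => W 1)
      (t := {Y | Inv x Y ∧ U ≤ Y ∧ finrank F Y = finrank F U + μ 0}), Nat.cast_sum]
    · refine sum_congr rfl fun Y hY => ?_
      rw [← ih]
      congr 1
      simp only [mem_filter, mem_univ, true_and] at hY
      refine card_bij' (fun W _ => Fin.tail W) (fun W _ => Fin.cons U W) ?_ ?_ ?_ fun W _ => Fin.tail_cons _ _
      · simp only [mem_filter, mem_univ, true_and]
        exact fun W hW => ⟨hW.2, hW.1.2.1, fun i => hW.1.2.2 i.succ⟩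
      · simp only [mem_filter, mem_univ, true_and]
        refine fun W hW => ⟨⟨rfl, hW.2.1, fun i => ?_⟩, hW.1⟩
        refine Fin.cases ?_ hW.2.2 i
        rw [← hW.1] at hY
        exact hY
      · simp only [mem_filter, mem_univ, true_and]
        exact fun W hW => by rw [← hW.1.1, Fin.cons_self_tail]
    · intro W hW
      simp only [coe_filter, mem_univ, true_and, Set.mem_ofPred_eq] at hW ⊢
      rw [← hW.1]
      exact hW.2.2 0

omit [Finite F] in
theorem exists_flag {k : ℕ} {W W' : Fin (k + 1) → Submodule F V} (h : Monotone W) (h' : Monotone W')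
    (hd : ∀ j, finrank F (W j) = finrank F (W' j)) : ∃ g : V ≃ₗ[F] V, ∀ j, (W j).map g.toLinearMap = W' j := by
  suffices ∀ m, ∃ g : V ≃ₗ[F] V, ∀ j ≤ m, (W j).map g.toLinearMap = W' j from
    let ⟨g, hg⟩ := this (Fin.last k); ⟨g, fun j => hg j (Fin.le_last j)⟩
  intro m
  induction m using Fin.induction with
  | zero =>
    obtain ⟨g, hg⟩ := exists_equiv_map rfl (hd 0)
    exact ⟨g, fun j hj => by rwa [Fin.le_zero_iff.1 hj]⟩
  | succ m ih =>
    obtain ⟨g, hg⟩ := ih
    have h1 : W' m.castSucc ≤ (W m.succ).map g.toLinearMap :=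
      (hg _ le_rfl).ge.trans (Submodule.map_mono (h m.castSucc_lt_succ.le))
    have h2 : W' m.castSucc ≤ W' m.succ := h' m.castSucc_lt_succ.le
    obtain ⟨ψ, hψ⟩ := exists_extend_equiv (by rw [LinearEquiv.finrank_map_eq, hd])
      ((Submodule.comapSubtypeEquivOfLe h1).trans (Submodule.comapSubtypeEquivOfLe h2).symm)
    obtain ⟨g', hg'⟩ := exists_extend_equiv rfl ψ
    refine ⟨g.trans g', fun j hj => ?_⟩
    rw [LinearEquiv.coe_trans, Submodule.map_comp]
    rcases hj.eq_or_lt with rfl | hj
    · exact map_eq_of_apply ψ hg'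
    · have hj := Fin.le_castSucc_iff.2 hj
      rw [hg j hj]
      exact map_eq_of_apply (LinearEquiv.refl F _) fun u =>
        (hg' ⟨u, h1 (h' hj u.2)⟩).trans (congrArg Subtype.val (hψ ⟨⟨u, h1 (h' hj u.2)⟩, h' hj u.2⟩))

end Mu

section Gl

open Cfsg.Lib.Linear

variable {F : Type*} [Field F] {n : ℕ} {μ : Fin n → ℕ} {a : Fin n → Fin n}

variable (F) in
/-- The standard flag. -/
def std (a : Fin n → Fin n) (j : Fin (n + 1)) : Submodule F (Fin n → F) :=
  LinearMap.ker (LinearMap.funLeft F F (Subtype.val : {i // j.1 ≤ a i} → Fin n))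

theorem mem_std {j : Fin (n + 1)} {v : Fin n → F} : v ∈ std F a j ↔ ∀ i, j.1 ≤ a i → v i = 0 :=
  funext_iff.trans Subtype.forall

theorem finrank_std (j : Fin (n + 1)) : finrank F (std F a j) = #{i | (a i).1 < j} := by
  have h1 := (LinearMap.funLeft F F (Subtype.val : {i // j.1 ≤ a i} → Fin n)).finrank_range_add_finrank_ker
  have h2 := card_filter_add_card_filter_not (s := univ) fun i => j.1 ≤ a i
  rw [LinearMap.range_eq_top.2 (LinearMap.funLeft_surjective_of_injective F F _ Subtype.val_injective), finrank_top,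
    finrank_fintype_fun_eq_card, finrank_fintype_fun_eq_card, Fintype.card_subtype] at h1
  simp only [not_le, card_univ] at h2
  exact Nat.add_left_cancel (h1.trans h2.symm)

/-- The flag of a matrix. -/
def fl (a : Fin n → Fin n) (g : GL (Fin n) F) (j : Fin (n + 1)) : Submodule F (Fin n → F) :=
  (std F a j).map (Matrix.toLin' g.1)

theorem fl_mul (g h : GL (Fin n) F) (j : Fin (n + 1)) : fl a (g * h) j = (fl a h j).map (Matrix.toLin' g.1) := by
  simp [fl, Matrix.toLin'_mul, Submodule.map_comp]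

theorem unit_toLin (g : GL (Fin n) F) : IsUnit (Matrix.toLin' g.1) := g.isUnit.map Matrix.toLinAlgEquiv'

theorem finrank_fl (g : GL (Fin n) F) (j : Fin (n + 1)) : finrank F (fl a g j) = #{i | (a i).1 < j} := by
  rw [← finrank_std (F := F)]
  exact (Submodule.equivMapOfInjective _ ((Module.End.isUnit_iff _).1 (unit_toLin g)).1 _).finrank_eq.symm

theorem fl_eq_iff (h : IsLab μ a) {g g' : GL (Fin n) F} : fl a g = fl a g' ↔ g⁻¹ * g' ∈ parabolicGL n F μ := by
  have : ∀ p : GL (Fin n) F, fl a p = std F a ↔ p ∈ parabolicGL n F μ := fun p => by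
    rw [h.mem_par]
    refine ⟨fun e i j hij => ?_, fun e => funext fun j => (map_eq_iff_inv (unit_toLin p)).2 fun v hv => ?_⟩
    · have := mem_std.1 ((congrFun e (a i).castSucc).le ⟨Pi.single j 1, mem_std.2 fun l hl =>
        Pi.single_eq_of_ne (fun e => hij.not_ge (by rw [← e]; exact hl)) _, rfl⟩) i le_rfl
      simpa using this
    · refine mem_std.2 fun i hi => (sum_eq_zero fun l _ => ?_ : ∑ l, p i l * v l = 0)
      rcases lt_or_ge (a l) (a i) with hl | hl
      · exact mul_eq_zero_of_left (e i l hl) _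
      · exact mul_eq_zero_of_right _ (mem_std.1 hv l (hi.trans hl))
  rw [← this]
  refine ⟨fun e => funext fun j => ?_, fun e => funext fun j => ?_⟩
  · rw [fl_mul, ← e, ← fl_mul]; simp [fl]
  · rw [← mul_inv_cancel_left g g', fl_mul, e]; rfl

theorem fix_eq [Finite F] (hμ : ∑ i, μ i = n) (x : GL (Fin n) F) :
    fixedPointCharacter (parabolicGL n F μ) x = chn (Matrix.toLin' x.1) n μ ⊥ := by
  obtain ⟨a, h⟩ := exists_isLab hμ
  have k0 : ∀ i : Fin n, #{l | (a l).1 < i.succ} = #{l | (a l).1 < i.castSucc} + μ i := fun i => by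
    rw [← h.card, ← card_union_of_disjoint (disjoint_filter.2 fun l _ h1 h2 => by simp [h2] at h1), ← filter_or]
    congr 1
    exact filter_congr fun l _ => by rw [Fin.ext_iff]; simp; omega
  have k1 : Monotone (std F a) := fun j j' e v hv => mem_std.2 fun i hi => mem_std.1 hv i (le_trans e hi)
  have k2 : ∀ g : GL (Fin n) F, g⁻¹ * x * g ∈ parabolicGL n F μ ↔ ∀ j, Inv (Matrix.toLin' x.1) (fl a g j) := fun g => by
    rw [mul_assoc, ← fl_eq_iff h, eq_comm, funext_iff]
    exact forall_congr' fun j => by rw [fl_mul, map_eq_iff_inv (unit_toLin x)]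
  rw [← card_chn, fixedPointCharacter, ← Nat.card_eq_finsetCard]
  congr 1
  refine Nat.card_congr (Equiv.ofBijective (fun c => ⟨fl a c.1.out, mem_filter.2 ⟨mem_univ _, ?_, ?_, fun i =>
    ⟨(k2 _).1 (fix_out.1 c.2) _, Submodule.map_mono (k1 i.castSucc_lt_succ.le), by rw [finrank_fl, finrank_fl, k0]⟩⟩⟩)
    ⟨fun c c' e => ?_, ?_⟩)
  · exact Submodule.finrank_eq_zero.1 (by simp [finrank_fl])
  · exact Submodule.eq_top_of_finrank_eq (by simp [finrank_fl])
  · refine Subtype.ext ?_
    rw [← c.1.out_eq', ← c'.1.out_eq', QuotientGroup.eq, ← fl_eq_iff h]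
    exact congrArg Subtype.val e
  · rintro ⟨W, hW⟩
    obtain ⟨h1, -, h2⟩ := (mem_filter.1 hW).2
    obtain ⟨g, hg⟩ := exists_flag k1 (Fin.monotone_iff_le_succ.2 fun i => (h2 i).2.1) fun j => by
      induction j using Fin.induction with
      | zero => rw [h1]; simp [finrank_std]
      | succ j ih => rw [(h2 j).2.2, ← ih, finrank_std, finrank_std, k0]
    let g' : GL (Fin n) F := Matrix.GeneralLinearGroup.toLin.symm (LinearMap.GeneralLinearGroup.ofLinearEquiv g)
    have h3 : fl a g' = W := funext fun j => by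
      rw [← hg, fl, show Matrix.toLin' g'.1 = g.toLinearMap from Matrix.toLin'_toMatrix' _]
    refine ⟨⟨g', fix_mk.2 ((k2 _).2 fun j => ?_)⟩, Subtype.ext (((fl_eq_iff h).2 ?_).trans h3)⟩
    · rw [h3]
      exact Fin.cases (h1 ▸ inv_bot) (fun i => (h2 i).1) j
    · exact QuotientGroup.eq.1 (QuotientGroup.out_eq' _)

theorem unip_val [Fintype F] (x : GL (Fin n) F) (hs : Module.End.IsSemisimple (Matrix.toLin' x.1)) :
    unipotentCharacterGL n F (fun _ => 1) x = val (Nat.card F) (nf x.1.charpoly) := by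
  rw [← Matrix.charpoly_toLin', ← hes_bot hs, finrank_fin_fun, hes, unipotentCharacterGL]
  refine sum_congr rfl fun κ _ => ?_
  split_ifs with h
  · rw [fix_eq (sum_sub_perm (by simp) h)]; simp
  · rfl

end Gl

end Cfsg.Lib.Stein.Mob
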