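import Cfsg.Agent.Lib.Stein.Lift
import Cfsg.Agent.Lib.Stein.Mob

/-!
Primitive class functions of the general linear groups.
-/

set_option autoImplicit false

namespace Cfsg.Lib.Stein.Green

open Module Finset Cfsg.Lib.Elu Cfsg.Lib.Known Cfsg.Lib.Conj Cfsg.Lib.Char Cfsg.Lib.Stein.Mob Polynomial

attribute [local instance] Classical.propDecidable

universe u v w

theorem sum_comp_surj {M M' : Type*} [AddGroup M] [AddGroup M'] [Fintype M] [Fintype M'] (r : M →+ M')
    (hr : Function.Surjective r) {f : M' → ℂ} (hf : ∑ m, f m = 0) : ∑ m, f (r m) = 0 := by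
  rw [← sum_fiberwise univ r, sum_congr rfl (g := fun m => #{a | r a = 0} * f m), ← mul_sum, hf, mul_zero]
  intro m _
  rw [sum_congr rfl (g := fun _ => f m) fun a ha => by rw [(mem_filter.1 ha).2], sum_const, nsmul_eq_mul,
    AddMonoidHom.card_fiber_eq_of_mem_range r (hr m) ⟨0, map_zero r⟩]

variable {F : Type u} [Field F] {V : Type v} [AddCommGroup V] [Module F V] {V' : Type w} [AddCommGroup V'] [Module F V']

theorem exists_factor {Q Z : Type*} [AddCommGroup Q] [Module F Q] [AddCommGroup Z] [Module F Z] (f : V →ₗ[F] Q)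
    (g : V →ₗ[F] Z) (h : LinearMap.ker f ≤ LinearMap.ker g) : ∃ k : Q →ₗ[F] Z, ∀ v, k (f v) = g v := by
  obtain ⟨k, hk⟩ := LinearMap.exists_extend ((Submodule.liftQ _ g h).comp f.quotKerEquivRange.symm.toLinearMap)
  exact ⟨k, fun v => (LinearMap.congr_fun hk ⟨f v, v, rfl⟩).trans 
    (congrArg (Submodule.liftQ _ g h) (f.quotKerEquivRange_symm_apply_image v _))⟩

/-- The additive version of the unipotent radical of the stabilizer of `B`. -/
def nil (B : Submodule F V) : Submodule F (End F V) where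
  carrier := {u | (∀ v, u v ∈ B) ∧ ∀ v ∈ B, u v = 0}
  add_mem' ha hb := ⟨fun v => B.add_mem (ha.1 v) (hb.1 v), fun v hv => by simp [ha.2 v hv, hb.2 v hv]⟩
  zero_mem' := by simp
  smul_mem' c a ha := ⟨fun v => B.smul_mem c (ha.1 v), fun v hv => by simp [ha.2 v hv]⟩

variable {x : End F V} {y : End F V'} {B U W : Submodule F V} {u : End F V}

theorem inv_add (h : Inv x B) (hu : u ∈ nil B) : Inv (x + u) B := fun v hv => B.add_mem (h v hv) (hu.1 v)

theorem inv_top : Inv x ⊤ := fun _ _ => trivial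

theorem mapQ_add (h : Inv x B) (hu : u ∈ nil B) : B.mapQ B (x + u) (inv_add h hu) = B.mapQ B x h :=
  B.linearMap_qext (LinearMap.ext fun v => (Submodule.Quotient.eq _).2 (by simpa using hu.1 v))

theorem card_nil (B : Submodule F V) : Nat.card (nil B) = Nat.card (V ⧸ B →ₗ[F] B) := by
  refine (Nat.card_congr (Equiv.ofBijective (fun c => ⟨B.subtype ∘ₗ c ∘ₗ B.mkQ, fun v => (c _).2, fun v hv => by
    simp [(Submodule.Quotient.mk_eq_zero _).2 hv]⟩) ⟨fun c c' e => ?_, fun u => ?_⟩)).symm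
  · exact B.linearMap_qext (LinearMap.ext fun v => Subtype.ext (LinearMap.congr_fun (congrArg Subtype.val e) v))
  · exact ⟨B.liftQ (u.1.codRestrict B u.2.1) fun v hv => Subtype.ext (u.2.2 v hv), rfl⟩

theorem card_isCompl (B : Submodule F V) : Nat.card {Y // IsCompl B Y} = Nat.card (V ⧸ B →ₗ[F] B) := by
  obtain ⟨Y, hY⟩ := B.exists_isCompl
  obtain ⟨f, hf⟩ := B.isComplEquivProj ⟨Y, hY⟩
  rw [Nat.card_congr B.isComplEquivProj]
  refine (Nat.card_congr (Equiv.ofBijective (fun c => ⟨f + c ∘ₗ B.mkQ, fun v => by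
    simp [(Submodule.Quotient.mk_eq_zero _).2 v.2, hf]⟩) ⟨fun c c' e => ?_, fun g => ?_⟩)).symm
  · exact B.linearMap_qext (add_left_cancel (congrArg Subtype.val e))
  · exact ⟨B.liftQ (g.1 - f) fun v hv => sub_eq_zero.2 ((g.2 ⟨v, hv⟩).trans (hf ⟨v, hv⟩).symm),
      Subtype.ext (LinearMap.ext fun v => add_sub_cancel (f v) (g.1 v))⟩

variable [FiniteDimensional F V] [FiniteDimensional F V']

/-- The characteristic polynomial on an invariant subspace. -/
noncomputable def cp (x : End F V) (U : Submodule F V) : F[X] :=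
  if h : Inv x U then (x.restrict h).charpoly else 1

theorem cp_eq (h : Inv x U) : cp x U = (x.restrict h).charpoly := dif_pos h

theorem cp_monic : (cp x U).Monic := by
  unfold cp; split_ifs
  exacts [LinearMap.charpoly_monic _, monic_one]

theorem cp_natDegree (h : Inv x U) : (cp x U).natDegree = finrank F U := by rw [cp_eq h, LinearMap.charpoly_natDegree]

theorem cp_bot : cp x ⊥ = 1 := cp_monic.natDegree_eq_zero.1 (by rw [cp_natDegree inv_bot, finrank_bot])

theorem cp_map (e : V →ₗ[F] V') (h : Inv x U) (hi : Disjoint U (LinearMap.ker e))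
    (he : ∀ v ∈ U, e (x v) = y (e v)) : Inv y (U.map e) ∧ cp y (U.map e) = cp x U := by
  have h' : Inv y (U.map e) := by
    rintro _ ⟨v, hv, rfl⟩
    exact ⟨x v, h v hv, he v hv⟩
  refine ⟨h', ?_⟩
  rw [cp_eq h, cp_eq h']
  symm
  refine Sim.charpoly ⟨LinearEquiv.ofBijective (e.submoduleMap U) ⟨?_, e.submoduleMap_surjective U⟩,
    fun v => Subtype.ext (he v v.2)⟩
  exact fun a b hab => Subtype.ext (LinearMap.injOn_of_disjoint_ker subset_rfl hi a.2 b.2 (congrArg Subtype.val hab))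

theorem cp_top : cp x ⊤ = x.charpoly := by
  rw [cp_eq inv_top]
  exact Sim.charpoly ⟨Submodule.topEquiv, fun _ => rfl⟩

theorem cp_comap (h : Inv x B) {A : Submodule F (V ⧸ B)} (hA : Inv (B.mapQ B x h) A) :
    cp x (A.comap B.mkQ) = cp x B * cp (B.mapQ B x h) A := by
  have h1 : Inv x (A.comap B.mkQ) := hA.comap B.mkQ fun _ => rfl
  have h2 : Inv (x.restrict h1) (B.comap (A.comap B.mkQ).subtype) := h.comap _ fun _ => rfl
  have h3 := (cp_map (y := x) (A.comap B.mkQ).subtype h2 (by simp) fun _ _ => rfl).2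
  rw [Submodule.map_comap_subtype, inf_eq_right.2 (B.le_comap_mkQ A)] at h3
  rw [cp_eq h1, charpoly_quot h2, h3, cp_eq h2, cp_eq hA]
  congr 1
  let f : A.comap B.mkQ →ₗ[F] A := B.mkQ.restrict fun _ h => h
  have h4 : B.comap (A.comap B.mkQ).subtype = LinearMap.ker f := by
    ext v; simp [f, Subtype.ext_iff]
  refine Sim.charpoly ⟨(Submodule.quotEquivOfEq _ _ h4).trans (f.quotKerEquivOfSurjective fun a => ?_), fun v => ?_⟩
  · obtain ⟨v, hv⟩ := B.mkQ_surjective a
    exact ⟨⟨v, by simp [hv]⟩, Subtype.ext hv⟩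
  · obtain ⟨v, rfl⟩ := Submodule.mkQ_surjective _ v
    rfl

variable [Finite F]

noncomputable instance : Fintype (V →ₗ[F] V') :=
  have := Module.finite_of_finite F (M := V →ₗ[F] V')
  Fintype.ofFinite _

variable (ψ : F[X] → ℂ)

/-- The primitive class function attached to an additive function `ψ`. -/
noncomputable def P (x : End F V) : Submodule F V → ℂ :=
  WellFoundedLT.fix fun U ih => ψ (cp x U) - ∑ W : {W // Inv x W ∧ W < U}, ih W W.2.2

theorem P_eq (x : End F V) (U : Submodule F V) : P ψ x U = ψ (cp x U) - ∑ W with Inv x W ∧ W < U, P ψ x W := by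
  rw [P, WellFoundedLT.fix_eq, sum_subtype (p := fun W => Inv x W ∧ W < U) _ (by simp)]

theorem sum_le (h : Inv x U) (f : Submodule F V → ℂ) :
    ∑ W with Inv x W ∧ W ≤ U, f W = f U + ∑ W with Inv x W ∧ W < U, f W := by
  rw [← add_sum_erase _ _ (a := U) (mem_filter.2 ⟨mem_univ _, h, le_rfl⟩), ← filter_ne', filter_filter]
  simp only [lt_iff_le_and_ne, and_assoc]

theorem sum_P (h : Inv x U) : ∑ W with Inv x W ∧ W ≤ U, P ψ x W = ψ (cp x U) := by
  rw [sum_le h, P_eq ψ x U, sub_add_cancel]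

variable {ψ}

theorem eq_P {f : Submodule F V → ℂ} (hf : ∀ W ≤ U, Inv x W → ∑ Y with Inv x Y ∧ Y ≤ W, f Y = ψ (cp x W)) :
    ∀ W ≤ U, Inv x W → f W = P ψ x W := fun W => by
  induction W using WellFoundedLT.induction with
  | ind W ih =>
    intro h1 h2
    rw [P_eq, ← hf W h1 h2, sum_le h2, sum_congr rfl fun Y hY =>
      ih Y (mem_filter.1 hY).2.2 ((mem_filter.1 hY).2.2.le.trans h1) (mem_filter.1 hY).2.1, add_sub_cancel_right]

theorem P_map (e : V →ₗ[F] V') (h : Inv x U) (hi : Disjoint U (LinearMap.ker e))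
    (he : ∀ v ∈ U, e (x v) = y (e v)) : P ψ y (U.map e) = P ψ x U := by
  refine eq_P (U := U) (f := fun W => P ψ y (W.map e)) (fun W h1 h2 => ?_) U le_rfl h
  obtain ⟨h3, h4⟩ := cp_map e h2 (hi.mono_left h1) fun v hv => he v (h1 hv)
  rw [← h4, ← sum_P ψ h3]
  refine sum_bij' (fun Y _ => Y.map e) (fun Y _ => Y.comap e ⊓ W) ?_ ?_ ?_ ?_ fun _ _ => rfl <;>
    simp only [mem_filter, mem_univ, true_and]
  · exact fun Y hY => ⟨(cp_map e hY.1 (hi.mono_left (hY.2.trans h1)) fun v hv => he v (h1 (hY.2 hv))).1,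
      Submodule.map_mono hY.2⟩
  · exact fun Y hY => ⟨fun v hv => ⟨by rw [SetLike.mem_coe, Submodule.mem_comap, he v (h1 hv.2)]; exact hY.1 _ hv.1,
      h2 v hv.2⟩, inf_le_right⟩
  · intro Y hY
    rw [Submodule.comap_map_eq, sup_inf_assoc_of_le _ hY.2, (hi.mono_left h1).symm.eq_bot, sup_bot_eq]
  · intro Y hY
    rw [inf_comm, ← Submodule.map_inf_eq_map_inf_comap, inf_eq_right.2 hY.2]

theorem P_restrict (h : Inv x U) : P ψ x U = P ψ (x.restrict h) ⊤ := by
  rw [← P_map U.subtype inv_top (by simp) fun _ _ => rfl, Submodule.map_subtype_top]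

theorem P_congr {y : End F V} (h : Inv x U) (he : ∀ v ∈ U, x v = y v) : P ψ y U = P ψ x U := by
  rw [← P_map LinearMap.id h (by simp) he, Submodule.map_id]

variable (hψ : ∀ f g : F[X], f.Monic → g.Monic → ψ (f * g) = ψ f + ψ g)
include hψ

theorem P_quot (h : Inv x B) (hB : B ≠ ⊤) : ∑ Y with Inv x Y ∧ Y.map B.mkQ = ⊤, P ψ x Y = P ψ (B.mapQ B x h) ⊤ := by
  have := eq_P (ψ := ψ) (x := B.mapQ B x h) (U := ⊤) (f := fun A => ∑ Y with Inv x Y ∧ Y.map B.mkQ = A, P ψ x Y -
    if A = ⊥ then ψ (cp x B) else 0) (fun A _ hA => by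
      rw [sum_sub_distrib, sum_ite_eq', if_pos (mem_filter.2 ⟨mem_univ _, inv_bot, bot_le⟩), sub_eq_iff_eq_add',
        ← hψ _ _ cp_monic cp_monic, ← cp_comap h hA, ← sum_P ψ (hA.comap B.mkQ fun _ => rfl),
        ← sum_fiberwise_of_maps_to (g := Submodule.map B.mkQ) (s := filter _ _) (t := {Y | Inv (B.mapQ B x h) Y ∧ Y ≤ A})]
      · refine sum_congr rfl fun Z hZ => sum_congr ?_ fun _ _ => rfl
        rw [filter_filter]
        exact filter_congr fun Y _ => ⟨fun e => ⟨⟨e.1, Submodule.map_le_iff_le_comap.1 (e.2 ▸ (mem_filter.1 hZ).2.2)⟩,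
          e.2⟩, fun e => ⟨e.1.1, e.2⟩⟩
      · simp only [mem_filter, mem_univ, true_and]
        exact fun Y hY => ⟨hY.1.map _ fun _ => rfl, Submodule.map_le_iff_le_comap.2 hY.2⟩) ⊤ le_rfl inv_top
  rwa [if_neg, sub_zero] at this
  exact fun e => hB (by rw [← B.ker_mkQ, ← Submodule.comap_bot, ← e, Submodule.comap_top])

theorem prim (h : Inv x B) (h0 : B ≠ ⊥) (h1 : B ≠ ⊤) : ∑ u : nil B, P ψ (x + u.1) ⊤ = 0 := by
  generalize hn : finrank F V = n
  induction n using Nat.strong_induction_on generalizing V with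
  | _ n ih =>
  have k1 : ∑ u : nil B, ∑ Y with Inv (x + u.1) Y ∧ Y.map B.mkQ = ⊤, P ψ (x + u.1) Y =
      Nat.card (nil B) * P ψ (B.mapQ B x h) ⊤ := by
    rw [sum_congr rfl fun u _ => (P_quot hψ (inv_add h u.2) h1).trans (by rw [mapQ_add h u.2]), sum_const, nsmul_eq_mul,
      card_univ, Nat.card_eq_fintype_card]
  have k2 : ∀ Y : Submodule F V, ∑ u : nil B, (if Inv (x + u.1) Y ∧ Y.map B.mkQ = ⊤ then P ψ (x + u.1) Y else 0) =
      (if Y = ⊤ then ∑ u : nil B, P ψ (x + u.1) ⊤ else 0) + if IsCompl B Y then P ψ (B.mapQ B x h) ⊤ else 0 := fun Y => by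
    by_cases e1 : Y = ⊤
    · rw [if_pos e1, if_neg fun e => h0 (eq_bot_of_isCompl_top (e1 ▸ e)), e1]
      rw [add_zero]
      exact sum_congr rfl fun u _ => if_pos ⟨inv_top, by simp⟩
    rw [if_neg e1, zero_add]
    split_ifs with e2
    · have e3 : Y.map B.mkQ = ⊤ := by rw [Submodule.map_mkQ_eq_top, e2.sup_eq_top]
      let u : nil B := ⟨-(B.projection Y e2 * x * Y.projection B e2.symm), fun v => B.neg_mem (by simp),
        fun v hv => by simp [(Submodule.projection_apply_eq_zero_iff e2.symm).2 hv]⟩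
      have e4 : Inv (x + u.1) Y := fun v hv => by
        simpa [u, Submodule.projection_apply_of_mem_left e2.symm hv, sub_eq_add_neg] using
          Submodule.sub_projection_mem e2 (x v)
      rw [sum_eq_single u (fun u' _ hu => if_neg fun e => hu ?_) (by simp), if_pos ⟨e4, e3⟩, ← e3,
        P_map B.mkQ e4 (by simpa using e2.symm.disjoint) fun v _ => by rw [← mapQ_add h u.2]; rfl]
      refine Subtype.ext (isCompl_ext e2 (fun v hv => (u'.2.2 v hv).trans (u.2.2 v hv).symm) fun v hv => ?_)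
      exact sub_eq_zero.1 ((Submodule.mem_bot F).1 (e2.inf_eq_bot.le ⟨B.sub_mem (u'.2.1 v) (u.2.1 v), by
        simpa using Y.sub_mem (e.1 v hv) (e4 v hv)⟩))
    by_cases e3 : ∃ u : nil B, Inv (x + u.1) Y ∧ Y.map B.mkQ = ⊤
    swap
    · exact sum_eq_zero fun u _ => if_neg fun e => e3 ⟨u, e⟩
    obtain ⟨u, hu, e3⟩ := e3
    have e4 := (Submodule.map_mkQ_eq_top _ _).1 e3
    let M : Submodule F (nil B) :=
      { carrier := {a | Inv a.1 Y}
        add_mem' ha hb v hv := Y.add_mem (ha v hv) (hb v hv)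
        zero_mem' _ _ := Y.zero_mem
        smul_mem' c _ ha v hv := Y.smul_mem c (ha v hv) }
    let r : M →+ nil (B.comap Y.subtype) := AddMonoidHom.mk' (fun a => ⟨a.1.1.restrict a.2, fun v => a.1.2.1 v,
      fun v hv => Subtype.ext (a.1.2.2 v hv)⟩) fun _ _ => rfl
    have := sum_comp_surj r (fun a => ?_) (ih _ (hn ▸ Submodule.finrank_lt e1) (x := (x + u.1).restrict hu)
      ((inv_add h u.2).comap _ fun _ => rfl) (fun e => e2 ⟨?_, codisjoint_iff.2 e4⟩) (fun e => h1 ?_) rfl)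
    · rw [← Equiv.sum_comp (Equiv.addLeft u), ← sum_filter, ← this, sum_subtype (p := (· ∈ M))]
      · refine sum_congr rfl fun a _ => ?_
        exact (P_restrict (x := x + (u + a.1).1) fun v hv => by
          simpa [add_assoc] using Y.add_mem (hu v hv) (a.2 v hv)).trans (congrArg (P ψ · ⊤)
            (LinearMap.ext fun v => Subtype.ext (add_assoc (x v) _ _).symm))
      · simp only [mem_filter, mem_univ, true_and, e3, and_true]
        exact fun a => ⟨fun e v hv => by simpa using Y.sub_mem (e v hv) (hu v hv),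
          fun e v hv => by simpa [add_assoc] using Y.add_mem (hu v hv) (e v hv)⟩
    · obtain ⟨k, hk⟩ := exists_factor (B.mkQ ∘ₗ Y.subtype) ((Y.subtype ∘ₗ a.1).codRestrict B a.2.1) fun v hv =>
        Subtype.ext (congrArg Y.subtype (a.2.2 v (by simpa using hv)))
      have hk' : ∀ v : Y, (B.subtype ∘ₗ k ∘ₗ B.mkQ) v = a.1 v := fun v => congrArg Subtype.val (hk v)
      exact ⟨⟨⟨B.subtype ∘ₗ k ∘ₗ B.mkQ, fun v => (k _).2, fun v hv => by
        simp [(Submodule.Quotient.mk_eq_zero _).2 hv]⟩, fun v hv => hk' ⟨v, hv⟩ ▸ (a.1 _).2⟩,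
        Subtype.ext (LinearMap.ext fun v => Subtype.ext (hk' v))⟩
    · rwa [← Submodule.disjoint_iff_comap_eq_bot, disjoint_comm] at e
    · rw [← e4, left_eq_sup, ← Submodule.comap_subtype_eq_top, e]
  simp only [sum_filter] at k1
  rw [sum_comm, sum_congr rfl fun Y _ => k2 Y, sum_add_distrib, sum_ite_eq', if_pos (mem_univ _), ← sum_filter,
    sum_const, nsmul_eq_mul, card_nil, ← card_isCompl, Nat.card_eq_fintype_card, Fintype.card_subtype] at k1
  exact add_eq_right.1 k1

end Cfsg.Lib.Stein.Green
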