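import Cfsg.Agent.Lib.Stein.Cusp1

/-!
Primitive class functions of the general linear groups: degree, integrality, values at cyclic elements.
-/

set_option autoImplicit false

namespace Cfsg.Lib.Stein.Green

open Module Finset Cfsg.Lib.Elu Cfsg.Lib.Known Cfsg.Lib.Conj Cfsg.Lib.Char Cfsg.Lib.Stein.Mob Polynomial

attribute [local instance] Classical.propDecidable

universe u v w

theorem gen_fix_sum {G X : Type*} [Group G] [Finite G] [MulAction G X] [Fintype X] (φ : X → G → ℂ)
    (hφ : ∀ g w h, φ (g • w) (g * h * g⁻¹) = φ w h)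
    (hg : ∀ w, IsGeneralizedCharacter (MulAction.stabilizer G w) fun h => φ w h) :
    IsGeneralizedCharacter G fun h => ∑ w with h • w = w, φ w h := by
  have := Fintype.ofFinite G
  have := Fintype.ofFinite (MulAction.orbitRel.Quotient G X)
  convert isGeneralizedCharacter_sum univ fun (o : MulAction.orbitRel.Quotient G X) _ => (hg o.out).indFun using 1
  funext h
  rw [Finset.sum_apply, ← sum_fiberwise _ (Quotient.mk (MulAction.orbitRel G X))]
  refine sum_congr rfl fun o _ => ?_
  rw [indFun_apply, eq_inv_mul_iff_mul_eq₀ (Nat.cast_ne_zero.2 Nat.card_pos.ne'),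
    ← sum_fiberwise univ fun g : G => g • o.out, mul_sum, filter_filter, sum_filter]
  refine sum_congr rfl fun w _ => ?_
  have h1 : ∀ g : G, g • o.out = w → extendByZero (MulAction.stabilizer G o.out) (fun a => φ o.out a) (g⁻¹ * h * g) =
      if h • w = w then φ w h else 0 := fun g e => by
    rw [extendByZero_restrict (φ o.out), ← hφ g, e]
    refine if_congr ?_ (by congr 1; group) rfl
    rw [MulAction.mem_stabilizer_iff, mul_smul, mul_smul, e, inv_smul_eq_iff, e]
  rw [sum_congr rfl fun g hg => h1 g (mem_filter.1 hg).2, sum_const, nsmul_eq_mul]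
  by_cases h2 : Quotient.mk (MulAction.orbitRel G X) w = o
  · obtain ⟨g, rfl⟩ : w ∈ MulAction.orbit G o.out := Quotient.exact (h2.trans o.out_eq.symm)
    simp only [h2, and_true, mul_ite, mul_zero]
    congr 3
    rw [← Nat.card_eq_finsetCard]
    exact Nat.card_congr ((Equiv.mulLeft g).subtypeEquiv fun a => by simp [mul_smul])
  · rw [if_neg fun e => h2 e.2, card_eq_zero.2 (filter_eq_empty_iff.2 fun g _ e => h2 ?_), Nat.cast_zero, zero_mul]
    exact (Quotient.sound (MulAction.orbitRel_apply.2 ⟨g, e⟩)).trans o.out_eq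

variable {F : Type u} [Field F] [Finite F] {V : Type v} [AddCommGroup V] [Module F V] [FiniteDimensional F V]
  {x : End F V} {B U W : Submodule F V}

section Add

variable {ψ : F[X] → ℂ} (hψ : ∀ f g : F[X], f.Monic → g.Monic → ψ (f * g) = ψ f + ψ g)
include hψ

theorem P_bot : P ψ x ⊥ = 0 := by
  rw [P_eq, cp_bot]
  simpa using hψ 1 1 monic_one monic_one

theorem P_one (h1 : ψ (X - 1) = 1) {n : ℕ} (hn : finrank F V = n + 1) :
    P ψ (1 : End F V) ⊤ = ∏ i ∈ Ico 1 (n + 1), (1 - (Nat.card F : ℂ) ^ i) := by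
  induction n generalizing V with
  | zero =>
    have := is_simple_module_of_finrank_eq_one (A := F) hn
    rw [P_eq, sum_eq_zero fun W hW => by rw [(IsSimpleOrder.eq_bot_of_lt (mem_filter.1 hW).2.2), P_bot hψ], cp_top,
      LinearMap.charpoly_one, hn]
    simpa
  | succ n ih =>
    obtain ⟨v, hv⟩ := finrank_pos_iff_exists_ne_zero.1 (hn ▸ Nat.succ_pos _ : 0 < finrank F V)
    have h2 := finrank_span_singleton (K := F) hv
    have h3 := (F ∙ v).finrank_quotient_add_finrank
    have h4 : finrank F (V ⧸ F ∙ v) = n + 1 := by omega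
    have h5 := P_quot hψ (x := 1) (B := F ∙ v) (fun _ h => h) fun e => by rw [e, finrank_top] at h2; omega
    rw [← add_sum_erase _ _ (a := ⊤) (mem_filter.2 ⟨mem_univ _, inv_top, by simp⟩),
      show (F ∙ v).mapQ (F ∙ v) 1 _ = 1 from (F ∙ v).mapQ_id _,
      show erase _ ⊤ = univ.filter (IsCompl (F ∙ v)) from ?_, sum_congr rfl (g := fun _ => P ψ (1 : End F (V ⧸ F ∙ v)) ⊤),
      sum_const, ← Fintype.card_subtype, ← Nat.card_eq_fintype_card, card_isCompl, natCard_eq_pow_finrank (K := F),
      finrank_linearMap, h2, h4, ih h4] at h5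
    · rw [prod_Ico_succ_top (by omega), eq_sub_of_add_eq h5, nsmul_eq_mul]
      push_cast
      ring
    · intro Y hY
      have hY := (mem_filter.1 hY).2
      rw [← (Submodule.map_mkQ_eq_top _ _).2 hY.sup_eq_top]
      exact (P_map (F ∙ v).mkQ (x := 1) (U := Y) (fun _ h => h) (by simpa using hY.symm.disjoint) fun _ _ => rfl).symm
    · ext Y
      simp only [mem_erase, mem_filter, mem_univ, true_and, Submodule.map_mkQ_eq_top]
      refine ⟨fun e => ⟨(Submodule.disjoint_span_singleton' hv).2 (fun h => e.1 ?_) |>.symm, codisjoint_iff.2 e.2.2⟩,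
        fun e => ⟨fun e' => hv ?_, fun _ h => h, e.sup_eq_top⟩⟩
      · rw [← e.2.2, right_eq_sup, Submodule.span_singleton_le_iff_mem]; exact h
      · exact Submodule.span_singleton_eq_bot.1 (eq_bot_of_isCompl_top (e' ▸ e))

theorem orth (h0 : B ≠ ⊥) (h1 : B ≠ ⊤) (G : End F V → ℂ) (hG : ∀ x, Inv x B → ∀ u ∈ nil B, G (x + u) = G x) :
    ∑ x with Inv x B, G x * P ψ x ⊤ = 0 := by
  refine mul_left_cancel₀ (a := (Fintype.card (nil B) : ℂ)) (Nat.cast_ne_zero.2 Fintype.card_ne_zero) ?_
  rw [mul_zero, ← nsmul_eq_mul, ← card_univ, ← sum_const, sum_congr rfl (g := fun u => ∑ x with Inv x B,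
    G x * P ψ (x + u.1) ⊤), sum_comm]
  · exact sum_eq_zero fun x hx => by rw [← mul_sum, prim hψ (mem_filter.1 hx).2 h0 h1, mul_zero]
  · refine fun u _ => (sum_bij' (fun x _ => x + u.1) (fun x _ => x + (-u).1) ?_ ?_ (by simp) (by simp) ?_).symm <;>
      simp only [mem_filter, mem_univ, true_and]
    exacts [fun x hx => inv_add hx u.2, fun x hx => inv_add hx (-u).2, fun x hx => by rw [hG x hx u u.2]]

end Add

omit [Finite F] in
theorem isUnit_add (h : Inv x B) {u : End F V} (hu : u ∈ nil B) : IsUnit (x + u) ↔ IsUnit x := by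
  have : ∀ {x u : End F V}, Inv x B → u ∈ nil B → IsUnit x → IsUnit (x + u) := fun {x u} h hu hx =>
    isUnit_of_inj fun v hv => by
      obtain ⟨w, hw, e⟩ := surj_of_inv hx h (v := x v) (by
        rw [eq_neg_of_add_eq_zero_left hv]; exact B.neg_mem (hu.1 v))
      obtain rfl := ((Module.End.isUnit_iff _).1 hx).1 e
      exact inj_of_isUnit hx (by simpa [hu.2 w hw] using hv)
  exact ⟨fun e => by simpa using this (inv_add h hu) ((nil B).neg_mem hu) e, this h hu⟩

omit [Finite F] in
theorem charpoly_add (h : Inv x B) {u : End F V} (hu : u ∈ nil B) : (x + u).charpoly = x.charpoly := by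
  rw [charpoly_quot h, charpoly_quot (inv_add h hu), mapQ_add h hu]
  congr 2
  exact LinearMap.ext fun v => Subtype.ext (by simp [hu.2 v v.2])

section Cyc

omit [Finite F]

theorem exists_equiv_of_cyc {v : V} (h : Cyc x v) :
    ∃ e : AdjoinRoot x.charpoly ≃ₗ[F] V, ∀ g, e (AdjoinRoot.mk _ g) = aeval x g v := by
  obtain ⟨k, hk⟩ := exists_factor (AdjoinRoot.mkₐ x.charpoly).toLinearMap
    ((LinearMap.applyₗ v).comp (aeval x).toLinearMap) fun g hg => by
      obtain ⟨g, rfl⟩ := AdjoinRoot.mk_eq_zero.1 hg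
      simp [x.aeval_self_charpoly]
  have := finiteDimensional_adjoinRoot x.charpoly_monic.ne_zero
  have h1 : Function.Surjective k := fun w => let ⟨g, hg⟩ := h w; ⟨_, (hk g).trans hg⟩
  exact ⟨LinearEquiv.ofBijective k ⟨(LinearMap.injective_iff_surjective_of_finrank_eq_finrank
    ((finrank_adjoinRoot _).trans x.charpoly_natDegree)).2 h1, h1⟩, hk⟩

omit [FiniteDimensional F V] in
theorem sim_of_equiv {h : F[X]} {v : V} {e : AdjoinRoot h ≃ₗ[F] V} (he : ∀ g, e (AdjoinRoot.mk _ g) = aeval x g v) (a) :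
    e (rt h a) = x (e a) := by
  obtain ⟨g, rfl⟩ := AdjoinRoot.mk_surjective a
  rw [rt_apply, ← AdjoinRoot.mk_X, ← map_mul, he, he]; simp

theorem card_cyc {h : F[X]} (hm : h.Monic) (hd : h.natDegree = finrank F V) :
    Nat.card {a : End F V × V // Cyc a.1 a.2 ∧ a.1.charpoly = h} = Nat.card (End F V)ˣ := by
  have := finiteDimensional_adjoinRoot hm.ne_zero
  have h1 : ∀ (e : AdjoinRoot h ≃ₗ[F] V) g, e (AdjoinRoot.mk _ g) = aeval (e.conj (rt h)) g (e 1) := fun e g =>
    (congrArg e (by simp [aeval_rt])).trans (aeval_intertwine (f := rt h) e.toLinearMap (by simp) g 1)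
  let e := LinearEquiv.ofFinrankEq _ V ((finrank_adjoinRoot h).trans hd)
  rw [Nat.card_congr (LinearMap.GeneralLinearGroup.generalLinearEquiv F V).toEquiv, ← Nat.card_congr
    (⟨e.symm.trans, e.trans, fun _ => by ext; simp, fun _ => by ext; simp⟩ : (AdjoinRoot h ≃ₗ[F] V) ≃ (V ≃ₗ[F] V))]
  refine (Nat.card_congr (Equiv.ofBijective (fun e => ⟨(e.conj (rt h), e 1), fun w =>
    (AdjoinRoot.mk_surjective (e.symm w)).imp fun g hg => by rw [← h1, hg, e.apply_symm_apply],
    (e.charpoly_conj _).trans (charpoly_rt hm)⟩) ⟨fun a b hab => LinearEquiv.ext fun w => ?_, ?_⟩)).symm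
  · obtain ⟨g, rfl⟩ := AdjoinRoot.mk_surjective w
    obtain ⟨h2, h3⟩ := Prod.ext_iff.1 (congrArg Subtype.val hab)
    exact (h1 a g).trans ((congrArg₂ (fun (a : End F V) b => aeval a g b) h2 h3).trans (h1 b g).symm)
  · rintro ⟨⟨x, v⟩, hv, rfl⟩
    obtain ⟨e, he⟩ := exists_equiv_of_cyc hv
    exact ⟨e, Subtype.ext (Prod.ext (LinearMap.ext fun w => by simp [sim_of_equiv he]) (by simpa using he 1))⟩

variable {v : V} (hv : Cyc x v) {g : F[X]}
include hv

theorem kd_cyc (hg : g ∣ x.charpoly) : finrank F (LinearMap.ker (aeval x g)) = g.natDegree := by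
  obtain ⟨e, he⟩ := exists_equiv_of_cyc hv
  obtain ⟨b, hb⟩ := hg
  have := kd_rt_mul g b (right_ne_zero_of_mul (hb ▸ x.charpoly_monic.ne_zero))
  rwa [← hb, Sim.kd_eq ⟨e, sim_of_equiv he⟩] at this

omit hv [FiniteDimensional F V] in
theorem inv_ker (g : F[X]) : Inv x (LinearMap.ker (aeval x g)) := fun v hv => by
  rw [LinearMap.mem_ker, ← Module.End.mul_apply, ← (commute_aeval (Commute.refl x) g).eq, Module.End.mul_apply, hv, map_zero]

omit hv in
theorem le_ker_cp (h : Inv x W) : W ≤ LinearMap.ker (aeval x (cp x W)) := fun w hw => by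
  rw [LinearMap.mem_ker, ← aeval_restrict h _ ⟨w, hw⟩, cp_eq h, LinearMap.aeval_self_charpoly]; rfl

omit hv in
theorem cp_dvd (h : Inv x W) : cp x W ∣ x.charpoly := by
  rw [cp_eq h, charpoly_quot h]; exact dvd_mul_right _ _

theorem ker_cp (h : Inv x W) : LinearMap.ker (aeval x (cp x W)) = W :=
  (Submodule.eq_of_le_of_finrank_eq (le_ker_cp h) (by rw [kd_cyc hv (cp_dvd h), cp_natDegree h])).symm

theorem dvd_of_ker_le (hm : g.Monic) (hg : g ∣ x.charpoly) {a : F[X]}
    (h : LinearMap.ker (aeval x g) ≤ LinearMap.ker (aeval x a)) : g ∣ a := by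
  have h1 : ∀ b, LinearMap.ker (aeval x g) ≤ LinearMap.ker (aeval x b) ↔ minpoly F (x.restrict (inv_ker g)) ∣ b :=
    fun b => by
      rw [minpoly.dvd_iff]
      exact ⟨fun e => LinearMap.ext fun w => Subtype.ext ((aeval_restrict _ b w).trans (e w.2)),
        fun e w hw => (aeval_restrict _ b ⟨w, hw⟩).symm.trans (by rw [e]; rfl)⟩
  have h2 := (h1 g).1 le_rfl
  have h3 := Submodule.finrank_mono ((h1 _).2 dvd_rfl)
  rw [kd_cyc hv hg, kd_cyc hv (h2.trans hg)] at h3
  rw [eq_of_monic_of_dvd_of_natDegree_le (minpoly.monic (Algebra.IsIntegral.isIntegral _)) hm h2 h3]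
  exact (h1 a).1 h

theorem cp_ker (hm : g.Monic) (hg : g ∣ x.charpoly) : cp x (LinearMap.ker (aeval x g)) = g :=
  eq_of_monic_of_dvd_of_natDegree_le hm cp_monic (dvd_of_ker_le hv hm hg (le_ker_cp (inv_ker g)))
    (by rw [cp_natDegree (inv_ker g), kd_cyc hv hg])

end Cyc

variable {K : Type*} [Field K] [Fintype K] [Algebra F K]

/-- The additive function attached to a multiplicative character. -/
noncomputable def psi (θ : K →*₀ ℂ) (f : F[X]) : ℂ := ((f.map (algebraMap F K)).roots.map θ).sum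

/-- The von Mangoldt function attached to a multiplicative character. -/
noncomputable def lam (θ : K →*₀ ℂ) (f : F[X]) : ℂ := ∑ t with ∃ m, 0 < m ∧ f = minpoly F t ^ m, θ t

variable {θ : K →*₀ ℂ}

omit [Finite F] [Fintype K] in
theorem psi_mul (f g : F[X]) (hf : f.Monic) (hg : g.Monic) : psi θ (f * g) = psi θ f + psi θ g := by
  rw [psi, Polynomial.map_mul, roots_mul ((hf.map _).mul (hg.map _)).ne_zero, Multiset.map_add, Multiset.sum_add]; rfl

theorem count_roots_map (t : K) {h : F[X]} (hh : h ≠ 0) :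
    (h.map (algebraMap F K)).roots.count t = multiplicity (minpoly F t) h := by
  have hi := Algebra.IsIntegral.isIntegral (R := F) t
  have h1 := minpoly.irreducible hi
  obtain ⟨r, hr, h2⟩ := (FiniteMultiplicity.of_not_isUnit h1.not_isUnit hh).exists_eq_pow_mul_and_not_dvd
  have h3 : r ≠ 0 := right_ne_zero_of_mul (hr ▸ hh)
  have h4 : ((minpoly F t).map (algebraMap F K)).roots.count t = 1 := Multiset.count_eq_one_of_mem
    (nodup_roots (Separable.map (Algebra.IsSeparable.isSeparable F t)))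
    ((mem_roots (map_ne_zero h1.ne_zero)).2 (by simp [IsRoot, eval_map_algebraMap]))
  conv_lhs => rw [hr, Polynomial.map_mul, Polynomial.map_pow, roots_mul (mul_ne_zero (pow_ne_zero _
    (map_ne_zero h1.ne_zero)) (map_ne_zero h3)), roots_pow, Multiset.count_add, Multiset.count_nsmul, h4]
  rw [Multiset.count_eq_zero.2 fun e => h2 (minpoly.dvd F t (by
    simpa [IsRoot, eval_map_algebraMap] using (mem_roots (map_ne_zero h3)).1 e)), mul_one, add_zero]

theorem P_cyc {v : V} (hv : Cyc x v) : P (psi θ) x ⊤ = lam θ x.charpoly := by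
  rw [← cp_top]
  refine (eq_P (U := ⊤) (f := fun W => lam θ (cp x W)) (fun U _ hU => ?_) ⊤ le_rfl inv_top).symm
  rw [psi, sum_multiset_map_count, sum_subset (subset_univ (Multiset.toFinset _)) fun t _ ht => by
    rw [Multiset.count_eq_zero.2 (by simpa using ht), zero_smul]]
  simp only [lam, sum_filter (s := (univ : Finset K))]
  rw [sum_comm]
  refine sum_congr rfl fun t _ => ?_
  rw [← sum_filter, sum_const, filter_filter, count_roots_map t cp_monic.ne_zero]
  congr 1
  have hi := Algebra.IsIntegral.isIntegral (R := F) t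
  have h1 := FiniteMultiplicity.of_not_isUnit (minpoly.irreducible hi).not_isUnit (cp_monic (x := x) (U := U)).ne_zero
  rw [← Nat.add_sub_cancel (n := multiplicity _ _) (m := 1), ← Nat.card_Icc]
  symm
  refine card_bij (fun m _ => LinearMap.ker (aeval x (minpoly F t ^ m))) (fun m hm => ?_) (fun a ha b hb e => ?_)
    fun W hW => ?_
  · have h2 := h1.pow_dvd_iff_le_multiplicity.2 (mem_Icc.1 hm).2
    refine mem_filter.2 ⟨mem_univ _, ⟨inv_ker _, ?_⟩, m, (mem_Icc.1 hm).1,
      cp_ker hv ((minpoly.monic hi).pow m) (h2.trans (cp_dvd hU))⟩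
    obtain ⟨c, hc⟩ := h2
    rw [← ker_cp hv hU, hc, mul_comm, map_mul]
    exact LinearMap.ker_le_ker_comp _ _
  · have h2 := fun m (hm : m ∈ Icc 1 _) => kd_cyc hv ((h1.pow_dvd_iff_le_multiplicity.2 (mem_Icc.1 hm).2).trans (cp_dvd hU))
    have h3 := h2 a ha
    rw [e, h2 b hb, natDegree_pow, natDegree_pow] at h3
    exact (Nat.eq_of_mul_eq_mul_right (minpoly.natDegree_pos hi) h3).symm
  · obtain ⟨-, ⟨h2, h3⟩, m, h4, h5⟩ := mem_filter.1 hW
    refine ⟨m, mem_Icc.2 ⟨h4, h1.pow_dvd_iff_le_multiplicity.1 ?_⟩, by rw [← h5, ker_cp hv h2]⟩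
    rw [← h5]
    exact dvd_of_ker_le hv cp_monic (cp_dvd h2) (by rwa [ker_cp hv h2, ker_cp hv hU])

theorem gen_P {p : ℕ} [Fact p.Prime] [CharP K p] (hθ : Function.Injective θ)
    (hK : ∀ f : F[X], f.natDegree ≤ finrank F V → (f.map (algebraMap F K)).Splits) (U : Submodule F V)
    (G : Type w) [Group G] [Finite G] (hG : ∀ g : G, ¬ p ∣ orderOf g → orderOf g ∣ Nat.card K - 1) (ρ : G →* End F V)
    (hU : ∀ g, Inv (ρ g) U) : IsGeneralizedCharacter G fun g => P (psi θ) (ρ g) U := by
  induction U using WellFoundedLT.induction generalizing G with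
  | ind U ih =>
  let _ : MulAction G (Submodule F V) :=
    { smul g W := W.map (ρ g)
      one_smul W := by change W.map _ = W; rw [map_one]; exact W.map_id
      mul_smul a b W := by change W.map _ = (W.map _).map _; rw [map_mul, ← Submodule.map_comp]; rfl }
  have h1 : ∀ (g : G) (W : Submodule F V), g • W = W ↔ Inv (ρ g) W := fun g W => map_eq_iff_inv ((Group.isUnit g).map ρ)
  have h2 : ∀ (g : G) (W : Submodule F V), g • W < U ↔ W < U := fun g W => by
    conv_lhs => rw [← (h1 g U).2 (hU g)]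
    exact Submodule.map_lt_map_iff_of_injective ((Module.End.isUnit_iff _).1 ((Group.isUnit g).map ρ)).1
  let σ : G →* End F U :=
    { toFun g := (ρ g).restrict (hU g)
      map_one' := LinearMap.ext fun v => Subtype.ext (by simp)
      map_mul' a b := LinearMap.ext fun v => Subtype.ext (by simp) }
  have h3 := gen_lift hθ hG ((Module.End.baseChangeHom F K U).toRingHom.toMonoidHom.comp σ) fun g => by
    change ((σ g).baseChange K).charpoly.Splits
    rw [LinearMap.charpoly_baseChange]
    exact hK _ ((σ g).charpoly_natDegree.trans_le U.finrank_le)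
  have h4 := gen_fix_sum (G := G) (fun W g => if Inv (ρ g) W ∧ W < U then P (psi θ) (ρ g) W else 0)
    (fun g W h => ?_) fun W => ?_
  · convert h3.sub h4 using 2 with g
    rw [P_eq, Pi.sub_apply, cp_eq (hU g), ← sum_filter, filter_filter]
    congr 1
    · change _ = lift θ ((σ g).baseChange K)
      rw [lift, LinearMap.charpoly_baseChange]; rfl
    · exact sum_congr (filter_congr fun W _ => by rw [h1, and_self_left]) fun _ _ => rfl
  · refine ite_congr (by rw [h2, ← h1, ← h1, mul_smul, inv_smul_smul, mul_smul, smul_left_cancel_iff]) (fun e => ?_)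
      fun _ => rfl
    exact P_map (ρ g) e.1 (by simp [LinearMap.ker_eq_bot.2 ((Module.End.isUnit_iff _).1 ((Group.isUnit g).map ρ)).1])
      fun v _ => by simp [← Module.End.mul_apply, ← map_mul]
  · by_cases e : W < U
    · convert ih W e (MulAction.stabilizer G W) (fun g hg => by simpa using hG g (by simpa using hg))
        (ρ.comp (Subgroup.subtype _)) fun g => (h1 g W).1 g.2 using 2 with g
      exact if_pos ⟨(h1 g W).1 g.2, e⟩
    · simp only [e, and_false, if_false]
      exact isGeneralizedCharacter_zero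

end Cfsg.Lib.Stein.Green
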