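import Cfsg.Agent.Lib.Stein.Cusp2

/-!
Inner products of the primitive class functions of the general linear groups.
-/

set_option autoImplicit false

namespace Cfsg.Lib.Stein.Green

open Module Finset Cfsg.Lib.Elu Cfsg.Lib.Known Cfsg.Lib.Conj Cfsg.Lib.Char Cfsg.Lib.Stein.Mob Polynomial
open scoped ComplexConjugate

attribute [local instance] Classical.propDecidable

universe u v

variable {F : Type u} [Field F] [Finite F] {V : Type v} [AddCommGroup V] [Module F V] [FiniteDimensional F V]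
  {K : Type*} [Field K] [Fintype K] [Algebra F K] {θ θ' : K →*₀ ℂ}

theorem pow_eq_self_iff (t : K) (k : ℕ) : t ^ Nat.card F ^ k = t ↔ (minpoly F t).natDegree ∣ k := by
  rw [(minpoly.irreducible (Algebra.IsIntegral.isIntegral t)).natDegree_dvd_iff_dvd_X_pow_card_pow_sub_X, minpoly.dvd_iff]
  simp [sub_eq_zero]

omit [Fintype K] in
theorem minpoly_frob (t : K) (i : ℕ) : minpoly F (t ^ Nat.card F ^ i) = minpoly F t := by
  have := Fintype.ofFinite F
  rw [← minpoly.algHom_eq (FiniteField.frobeniusAlgHom F K ^ i) (RingHom.injective _) t, AlgHom.coe_pow,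
    FiniteField.coe_frobeniusAlgHom, pow_iterate, Nat.card_eq_fintype_card]

theorem psi_minpoly_pow (t : K) (m : ℕ) :
    psi θ (minpoly F t ^ m) = ∑ i ∈ range ((minpoly F t).natDegree * m), θ (t ^ Nat.card F ^ i) := by
  have hi := Algebra.IsIntegral.isIntegral (R := F) t
  have h0 := map_ne_zero (f := algebraMap F K) (minpoly.ne_zero hi)
  have h1 : (range (minpoly F t).natDegree).val.map (fun i => t ^ Nat.card F ^ i) =
      ((minpoly F t).map (algebraMap F K)).roots := by
    refine Multiset.eq_of_le_of_card_le ((Multiset.le_iff_subset ((range _).nodup.map_on fun i hi j hj e => ?_)).2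
      fun s hs => ?_) ((card_roots' _).trans (by simp))
    · wlog h : i ≤ j generalizing i j
      · exact (this j hj i hi e.symm (le_of_not_ge h)).symm
      obtain ⟨k, rfl⟩ := Nat.exists_eq_add_of_le h
      rw [pow_add, pow_mul, eq_comm, pow_eq_self_iff, minpoly_frob] at e
      rw [Nat.eq_zero_of_dvd_of_lt e (by have := Multiset.mem_range.1 hj; omega), add_zero]
    · obtain ⟨i, -, rfl⟩ := Multiset.mem_map.1 hs
      rw [mem_roots h0, IsRoot, eval_map_algebraMap, ← minpoly_frob t i, minpoly.aeval]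
  induction m with
  | zero => simp [psi]
  | succ m ih =>
    rw [pow_succ, psi_mul _ _ ((minpoly.monic hi).pow m) (minpoly.monic hi), ih, mul_add_one, sum_range_add, psi, ← h1,
      Multiset.map_map]
    simp only [pow_add, pow_mul t, (pow_eq_self_iff t _).2 (dvd_mul_right _ m)]
    rfl

omit [Fintype K] in
theorem sum_P_mul : ∑ x : End F V with IsUnit x, P (psi θ) x ⊤ * P (psi θ') x ⊤ =
    ∑ x : End F V with IsUnit x, psi θ x.charpoly * P (psi θ') x ⊤ := by
  rw [← sub_eq_zero, ← sum_sub_distrib, ← neg_eq_zero, ← sum_neg_distrib, sum_congr rfl (g := fun x =>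
    ∑ W, if Inv x W ∧ W < ⊤ then P (psi θ) x W * P (psi θ') x ⊤ else 0) fun x _ => by
      rw [P_eq (psi θ), cp_top, ← sum_filter, ← sum_mul]; ring, sum_comm]
  refine sum_eq_zero fun W _ => ?_
  by_cases h0 : W = ⊥
  · simp [h0, P_bot psi_mul]
  by_cases h1 : W = ⊤
  · simp [h1]
  refine Eq.trans ?_ (orth (ψ := psi θ') psi_mul h0 h1 (fun x => if IsUnit x then P (psi θ) x W else 0)
    fun x hx u hu => by simp only [isUnit_add hx hu, P_congr (y := x + u) hx fun v hv => by simp [hu.2 v hv]])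
  rw [sum_filter, sum_filter]
  exact sum_congr rfl fun x _ => by simp only [lt_top_iff_ne_top, h1, ne_eq]; split_ifs <;> simp_all

omit [Finite F] [FiniteDimensional F V] in
theorem orb_add {x u : End F V} {C : Submodule F V} (h : Inv x C) (hu : u ∈ nil C) (v : V) :
    orb (x + u) v = C ↔ orb x v = C := by
  by_cases hv : v ∈ C
  · rw [show orb (x + u) v = orb x v from Submodule.ext fun w => exists_congr fun g => Eq.congr_left
      ((aeval_intertwine (g := x + u) C.subtype (fun w => by simp [hu.2 w w.2]) g ⟨v, hv⟩).symm.trans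
        (aeval_restrict h g ⟨v, hv⟩))]
  · exact iff_of_false (fun e => hv (e ▸ self_mem_orb v)) fun e => hv (e ▸ self_mem_orb v)

theorem inner_P [Nontrivial V] : (Nat.card F ^ finrank F V - 1 : ℂ) *
    ∑ x : End F V with IsUnit x, P (psi θ) x ⊤ * P (psi θ') x ⊤ = Nat.card (End F V)ˣ *
      ∑ t with t ^ Nat.card F ^ finrank F V = t, (∑ i ∈ range (finrank F V), θ (t ^ Nat.card F ^ i)) * θ' t := by
  have := Module.finite_of_finite F (M := V)
  have := Fintype.ofFinite V
  have h1 : ∀ v : V, v ≠ 0 → ∑ x : End F V with IsUnit x, psi θ x.charpoly * P (psi θ') x ⊤ =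
      ∑ x : End F V with Cyc x v, psi θ x.charpoly * lam θ' x.charpoly := fun v hv => by
    rw [sum_filter, ← sum_fiberwise univ fun x => orb x v, sum_eq_single ⊤ (fun C _ hC => ?_) (by simp)]
    · refine sum_congr (filter_congr fun x _ => cyc_iff.symm) fun x hx => ?_
      rw [P_cyc (mem_filter.1 hx).2]
      refine ite_eq_left_iff.2 fun h => (mul_eq_zero_of_right _ (sum_eq_zero fun t ht => ?_)).symm
      obtain ⟨-, m, -, hm⟩ := mem_filter.1 ht
      refine (map_eq_zero θ').2 (by_contra fun h0 => h (isUnit_of_inj fun w hw => by_contra fun h1 => ?_))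
      have := x.charpoly_constantCoeff_eq_zero_iff.2 ⟨w, h1, hw⟩
      rw [hm, map_pow] at this
      exact minpoly.coeff_zero_ne_zero (Algebra.IsIntegral.isIntegral t) h0 (pow_eq_zero_iff'.1 this).1
    by_cases h0 : C = ⊥
    · exact sum_eq_zero fun x hx => (hv ((Submodule.mem_bot F).1 (h0 ▸ (mem_filter.1 hx).2 ▸ self_mem_orb v))).elim
    refine Eq.trans ?_ (orth (ψ := psi θ') psi_mul h0 hC (fun x => if orb x v = C ∧ IsUnit x then psi θ x.charpoly
      else 0) fun x hx u hu => by simp only [isUnit_add hx hu, charpoly_add hx hu, orb_add hx hu])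
    rw [sum_filter, sum_filter]
    refine sum_congr rfl fun x _ => ?_
    by_cases e : orb x v = C
    · rw [if_pos e, if_pos (show Inv x C from e ▸ orb_inv v)]; simp [e]
    · simp [e]
  have h2 : ∑ x : End F V with Cyc x 0, psi θ x.charpoly * lam θ' x.charpoly = 0 :=
    sum_eq_zero fun x hx => by
      obtain ⟨w, hw⟩ := exists_ne (0 : V)
      obtain ⟨g, hg⟩ := (mem_filter.1 hx).2 w
      exact (hw (by simpa using hg.symm)).elim
  have h3 : (Nat.card F ^ finrank F V - 1 : ℂ) = #(univ.erase (0 : V)) := by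
    rw [← Nat.cast_pow, ← natCard_eq_pow_finrank, Nat.card_eq_fintype_card, card_erase_of_mem (mem_univ _),
      Nat.cast_pred (card_pos.2 univ_nonempty), card_univ]
  rw [sum_P_mul, h3, ← nsmul_eq_mul, ← sum_const, sum_congr rfl fun v hv => h1 v (ne_of_mem_erase hv),
    sum_erase (f := fun v => ∑ x : End F V with Cyc x v, _) _ h2, mul_sum, sum_filter,
    ← sum_finset_product_right' (univ.filter fun a : End F V × V => Cyc a.1 a.2) univ _ (by simp)]
  simp only [lam, mul_sum, sum_filter (s := (univ : Finset K))]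
  rw [sum_comm]
  refine sum_congr rfl fun t _ => ?_
  have hi := Algebra.IsIntegral.isIntegral (R := F) t
  have h4 : ∀ {x : End F V} {m}, x.charpoly = minpoly F t ^ m → finrank F V = (minpoly F t).natDegree * m := fun e => by
    rw [← LinearMap.charpoly_natDegree, e, natDegree_pow, mul_comm]
  simp only [mul_ite, mul_zero, pow_eq_self_iff]
  rw [← sum_filter, filter_filter]
  split_ifs with h
  · obtain ⟨m, hm⟩ := h
    rw [← card_cyc ((minpoly.monic hi).pow m) (by rw [natDegree_pow, hm, mul_comm]), hm, ← psi_minpoly_pow,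
      Nat.card_eq_fintype_card, Fintype.card_subtype, ← nsmul_eq_mul, ← sum_const]
    refine sum_congr (filter_congr fun a _ => and_congr_right fun _ => ⟨fun ⟨k, _, hk⟩ => ?_, fun e =>
      ⟨m, Nat.pos_of_mul_pos_left (hm ▸ finrank_pos), e⟩⟩) fun a ha => by rw [(mem_filter.1 ha).2.2]
    rwa [← Nat.eq_of_mul_eq_mul_left (minpoly.natDegree_pos hi) ((h4 hk).symm.trans hm)]
  · exact sum_eq_zero fun a ha => let ⟨_, _, m, _, hm⟩ := mem_filter.1 ha; (h ⟨m, h4 hm⟩).elim

omit [Finite F] [Algebra F K] in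
theorem sum_pow_eq {N : ℕ} (hN : 0 < N) {ζ : K} (hζ : IsPrimitiveRoot ζ N) (g : K →*₀ ℂ) :
    ∑ t with t ^ (N + 1) = t, g t = if g ζ = 1 then N else 0 := by
  have : NeZero N := ⟨hN.ne'⟩
  rw [← add_sum_erase _ _ (a := 0) (by simp), map_zero, zero_add, ← sum_bij (s := range N) (fun k _ => ζ ^ k)
    (f := fun k => g ζ ^ k) (fun k _ => ?_) (fun i hi j hj => hζ.pow_inj (mem_range.1 hi) (mem_range.1 hj))
    (fun t ht => ?_) fun k _ => (map_pow _ _ _).symm]
  · split_ifs with e
    · simp [e]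
    · rw [geom_sum_eq e, ← map_pow, hζ.pow_eq_one]; simp
  · simp [hζ.ne_zero hN.ne', pow_succ, pow_right_comm ζ k N, hζ.pow_eq_one]
  · simp only [mem_erase, mem_filter, mem_univ, true_and, pow_succ] at ht
    simpa using hζ.eq_pow_of_pow_eq_one ((mul_eq_right₀ ht.1).1 ht.2)

/-- The complex conjugate of a multiplicative character. -/
noncomputable def cj (θ : K →*₀ ℂ) : K →*₀ ℂ := (starRingEnd ℂ).toMonoidWithZeroHom.comp θ

omit [Fintype K] in
theorem P_cj {x : End F V} : P (psi (cj θ)) x ⊤ = conj (P (psi θ) x ⊤) :=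
  (eq_P (U := ⊤) (f := fun W => conj (P (psi θ) x W)) (fun U _ hU => by
    rw [← map_sum, sum_P _ hU, psi, map_multiset_sum, Multiset.map_map]; rfl) ⊤ le_rfl inv_top).symm

variable {n : ℕ}

omit [Fintype K] in
theorem sum_GL [Fintype (GL (Fin n) F)] (f : End F (Fin n → F) → ℂ) :
    ∑ g : GL (Fin n) F, f (Matrix.toLin' g.1) = ∑ x with IsUnit x, f x := by
  refine sum_bij (fun g _ => Matrix.toLin' g.1) (fun g _ => mem_filter.2 ⟨mem_univ _, ?_⟩)
    (fun a _ b _ e => Units.ext (Matrix.toLin'.injective e)) (fun x hx => ?_) fun _ _ => rfl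
  · exact g.isUnit.map Matrix.toLinAlgEquiv'
  · obtain ⟨g, hg⟩ := (mem_filter.1 hx).2.map (Matrix.toLinAlgEquiv' (R := F) (n := Fin n)).symm
    exact ⟨g, mem_univ _, hg ▸ Matrix.toLin'_toMatrix' x⟩

variable (F n) in
/-- The Deligne-Lusztig character of a Coxeter torus. -/
noncomputable def dl (θ : K →*₀ ℂ) (g : GL (Fin n) F) : ℂ := P (psi θ) (Matrix.toLin' g.1) ⊤

theorem inner_dl [Fintype (GL (Fin n) F)] (hn : 0 < n) {ζ : K} (hζ : IsPrimitiveRoot ζ (Nat.card F ^ n - 1)) :
    classInner (dl F n θ) (dl F n θ') = #{i ∈ range n | θ ζ ^ Nat.card F ^ i * conj (θ' ζ) = 1} := by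
  have : Nonempty (Fin n) := ⟨⟨0, hn⟩⟩
  have h1 := Nat.one_lt_pow hn.ne' (Finite.one_lt_card (α := F))
  have h2 := inner_P (F := F) (V := Fin n → F) (θ := θ) (θ' := cj θ')
  simp only [finrank_fin_fun, P_cj, sum_mul] at h2
  rw [sum_comm, ← sum_GL, ← Nat.card_congr (Matrix.GeneralLinearGroup.toLin (R := F) (n := Fin n)).toEquiv,
    ← Nat.cast_pow, ← Nat.cast_pred (zero_lt_one.trans h1), sum_congr (s₁ := range n) rfl (g := fun i => if θ ζ ^ Nat.card F ^ i * conj (θ' ζ) = 1
      then ((Nat.card F ^ n - 1 : ℕ) : ℂ) else 0), ← sum_filter, sum_const, nsmul_eq_mul, ← mul_assoc, mul_comm,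
      mul_left_inj' (Nat.cast_ne_zero.2 (Nat.sub_pos_of_lt h1).ne')] at h2
  · rw [classInner, inv_mul_eq_iff_eq_mul₀ (Nat.cast_ne_zero.2 Nat.card_pos.ne')]
    exact h2
  · intro i _
    have := sum_pow_eq (Nat.sub_pos_of_lt h1) hζ ⟨⟨fun t => θ (t ^ Nat.card F ^ i) * cj θ' t, by simp⟩, by simp,
      fun a b => by simp only [mul_pow, map_mul]; ring⟩
    rw [Nat.sub_add_cancel h1.le] at this
    simpa [cj] using this

omit [Finite F] in
theorem toLin'_mem_nil {m : ℕ} (hm : m < n + 1) (A : Matrix (Fin n) (Fin n) F) :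
    Matrix.toLin' A ∈ nil (std F id ⟨m, hm⟩) ↔ ∀ i j : Fin n, ¬ (i.val < m ∧ m ≤ j.val) → A i j = 0 := by
  refine ⟨fun e i j hij => ?_, fun e => ⟨fun v => mem_std.2 fun i hi => (sum_eq_zero fun j _ =>
    mul_eq_zero_of_left (e i j fun h => h.1.not_ge hi) _ : ∑ j, A i j * v j = 0), fun v hv => funext fun i =>
      (sum_eq_zero fun j _ => ?_ : ∑ j, A i j * v j = 0)⟩⟩
  · rcases le_or_gt m i with h | h
    · simpa using mem_std.1 (e.1 (Pi.single j 1)) i h
    · simpa using congrFun (e.2 (Pi.single j 1) (mem_std.2 fun l hl =>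
        Pi.single_eq_of_ne (fun e : l = j => hij ⟨h, e ▸ hl⟩) 1)) i
  · rcases le_or_gt m j with h | h
    · exact mul_eq_zero_of_right _ (mem_std.1 hv j h)
    · exact mul_eq_zero_of_left (e i j fun h' => h.not_ge h'.2) _

omit [Fintype K] in
theorem sum_dl [Fintype (GL (Fin n) F)] {m : ℕ} (h0 : 0 < m) (hm : m < n) :
    ∑ g : GL (Fin n) F, (if ∀ i j : Fin n, ¬ (i.val < m ∧ m ≤ j.val) → g.1 i j = (1 : Matrix (Fin n) (Fin n) F) i j
      then dl F n θ g else 0) = 0 := by
  have h2 := toLin'_mem_nil (F := F) (hm.trans n.lt_succ_self)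
  have k0 : std F id ⟨m, hm.trans n.lt_succ_self⟩ ≠ ⊥ := fun e => by
    have : Pi.single ⟨0, h0.trans hm⟩ 1 ∈ std F id ⟨m, hm.trans n.lt_succ_self⟩ := mem_std.2 fun i hi =>
      Pi.single_eq_of_ne (fun e => by subst e; exact h0.not_ge hi) 1
    simp [e] at this
  have k1 : std F id ⟨m, hm.trans n.lt_succ_self⟩ ≠ ⊤ := fun e => by
    simpa using mem_std.1 (e.ge (Submodule.mem_top (x := 1))) ⟨m, hm⟩ le_rfl
  generalize std F id ⟨m, hm.trans n.lt_succ_self⟩ = B at h2 k0 k1
  have h1 := prim (ψ := psi θ) psi_mul (x := 1) (fun _ h => h) k0 k1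
  rw [← sum_subtype (p := (· ∈ nil B)) (univ.filter (· ∈ nil B)) (by simp) fun u => P (psi θ) (1 + u) ⊤] at h1
  have h3 := sum_GL fun x => if x - 1 ∈ nil B then P (psi θ) x ⊤ else 0
  rw [← sum_filter (s := filter _ _), filter_filter, sum_bij' (t := univ.filter (· ∈ nil B)) (fun x _ => x - 1)
    (fun x _ => 1 + x) (g := fun u => P (psi θ) (1 + u) ⊤) (fun x hx => mem_filter.2 ⟨mem_univ _, (mem_filter.1 hx).2.2⟩)
    (fun x hx => mem_filter.2 ⟨mem_univ _, (isUnit_add (fun _ h => h) (mem_filter.1 hx).2).2 isUnit_one,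
      (add_sub_cancel_left 1 x).symm ▸ (mem_filter.1 hx).2⟩)
    (fun _ _ => add_sub_cancel _ _) (fun _ _ => add_sub_cancel_left _ _) fun _ _ => by rw [add_sub_cancel], h1] at h3
  refine (sum_congr rfl fun g _ => if_congr ?_ rfl rfl).trans h3
  rw [show (1 : End F (Fin n → F)) = Matrix.toLin' 1 from Matrix.toLin'_one.symm, ← map_sub, h2]
  simp only [Matrix.sub_apply, sub_eq_zero]

omit [Algebra F K] in
theorem exists_char {N : ℕ} (hN : N ∣ Nat.card K - 1) {ζ : K} (hζ : IsPrimitiveRoot ζ N) {ω : ℂ}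
    (hω : IsPrimitiveRoot ω N) : ∃ θ : K →*₀ ℂ, Function.Injective θ ∧ θ ζ = ω := by
  have h0 : NeZero (Nat.card K - 1) := ⟨(Nat.sub_pos_of_lt Finite.one_lt_card).ne'⟩
  have h1 : NeZero N := ⟨ne_zero_of_dvd_ne_zero h0.1 hN⟩
  have key : ∀ f : Kˣ →* ℂˣ, Function.Injective f → ∃ θ : K →*₀ ℂ, Function.Injective θ ∧ ∀ u : Kˣ, θ u = f u :=
    fun f hf => by
      refine ⟨(MulChar.ofUnitHom f).toMonoidWithZeroHom, fun a b e => ?_, MulChar.ofUnitHom_coe f⟩
      rcases eq_or_ne a 0 with rfl | ha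
      · rw [map_zero, eq_comm, map_eq_zero] at e; exact e.symm
      rcases eq_or_ne b 0 with rfl | hb
      · rwa [map_zero, map_eq_zero] at e
      lift a to Kˣ using ha.isUnit
      lift b to Kˣ using hb.isUnit
      exact congrArg _ (hf (Units.ext ((MulChar.ofUnitHom_coe f a).symm.trans (e.trans (MulChar.ofUnitHom_coe f b)))))
  let e : Kˣ ≃* rootsOfUnity (Nat.card K - 1) ℂ := mulEquivOfCyclicCardEq (by
    rw [Nat.card_units, Complex.card_rootsOfUnity])
  have h2 : Function.Injective ((Subgroup.subtype _).comp e.toMonoidHom) := (Subgroup.subtype_injective _).comp e.injective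
  obtain ⟨θ, h3, h4⟩ := key _ h2
  obtain ⟨j, -, rfl⟩ := (hζ.map_of_injective h3).eq_pow_of_pow_eq_one hω.pow_eq_one
  obtain ⟨a, ha⟩ := ZMod.unitsMap_surjective hN (ZMod.unitOfCoprime j
    (((hζ.map_of_injective h3).pow_iff_coprime h1.pos j).1 hω))
  obtain ⟨θ', h5, h6⟩ := key (((Subgroup.subtype _).comp e.toMonoidHom).comp (powMonoidHom a.1.val)) (h2.comp
    (powCoprime (G := Kˣ) (by rw [Nat.card_units]; exact (ZMod.val_coe_unit_coprime a).symm)).injective)
  refine ⟨θ', h5, ?_⟩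
  lift ζ to Kˣ using hζ.isUnit h1.1
  rw [h6, ← map_pow, ← Units.val_pow_eq_pow_val, h4, pow_eq_pow_iff_modEq.2 (show j ≡ a.1.val [MOD _] from ?_)]
  · rfl
  · rw [← (IsPrimitiveRoot.coe_units_iff.1 hζ).eq_orderOf, ← ZMod.natCast_eq_natCast_iff, ZMod.natCast_val]
    exact (congrArg Units.val ha).symm

end Cfsg.Lib.Stein.Green
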