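import Cfsg.Agent.Lib.Stein.Split

/-! The centre of the Hecke algebra and the constituents of the permutation character on the Borel subgroup. -/

set_option autoImplicit false
set_option linter.unusedSectionVars false

namespace Cfsg.Lib.Stein

open Cfsg Cfsg.Lib.BN Cfsg.Lib.Char Finset Module
open scoped ComplexOrder

variable {G : Type*} [Group G] [Finite G] {P : BNPair G} {ε : ℝ}

noncomputable instance : Fintype (W P) := Fintype.ofFinite _
noncomputable instance : DecidableEq (W P) := Classical.decEq _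

variable (P) in
/-- Operators on functions on the Weyl group. -/
abbrev Op := (W P → ℂ) →L[ℂ] (W P → ℂ)

variable (ε) in
/-- Left multiplication by a generator of the Hecke algebra. -/
noncomputable def hL (s : P.S) : Op P := .pi (fun w => .proj (sim P s * w)) +
  (ε : ℂ) • .pi fun w => if len P (sim P s * w) < len P w then .proj w else 0

/-- Inversion. -/
noncomputable def hJ : Op P := .pi fun w => .proj w⁻¹

variable (ε) in
/-- Right multiplication by a generator of the Hecke algebra. -/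
noncomputable def hR (s : P.S) : Op P := hJ * hL ε s * hJ

theorem hL_apply (s : P.S) (φ : W P → ℂ) (w : W P) :
    hL ε s φ w = φ (sim P s * w) + if len P (sim P s * w) < len P w then ε * φ w else 0 := by
  simp only [hL]; split_ifs <;> simp [*]

@[simp] theorem hJ_apply (φ : W P → ℂ) (w : W P) : hJ φ w = φ w⁻¹ := rfl

theorem hJ_hJ (A : Op P) : hJ * (hJ * A) = A := by ext; simp

theorem hJ_mul_hJ : (hJ * hJ : Op P) = 1 := by ext; simp

theorem hR_apply (s : P.S) (φ : W P → ℂ) (w : W P) :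
    hR ε s φ w = φ (w * sim P s) + if len P (w * sim P s) < len P w then ε * φ w else 0 := by
  simp [hR, hL_apply, len_mul_sim_eq, len_inv, sim_inv]

theorem hL_comm (s t : P.S) : Commute (hL ε s) (hR ε t) := ContinuousLinearMap.ext fun φ => funext fun w => by
  simp only [mul_apply_eq_comp, hL_apply, hR_apply, ← mul_assoc]
  have h1 := len_sim_mul s w
  have h2 := len_mul_sim w t
  by_cases e : sim P s * w = w * sim P t
  · simp only [e, sim_mul_cancel_right]
  have h3 := len_sim_mul s (w * sim P t)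
  have h4 := len_mul_sim (sim P s * w) t
  have h5 := fun a => mt (eq_of_up_of_not_up (s := s) (t := t) (w := w) a) e
  have h6 := fun a => mt (mul_right_cancel <| (mul_assoc ..).trans <| eq_of_up_of_not_up (s := s) (t := t) (w := w * sim P t) a ·) e
  simp only [up_iff, sim_mul_cancel_right, ← mul_assoc, not_not] at h3 h5 h6
  split_ifs <;> first | ring1 | omega

theorem hL_hL (s : P.S) : hL ε s * hL ε s = 1 + (ε : ℂ) • hL ε s := ContinuousLinearMap.ext fun φ => funext fun w => by
  have h1 := len_sim_mul s w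
  simp only [mul_apply_eq_comp, add_apply, smul_apply, Pi.add_apply,
    Pi.smul_apply, hL_apply, sim_mul_cancel_left, one_apply_eq_self, smul_eq_mul]
  split_ifs <;> first | ring1 | omega

theorem hR_hR (s : P.S) : hR ε s * hR ε s = 1 + (ε : ℂ) • hR ε s := by
  simp only [hR, mul_assoc, hJ_hJ]
  rw [← mul_assoc (hL ε s), hL_hL]
  ext; simp

theorem hL_single {s : P.S} {w : W P} (h : len P w < len P (sim P s * w)) : hL ε s (Pi.single w 1) = Pi.single (sim P s * w) 1 :=
  funext fun x => by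
    rw [hL_apply, Pi.single_apply, Pi.single_apply, Pi.single_apply, if_congr (eq_inv_mul_iff_mul_eq.symm) rfl rfl, sim_inv]
    split_ifs <;> simp_all; omega

theorem hJ_single (w : W P) : hJ (Pi.single w 1) = Pi.single w⁻¹ 1 := funext fun x => by simp [Pi.single_apply, inv_eq_iff_eq_inv]

theorem op_ext {A B : Op P} (hA : ∀ t, Commute A (hR ε t)) (hB : ∀ t, Commute B (hR ε t)) (h : A (Pi.single 1 1) = B (Pi.single 1 1)) :
    A = B := by
  have k : ∀ w : W P, A (Pi.single w⁻¹ 1) = B (Pi.single w⁻¹ 1) := len_induction' (by simpa) fun s w h1 h2 => by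
    have : Pi.single (sim P s * w)⁻¹ 1 = hR ε s (Pi.single w⁻¹ 1) := by simp [hR, hJ_single, hL_single h1]
    rw [this, ← mul_apply_eq_comp, hA, ← mul_apply_eq_comp, hB, mul_apply_eq_comp, h2]; rfl
  exact ContinuousLinearMap.coe_injective (LinearMap.pi_ext' fun w => LinearMap.ext_ring (by simpa using k w⁻¹))

variable (ε) in
/-- Left multiplication by a basis element of the Hecke algebra. -/
noncomputable def hLw (w : W P) : Op P := ((exists_reduced P w).choose.map (hL ε)).prod

theorem commute_hLw {A : Op P} (h : ∀ s, Commute (hL ε s) A) (w : W P) : Commute (hLw ε w) A :=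
  Commute.list_prod_left _ _ (List.forall_mem_map.2 fun s _ => h s)

theorem hLw_single (w : W P) : hLw ε w (Pi.single 1 1) = Pi.single w 1 := by
  suffices ∀ l : List P.S, l.length = len P (wprod P l) → (l.map (hL ε)).prod (Pi.single 1 1) = Pi.single (wprod P l) 1 by
    have h := (exists_reduced P w).choose_spec
    exact (this _ (h.1.trans (congrArg _ h.2.symm))).trans (by rw [h.2])
  intro l h
  induction l with
  | nil => rfl
  | cons s l ih =>
    have h1 := len_sim_mul_le P s (wprod P l)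
    have h2 := len_wprod_le P l
    simp only [wprod_cons, List.length_cons] at h ⊢
    simp [ih (by omega), hL_single (show _ < len P (sim P s * wprod P l) by omega)]

theorem hLw_one : hLw ε (1 : W P) = 1 :=
  op_ext (fun t => commute_hLw (hL_comm · t) _) (fun _ => .one_left _) (hLw_single _)

theorem hLw_mul {s : P.S} {w : W P} (h : len P w < len P (sim P s * w)) : hLw ε (sim P s * w) = hL ε s * hLw ε w :=
  op_ext (fun t => commute_hLw (hL_comm · t) _) (fun t => (hL_comm s t).mul_left (commute_hLw (hL_comm · t) _))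
    (by simp [hLw_single, hL_single h])

variable (ε) in
/-- The operator `h ↦ T_w h T_{w⁻¹}`. -/
noncomputable def hM (w : W P) : Op P := hLw ε w * (hJ * hLw ε w * hJ)

theorem commute_hRw (s : P.S) (w : W P) : Commute (hL ε s) (hJ * hLw ε w * hJ) := by
  have := congrArg (hJ * · * hJ) (commute_hLw (ε := ε) (hL_comm · s) w).eq
  simpa [hR, mul_assoc, hJ_hJ, hJ_mul_hJ, commute_iff_eq] using this.symm

theorem hM_mul {s : P.S} {w : W P} (h : len P w < len P (sim P s * w)) : hM ε (sim P s * w) = hL ε s * hR ε s * hM ε w := by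
  rw [hM, hM, hLw_mul h, mul_assoc _ (hR ε s), ← mul_assoc (hR ε s), ← (commute_hLw (hL_comm · s) w).eq]
  simp [hR, mul_assoc, hJ_hJ]

variable (P ε) in
/-- The centre of the Hecke algebra. -/
noncomputable def hD : (W P → ℂ) →L[ℂ] (P.S → W P → ℂ) := .pi fun s => hL ε s - hR ε s

theorem mem_ker_hD {φ : W P → ℂ} : φ ∈ (hD P ε).ker ↔ ∀ s, hL ε s φ = hR ε s φ := by
  simp [hD, funext_iff, sub_eq_zero]

theorem sum_hM_mem (φ : W P → ℂ) : (∑ w, hM ε w) φ ∈ (hD P ε).ker := mem_ker_hD.2 fun s => by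
  have k : ∀ w, len P w < len P (sim P s * w) → (hL ε s - hR ε s) * hM ε w + (hL ε s - hR ε s) * hM ε (sim P s * w) = 0 := fun w h => by
    rw [hM_mul h, ← mul_assoc, ← add_mul, sub_mul, ← mul_assoc, hL_hL, (hL_comm s s).eq, ← mul_assoc, hR_hR]
    ext φ w
    simp [show ∀ φ, hL ε s (hR ε s φ) = hR ε s (hL ε s φ) from fun φ => congrArg (· φ) (hL_comm s s).eq]
  rw [← sub_eq_zero, ← sub_apply, ← mul_apply_eq_comp, mul_sum,
    sum_involution (fun w _ => sim P s * w) (fun w _ => ?_) (fun w _ _ => sim_mul_ne s w) (fun _ _ => mem_univ _)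
      fun w _ => sim_mul_cancel_left ..]
  · rfl
  obtain h | h := len_sim_mul s w
  · exact k w (by omega)
  · simpa [sim_mul_cancel_left, add_comm] using k (sim P s * w) (by rw [sim_mul_cancel_left]; omega)

theorem hL_adj (s : P.S) (φ ψ : W P → ℂ) : star φ ⬝ᵥ hL ε s ψ = star (hL ε s φ) ⬝ᵥ ψ := by
  simp only [dotProduct, Pi.star_apply, hL_apply, star_add, mul_add, add_mul, sum_add_distrib]
  congr 1
  · exact Fintype.sum_equiv (.mulLeft (sim P s)) _ _ fun w => by simp [sim_mul_cancel_left]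
  · exact sum_congr rfl fun w _ => by split_ifs <;> simp [mul_left_comm, mul_assoc]

theorem hM_pos {z : W P → ℂ} (hz : z ∈ (hD P ε).ker) (w : W P) : 0 ≤ star z ⬝ᵥ hM ε w z := by
  suffices ∃ A : Op P, (∀ s, Commute A (hR ε s)) ∧ (hJ * hLw ε w * hJ : Op P) z = A z ∧ ∀ φ ψ, star φ ⬝ᵥ hLw ε w ψ = star (A φ) ⬝ᵥ ψ by
    obtain ⟨A, -, h1, h2⟩ := this
    rw [hM, mul_apply_eq_comp, h1, h2]
    exact dotProduct_star_self_nonneg _
  induction w using len_induction' with
  | h1 => exact ⟨1, fun _ => .one_left _, by ext; simp [hLw_one], by simp [hLw_one]⟩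
  | h2 s w h ih =>
  obtain ⟨A, h1, h2, h3⟩ := ih
  refine ⟨A * hL ε s, fun t => (h1 t).mul_left (hL_comm s t), ?_, fun φ ψ => by simp [hLw_mul h, hL_adj, h3]⟩
  rw [hLw_mul h, mul_apply_eq_comp A, mem_ker_hD.1 hz, ← mul_apply_eq_comp, h1, mul_apply_eq_comp _ A,
    ← h2, ← mul_apply_eq_comp]
  simp [hR, mul_assoc, hJ_hJ]

theorem eq_zero_of_hM {ι : Type*} [Fintype ι] {f : ι → W P} {c : ι → ℝ} (hc : ∀ i, 0 ≤ c i) {j : ι} (h1 : f j = 1) (h2 : c j ≠ 0)
    {z : W P → ℂ} (hz : z ∈ (hD P ε).ker) (h : ∑ i, (c i : ℂ) • hM ε (f i) z = 0) : z = 0 := by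
  have := (sum_eq_zero_iff_of_nonneg fun i _ => mul_nonneg (Complex.zero_le_real.2 (hc i)) (hM_pos hz (f i))).1
    (by simpa [dotProduct_sum] using congrArg (star z ⬝ᵥ ·) h) j (mem_univ _)
  simpa [h1, h2, hM, hLw_one, ← mul_apply_eq_comp, hJ_mul_hJ, mul_assoc, hJ_hJ] using this

theorem finrank_ker_hD (ε : ℝ) : finrank ℂ (hD P ε).ker = Nat.card (ConjClasses (W P)) := by
  have h1 : ∀ ε, finrank ℂ (∑ w, hM ε w : Op P).range = finrank ℂ (hD P ε).ker := fun ε =>
    le_antisymm (Submodule.finrank_mono (by rintro _ ⟨φ, rfl⟩; exact sum_hM_mem φ)) (LinearMap.finrank_le_finrank_of_injective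
      (f := (∑ w, hM ε w : Op P).toLinearMap.rangeRestrict ∘ₗ Submodule.subtype _) ((injective_iff_map_eq_zero _).2 fun z h =>
        Subtype.ext (eq_zero_of_hM (f := id) (c := 1) (j := 1) (by simp) rfl (by simp) z.2 (by simpa using congrArg Subtype.val h))))
  have h2 : ∀ s : P.S, Continuous fun ε => hL ε s := fun s => by unfold hL; fun_prop
  have h3 : ∀ w : W P, Continuous fun ε => hLw ε w := fun w => continuous_list_prod _ fun s _ => h2 s
  have h4 : Continuous fun ε => (∑ w, hM ε w : Op P) := by unfold hM; fun_prop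
  have h5 : Continuous (hD P) := continuous_clm_apply.2 fun φ => continuous_pi fun s => by
    simp only [hD, hR, ContinuousLinearMap.pi_apply]; fun_prop
  have h6 : IsLocallyConstant fun ε => finrank ℂ (hD P ε).ker := by
    refine IsLocallyConstant.iff_isOpen_fiber.2 fun k => ?_
    convert ((isOpen_setOfPred_nat_le_rank k).preimage h4).inter
      ((isOpen_setOfPred_nat_le_rank (finrank ℂ (W P → ℂ) - k)).preimage h5) using 1
    ext ε
    have := (hD P ε).toLinearMap.finrank_range_add_finrank_ker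
    have := h1 ε
    simp only [LinearMap.rank, ← finrank_eq_rank, Set.mem_preimage, Set.mem_singleton_iff, Set.mem_inter_iff, Set.mem_ofPred, Nat.cast_le]
    omega
  rw [h6.apply_eq_of_preconnectedSpace ε 0, ← finrank_classFunctions, show (hD P 0).ker = classFunctions (W P) from ?_]
  refine Submodule.ext fun φ => mem_ker_hD.trans ⟨fun h g x => ?_, fun h s => funext fun w => ?_⟩
  · induction x using len_induction' with
    | h1 => simp
    | h2 s w _ e => simpa [hL_apply, hR_apply, sim_inv, mul_assoc, sim_mul_self, ← e] using congrFun (h s) (w * g * w⁻¹ * sim P s)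
  · simp [hL_apply, hR_apply, (mem_classFunctions.1 h).mul_comm]

variable [Fintype P.B] {r : ℝ}

variable (P r) in
/-- The function on `G` attached to an element of the Hecke algebra. -/
noncomputable def hE : (W P → ℂ) →ₗ[ℂ] (G → ℂ) where
  toFun φ g := (r : ℂ)⁻¹ ^ len P (cell P g) * φ (cell P g)
  map_add' _ _ := funext fun _ => mul_add ..
  map_smul' _ _ := funext fun _ => mul_left_comm ..

theorem hE_apply (φ : W P → ℂ) (g : G) : hE P r φ g = (r : ℂ)⁻¹ ^ len P (cell P g) * φ (cell P g) := rfl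

theorem cell_surjective : Function.Surjective (cell P) := fun w => let ⟨n, h⟩ := toW_surjective P w; ⟨n, (cell_coe n).trans h⟩

theorem hE_injective (hr : r ≠ 0) : Function.Injective (hE P r) := fun _ _ h => funext (cell_surjective.forall.2 fun g =>
  mul_left_cancel₀ (by simp [hr]) (congrFun h g))

variable (P) in
/-- Convolution with a double coset. -/
def hA (x : G) : (G → ℂ) →ₗ[ℂ] (G → ℂ) where
  toFun F g := ∑ b : P.B, F (x⁻¹ * b * g)
  map_add' _ _ := funext fun _ => sum_add_distrib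
  map_smul' _ _ := funext fun _ => (mul_sum ..).symm

theorem hA_apply (x : G) (F : G → ℂ) (g : G) : hA P x F g = ∑ b : P.B, F (x⁻¹ * b * g) := rfl

theorem hA_B_mul (x : G) (F : G → ℂ) {b : G} (hb : b ∈ P.B) (g : G) : hA P x F (b * g) = hA P x F g :=
  Fintype.sum_equiv (.mulRight ⟨b, hb⟩) _ _ fun _ => by simp [mul_assoc]

theorem hA_congr {x y : G} (h : cell P x = cell P y) (φ : W P → ℂ) : hA P x (hE P r φ) = hA P y (hE P r φ) := funext fun g => by
  obtain ⟨b, hb, b', hb', rfl⟩ := cell_eq_cell.1 h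
  exact Fintype.sum_equiv (.mulLeft ⟨b, hb⟩⁻¹) _ _ fun _ => by simp [hE_apply, mul_assoc, cell_B_mul (inv_mem hb')]

variable (hr : 0 < r) (hq : ∀ s : P.S, ((P.B.comap (MulAut.conj (s : G)⁻¹).toMonoidHom).relIndex P.B : ℝ) = r ^ 2)
include hr hq

theorem hA_sim (s : P.S) (φ : W P → ℂ) (g : G) :
    hA P s (hE P r φ) g = Nat.card P.B * (r : ℂ)⁻¹ * hE P r (hL (r - r⁻¹) s φ) g := by
  classical
  have h0 : ∀ b ∈ P.B, cell P ((s : G)⁻¹ * b) = sim P s := fun b hb => by rw [cell_mul_B _ hb, cell_inv, cell_sim, sim_inv]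
  obtain h | h := len_sim_mul s (cell P g)
  · simp only [hA_apply, hE_apply, hL_apply, cell_mul_of_lt (h0 _ (Subtype.prop _)) (h.ge : _ < _), if_neg (h.ge.trans' (Nat.le_succ _)).not_gt]
    simp [h, pow_succ, mul_assoc, mul_comm, mul_left_comm]
  obtain ⟨y, z, h1, h2, rfl⟩ := exists_factor (sim_mul_cancel_left P s (cell P g)).symm
  obtain ⟨b, hb, b', hb', rfl⟩ := cell_eq_cell.1 (h1.trans (cell_sim s).symm)
  have h3 : ∀ c : P.B, hE P r φ ((s : G)⁻¹ * c * (s * (b' * z))) = hE P r φ (b * s * b' * z) + if c ∈ (P.B.comap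
      (MulAut.conj (s : G)⁻¹).toMonoidHom).subgroupOf P.B then hE P r φ z - hE P r φ (b * s * b' * z) else 0 := fun c => by
    obtain e | e := conj_mem_B_or (cell_sim s) c.2
    · rw [if_pos (by simpa [Subgroup.mem_subgroupOf] using e), ← mul_assoc, hE_apply, cell_B_mul e, cell_B_mul hb', hE_apply φ z]; ring
    · rw [if_neg fun e' => sim_ne_one P s (e.symm.trans (cell_eq_one.2 (by simpa [Subgroup.mem_subgroupOf] using e'))), ← mul_assoc,
        hE_apply, cell_mul_of_lt e, cell_B_mul hb', h2, sim_mul_cancel_left, add_zero, hE_apply]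
      rw [cell_B_mul hb', h2, sim_mul_cancel_left]; omega
  have h4 := ((P.B.comap (MulAut.conj (s : G)⁻¹).toMonoidHom).subgroupOf P.B).card_mul_index
  have h5 := congrArg Complex.ofReal (hq s)
  rw [mul_assoc, mul_assoc, hA_B_mul _ _ hb, hA_apply, sum_congr rfl fun c _ => h3 c, sum_add_distrib, ← sum_filter, sum_const, sum_const,
    card_univ, ← Nat.card_eq_fintype_card, ← Fintype.card_subtype, ← Nat.card_eq_fintype_card, ← h4, ← mul_assoc, ← mul_assoc]
  simp only [hE_apply, hL_apply, h2, ← h, nsmul_eq_mul, Nat.lt_add_one, if_true, inv_pow]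
  push_cast at h5 ⊢
  rw [show ((_ : Subgroup P.B).index : ℂ) = r ^ 2 from h5]
  have := Complex.ofReal_ne_zero.2 hr.ne'
  field_simp
  ring

theorem hA_hE (x : G) (φ : W P → ℂ) (g : G) :
    hA P x (hE P r φ) g = Nat.card P.B * (r : ℂ)⁻¹ ^ len P (cell P x) * hE P r (hLw (r - r⁻¹) (cell P x) φ) g := by
  generalize e : cell P x = w
  induction w using len_induction' generalizing x g with
  | h1 => rw [hA_congr (e.trans cell_one.symm)]; simp [hA_apply, hE_apply, cell_B_mul, hLw_one, len_one]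
  | h2 s w h ih =>
  obtain ⟨y, rfl⟩ := cell_surjective w
  have h1 : ∀ b : P.B, hA P x (hE P r φ) g = hA P (s * (b⁻¹ * y)) (hE P r φ) g := fun b => by
    rw [hA_congr (e.trans _)]
    rw [cell_mul_of_lt (cell_sim s)] <;> simp [cell_B_mul (inv_mem b.2), h]
  refine mul_left_cancel₀ (a := (Nat.card P.B : ℂ)) (by simp) ?_
  calc _ = ∑ b : P.B, hA P (s * (b⁻¹ * y)) (hE P r φ) g := by simp only [← h1]; simp
    _ = ∑ b : P.B, hA P y (hE P r φ) ((s : G)⁻¹ * b * g) := by simp only [hA_apply]; rw [sum_comm]; simp [mul_assoc]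
    _ = _ := by
      simp only [ih y _ rfl, ← mul_sum, ← hA_apply, hA_sim hr hq, hLw_mul h, mul_apply_eq_comp,
        (len_sim_mul s (cell P y)).resolve_right (by omega)]
      ring

theorem sum_hE (x : G) (φ : W P → ℂ) (g : G) : ∑ b : P.B, hE P r φ (g * b * x) =
    Nat.card P.B * (r : ℂ)⁻¹ ^ len P (cell P x) * hE P r ((hJ * hLw (r - r⁻¹) (cell P x) * hJ : Op P) φ) g := by
  have k : ∀ φ g, hE P r φ g⁻¹ = hE P r (hJ φ) g := fun φ g => by simp [hE_apply, cell_inv, len_inv]
  rw [mul_apply_eq_comp, mul_apply_eq_comp, ← k, ← hA_hE hr hq]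
  exact Fintype.sum_equiv (.inv _) _ _ fun b => by simp [← k, mul_assoc]

theorem exists_hE {f : G → ℂ} (hf : IsClassFunction G f) : ∃ φ ∈ (hD P (r - r⁻¹)).ker, hE P r φ = hA P 1 f := by
  have h1 : hE P r (fun w => r ^ len P w * hA P 1 f (Function.surjInv cell_surjective w)) = hA P 1 f := funext fun g => by
    obtain ⟨b, hb, b', hb', e⟩ := cell_eq_cell.1 (Function.surjInv_eq cell_surjective (cell P g))
    rw [hE_apply, e, inv_pow, inv_mul_cancel_left₀ (by simp [hr.ne']), mul_assoc, hA_B_mul _ _ hb]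
    exact Fintype.sum_equiv (.mulLeft ⟨b', hb'⟩) _ _ fun c => by rw [← mul_assoc, hf.mul_comm]; simp [mul_assoc]
  refine ⟨_, mem_ker_hD.2 fun s => hE_injective hr.ne' (funext fun g => ?_), h1⟩
  have h2 : hLw (r - r⁻¹) (sim P s) = hL (r - r⁻¹) s := by simpa [hLw_one] using hLw_mul (s := s) (w := 1) (by simp [len_one, len_sim])
  refine mul_left_cancel₀ (a := Nat.card P.B * (r : ℂ)⁻¹) (by simp [hr.ne']) ?_
  have h3 := fun φ => sum_hE hr hq (s : G)⁻¹ φ g
  simp only [cell_inv, cell_sim, sim_inv, h2, len_sim, pow_one] at h3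
  rw [← hA_sim hr hq, hR, ← h3, h1]
  simp only [hA_apply]
  rw [sum_comm]
  exact sum_congr rfl fun b _ => sum_congr rfl fun c _ => by rw [← hf.conj_eq' _ (b * (s : G)⁻¹)]; congr 1; group

theorem card_constituents : Nat.card {χ : IrrCharacter G // ∃ φ, IsCharacter G φ ∧ fixedPointCharacter P.B = (χ : G → ℂ) + φ} =
    Nat.card (ConjClasses (W P)) := by
  have := Fintype.ofFinite G
  have h1 : ∀ χ : IrrCharacter G, (∃ φ, IsCharacter G φ ∧ fixedPointCharacter P.B = (χ : G → ℂ) + φ) ↔ ∑ b : P.B, (χ : G → ℂ) b ≠ 0 :=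
    fun χ => by
    have h2 : classInner (χ : G → ℂ) (fixedPointCharacter P.B) ≠ 0 ↔ ∑ b : P.B, (χ : G → ℂ) b ≠ 0 := by
      simp [inner_fix _ χ.2.isClassFunction, avg, finsum_eq_sum_of_fintype]
    refine Iff.trans ⟨fun ⟨φ, h, e⟩ => ?_, fun h => ⟨_, (isCharacter_fix _).sub_of_classInner_ne_zero χ.2
      (mt classInner_eq_zero_comm.1 h), by simp⟩⟩ h2
    obtain ⟨n, hn⟩ := χ.2.isCharacter.classInner_nat h
    rw [e, classInner_add_right, χ.2.classInner_self, hn, add_comm]
    exact n.cast_add_one_ne_zero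
  simp only [h1]
  have := Fintype.ofFinite {χ : IrrCharacter G // ∑ b : P.B, (χ : G → ℂ) b ≠ 0}
  let v := fun χ : {χ : IrrCharacter G // ∑ b : P.B, (χ : G → ℂ) b ≠ 0} => hA P 1 χ.1
  have h2 : LinearIndependent ℂ v := Fintype.linearIndependent_iff.2 fun a ha χ => by
    have := Fintype.linearIndependent_iff.1 ((irr_linearIndependent G).comp _ Subtype.val_injective)
      (fun χ : {χ : IrrCharacter G // ∑ b : P.B, (χ : G → ℂ) b ≠ 0} => a χ * (Nat.card G * (∑ b : P.B, (χ : G → ℂ) b) / (χ : G → ℂ) 1))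
      (funext fun g => by
        have := congrArg (fun F => ∑ x, F (x⁻¹ * g * x)) ha
        simp only [Finset.sum_apply, Pi.smul_apply, smul_eq_mul, v, hA_apply, Pi.zero_apply, sum_const_zero] at this ⊢
        refine (sum_congr rfl fun χ _ => ?_).trans (sum_comm.trans this)
        rw [← mul_sum, sum_comm, mul_assoc, mul_sum, sum_div, sum_mul]
        refine congrArg _ (sum_congr rfl fun b _ => ?_)
        rw [div_mul_eq_mul_div, Function.comp, ← χ.1.2.sum_conj_mul]
        exact sum_congr rfl fun x _ => by rw [← χ.1.2.isClassFunction.conj_eq' _ x]; group) χ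
    simpa [χ.2, χ.1.2.apply_one_ne_zero] using this
  rw [← finrank_ker_hD (r - r⁻¹), Nat.card_eq_fintype_card, ← finrank_span_eq_card h2]
  refine le_antisymm ((Submodule.finrank_mono (t := (hD P (r - r⁻¹)).ker.map (hE P r)) (Submodule.span_le.2 ?_)).trans
    (Submodule.finrank_map_le ..)) ?_
  · rintro _ ⟨χ, rfl⟩
    exact exists_hE hr hq χ.1.2.isClassFunction
  let c := fun h : G => (Nat.card P.B * r⁻¹ ^ len P (cell P h)) ^ 2
  refine LinearMap.finrank_le_finrank_of_injective (f := ((hE P r ∘ₗ ∑ h, (c h : ℂ) • (hM (r - r⁻¹) (cell P h)).toLinearMap) ∘ₗ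
    Submodule.subtype _).codRestrict _ fun φ => ?_) ((injective_iff_map_eq_zero _).2 fun z h => Subtype.ext (eq_zero_of_hM
      (f := cell P) (c := c) (j := 1) (fun _ => sq_nonneg _) cell_one (by simp [c, hr.ne']) z.2 (hE_injective hr.ne' (by
        simpa using congrArg Subtype.val h))))
  have h3 : IsClassFunction G fun g => ∑ h, hE P r φ (h⁻¹ * g * h) := fun g x =>
    Fintype.sum_equiv (.mulLeft x⁻¹) _ _ fun h => by simp [mul_assoc]
  have h4 : hA P 1 (fun g => ∑ h, hE P r φ (h⁻¹ * g * h)) ∈ Submodule.span ℂ (Set.range v) := by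
    rw [h3.eq_sum, map_sum]
    refine sum_mem fun χ _ => map_smul (hA P 1) .. ▸ Submodule.smul_mem _ _ (by_cases (fun e : ∑ b : P.B, (χ : G → ℂ) b = 0 => ?_)
      fun e => Submodule.subset_span ⟨⟨χ, e⟩, rfl⟩)
    rw [show hA P 1 χ = 0 from funext fun g => by
      simpa [hA_apply, χ.2.isClassFunction.mul_comm g] using sum_mul_eq_zero χ.2.isCharacter _ e g]
    exact zero_mem _
  convert Submodule.smul_mem _ (Nat.card P.B : ℂ) h4
  ext g
  calc _ = ∑ h, ∑ b : P.B, ∑ b' : P.B, hE P r φ (h⁻¹ * b * g * b' * h) := by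
        simp only [fun h : G => sum_congr rfl fun (b : P.B) (_ : b ∈ univ) => sum_hE hr hq h φ (h⁻¹ * b * g), ← mul_sum, ← hA_apply,
          hA_hE hr hq]
        simp [c, hM, sq, mul_assoc, mul_left_comm]
    _ = ∑ b' : P.B, ∑ h, ∑ b : P.B, hE P r φ (h⁻¹ * b * g * b' * h) := (sum_congr rfl fun _ _ => sum_comm).trans sum_comm
    _ = ∑ b' : P.B, ∑ h, ∑ b : P.B, hE P r φ (h⁻¹ * b * g * h) := sum_congr rfl fun b _ =>
        Fintype.sum_equiv (.mulLeft b.1) _ _ fun h => Fintype.sum_equiv (.mulLeft b) _ _ fun c => by simp [mul_assoc]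
    _ = _ := by simp [hA_apply, mul_assoc, sum_comm (s := (univ : Finset G))]

end Cfsg.Lib.Stein
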