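import Cfsg.Agent.Lib.Elu.Base
import Cfsg.Agent.Lib.Coprime.BrauerLift
import Cfsg.Agent.Lib.SmT.Char
import Cfsg.Agent.Lib.Clifford.Mono

/-!
Green's theorem: the Brauer lift of a representation over a finite field is a generalized character.
-/

set_option autoImplicit false

namespace Cfsg.Lib.Stein.Green

open Module Finset Cfsg.Lib.Elu Cfsg.Lib.Known Cfsg.Lib.Conj Cfsg.Lib.Char Polynomial

attribute [local instance] Classical.propDecidable

universe u v

section

variable {K : Type u} [Field K] {W : Type v} [AddCommGroup W] [Module K W] [FiniteDimensional K W] {x : End K W}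

open Module.Basis in
theorem charpoly_quot {B : Submodule K W} (h : Inv x B) :
    x.charpoly = (x.restrict h).charpoly * (B.mapQ B x h).charpoly := by
  let bW := finBasis K B
  let bQ := finBasis K (W ⧸ B)
  let b := sumQuot bW bQ
  suffices LinearMap.toMatrix b b x = Matrix.fromBlocks (LinearMap.toMatrix bW bW (x.restrict h))
      (Matrix.of fun i l => b.repr (x (b (Sum.inr l))) (Sum.inl i)) 0 (LinearMap.toMatrix bQ bQ (B.mapQ B x h)) by
    rw [← x.charpoly_toMatrix b, this, Matrix.charpoly_fromBlocks_zero₂₁, LinearMap.charpoly_toMatrix,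
      LinearMap.charpoly_toMatrix]
  ext (i | j) (k | l)
  · simp only [b, sumQuot_inl, Matrix.fromBlocks_apply₁₁, LinearMap.toMatrix_apply]
    apply sumQuot_repr_inl_of_mem
  · simp [b, LinearMap.toMatrix_apply]
  · have : B.mkQ (x (bW k)) = 0 := (Submodule.Quotient.mk_eq_zero _).2 (h _ (bW k).2)
    simp [LinearMap.toMatrix_apply, b, this]
  · simp only [LinearMap.toMatrix_apply, sumQuot_repr_inr, Matrix.fromBlocks_apply₂₂, b]
    rw [← sumQuot_inr bW bQ l, B.mapQ_apply]
    simp

theorem charpoly_aeval (hx : x.charpoly.Splits) (g : K[X]) :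
    (aeval x g).charpoly = (x.charpoly.roots.map fun α => X - C (g.eval α)).prod := by
  generalize hn : finrank K W = n
  induction n generalizing W with
  | zero =>
    have h : ∀ y : End K W, y.charpoly = 1 := fun y =>
      y.charpoly_monic.natDegree_eq_zero.1 (y.charpoly_natDegree.trans hn)
    simp [h]
  | succ n ih =>
    obtain ⟨α, hα⟩ := hx.exists_eval_eq_zero (by
      rw [degree_eq_natDegree x.charpoly_monic.ne_zero, x.charpoly_natDegree, hn]; exact_mod_cast n.succ_ne_zero)
    obtain ⟨v, hv⟩ := ((Module.End.hasEigenvalue_iff_isRoot_charpoly x α).2 hα).exists_hasEigenvector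
    have h1 : ∀ w ∈ K ∙ v, x w = α • w := fun w hw => by
      obtain ⟨c, rfl⟩ := Submodule.mem_span_singleton.1 hw
      rw [map_smul, hv.apply_eq_smul, smul_comm]
    have h2 : ∀ w ∈ K ∙ v, aeval x g w = g.eval α • w := fun w hw => by
      obtain ⟨c, rfl⟩ := Submodule.mem_span_singleton.1 hw
      rw [map_smul, Module.End.aeval_apply_of_hasEigenvector hv, smul_comm]
    have h3 : ∀ {y : End K W} {c : K} (h : ∀ w ∈ K ∙ v, y w = c • w), ∃ h' : Inv y (K ∙ v),
        y.charpoly = (X - C c) * ((K ∙ v).mapQ (K ∙ v) y h').charpoly := fun {y c} h => by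
      have h' : Inv y (K ∙ v) := fun w hw => h w hw ▸ Submodule.smul_mem _ _ hw
      refine ⟨h', (charpoly_quot h').trans ?_⟩
      rw [show y.restrict h' = algebraMap K _ c from LinearMap.ext fun w => Subtype.ext (h w w.2),
        ← sub_zero (algebraMap K _ c), ← neg_sub, ← LinearMap.charpoly_toMatrix _ (finBasisOfFinrankEq K _
          (finrank_span_singleton hv.2))]
      simp [Matrix.charpoly, Matrix.det_unique, Algebra.algebraMap_eq_smul_one]
    obtain ⟨k1, e1⟩ := h3 h1
    obtain ⟨k2, e2⟩ := h3 h2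
    have h4 := (K ∙ v).finrank_quotient_add_finrank
    rw [finrank_span_singleton hv.2, hn] at h4
    rw [e1] at hx
    rw [e2, e1, roots_mul (mul_ne_zero (X_sub_C_ne_zero _) (LinearMap.charpoly_monic _).ne_zero), roots_X_sub_C,
      Multiset.singleton_add, Multiset.map_cons, Multiset.prod_cons,
      ← ih (hx.of_dvd (e1 ▸ x.charpoly_monic.ne_zero) (dvd_mul_left _ _)) (Nat.succ_injective h4)]
    congr 2
    refine LinearMap.ext fun w => ?_
    obtain ⟨w, rfl⟩ := (K ∙ v).mkQ_surjective w
    exact aeval_intertwine (K ∙ v).mkQ (fun _ => rfl) g w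

theorem roots_aeval (hx : x.charpoly.Splits) (g : K[X]) :
    (aeval x g).charpoly.roots = x.charpoly.roots.map fun α => g.eval α := by
  rw [charpoly_aeval hx, ← roots_multiset_prod_X_sub_C (x.charpoly.roots.map fun α => g.eval α), Multiset.map_map]; rfl

theorem roots_pow' (hx : x.charpoly.Splits) (j : ℕ) : (x ^ j).charpoly.roots = x.charpoly.roots.map (· ^ j) := by
  simpa using roots_aeval hx (X ^ j)

theorem roots_smul' (hx : x.charpoly.Splits) (c : K) : (c • x).charpoly.roots = x.charpoly.roots.map (c * ·) := by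
  have := roots_aeval hx (C c * X)
  simp only [map_mul, aeval_C, aeval_X, ← Algebra.smul_def, eval_mul, eval_C, eval_X] at this
  exact this

theorem splits_smul (hx : x.charpoly.Splits) (c : K) : (c • x).charpoly.Splits := by
  have := charpoly_aeval hx (C c * X)
  simp only [map_mul, aeval_C, aeval_X, ← Algebra.smul_def] at this
  rw [this]
  exact Splits.multisetProd fun f hf => by
    obtain ⟨a, -, rfl⟩ := Multiset.mem_map.1 hf
    exact Splits.X_sub_C _

/-- The Brauer lift. -/
noncomputable def lift (θ : K →*₀ ℂ) (x : End K W) : ℂ := (x.charpoly.roots.map θ).sum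

theorem sum_eq_zero_of_zpowers {B : Type*} [Group B] [Fintype B] {g : B → ℂ}
    (h : ∀ c : B, ∑ j ∈ range (orderOf c), g (c ^ j) = 0) : ∑ b, g b = 0 := by
  have h1 : ∀ C : Subgroup B, ∑ b with Subgroup.zpowers b = C, g b = 0 := fun C => by
    induction C using WellFoundedLT.induction with
    | ind C ih =>
      by_cases hC : ∃ c, Subgroup.zpowers c = C
      · obtain ⟨c, rfl⟩ := hC
        have h2 : ∑ b with b ∈ Subgroup.zpowers c, g b = 0 := by
          rw [← h c]
          refine (sum_bij (fun j _ => c ^ j) (by simp) (fun i hi j hj e => pow_injOn_Iio_orderOf (mem_range.1 hi)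
            (mem_range.1 hj) e) (fun b hb => ?_) fun _ _ => rfl).symm
          simpa using mem_zpowers_iff_mem_range_orderOf.1 (mem_filter.1 hb).2
        rw [← sum_filter_add_sum_filter_not _ fun b => Subgroup.zpowers b = Subgroup.zpowers c, filter_filter,
          ← sum_fiberwise_of_maps_to (g := Subgroup.zpowers) (fun b hb => mem_image_of_mem _ hb) (s := filter _ (filter _ _)),
          sum_eq_zero (s := image _ _), add_zero] at h2
        · rw [← h2]
          exact sum_congr (filter_congr fun b _ => ⟨fun e => ⟨e ▸ Subgroup.mem_zpowers b, e⟩, And.right⟩) fun _ _ => rfl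
        · intro D hD
          obtain ⟨b, hb, rfl⟩ := mem_image.1 hD
          simp only [mem_filter, mem_univ, true_and] at hb
          rw [← ih _ (lt_of_le_of_ne (Subgroup.zpowers_le.2 hb.1) hb.2), filter_filter, filter_filter]
          refine sum_congr (filter_congr fun a _ => ⟨fun e => e.2.2, fun e => ⟨?_, e ▸ hb.2, e⟩⟩) fun _ _ => rfl
          exact Subgroup.zpowers_le.2 hb.1 (e ▸ Subgroup.mem_zpowers a)
      · exact sum_eq_zero fun b hb => (hC ⟨b, (mem_filter.1 hb).2⟩).elim
  have := Fintype.ofFinite (Subgroup B)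
  rw [← sum_fiberwise univ Subgroup.zpowers]
  exact sum_eq_zero fun C _ => h1 C

variable {θ : K →*₀ ℂ}

theorem sum_lift_pow (hθ : Function.Injective θ) (hx : x.charpoly.Splits) {r : ℕ} (hr : (r : K) ≠ 0) (h : x ^ r = 1) :
    ∑ j ∈ range r, lift θ (x ^ j) = r * finrank K (eig x 1) := by
  have h1 : ∀ α ∈ x.charpoly.roots, α ^ r = 1 := fun α hα => by
    have := roots_pow' hx r
    rw [h, LinearMap.charpoly_one, roots_pow, ← C_1, roots_X_sub_C] at this
    exact Multiset.mem_singleton.1 <| Multiset.mem_of_mem_nsmul (this ▸ Multiset.mem_map_of_mem (· ^ r) hα)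
  have h2 : finrank K (eig x 1) = x.charpoly.roots.count 1 := by
    rw [count_roots, ← LinearMap.finrank_maxGenEigenspace_eq,
      (ss_of_pow' hr h).isFinitelySemisimple.maxGenEigenspace_eq_eigenspace]
    rw [show eig x 1 = x.eigenspace 1 from Submodule.ext fun v => by rw [mem_eig, Module.End.mem_eigenspace_iff]]
  simp only [lift, roots_pow' hx, Multiset.map_map, Function.comp_def, map_pow]
  rw [h2]
  generalize x.charpoly.roots = s at h1
  induction s using Multiset.induction with
  | empty => simp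
  | cons a s ih =>
    simp only [Multiset.map_cons, Multiset.sum_cons, sum_add_distrib]
    rw [ih fun α hα => h1 α (Multiset.mem_cons_of_mem hα), Multiset.count_cons]
    split_ifs with e
    · simp [← e, mul_add, add_comm]
    · rw [geom_sum_eq fun e' => e (hθ (θ.map_one.trans e'.symm)), ← map_pow, h1 a (Multiset.mem_cons_self _ _)]
      simp

variable [Finite K] {p : ℕ} [Fact p.Prime] [CharP K p]

theorem sum_lift (hθ : Function.Injective θ) {B : Type*} [Group B] [Fintype B] (hB : ¬ p ∣ Nat.card B)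
    (ρ : B →* End K W) (hρ : ∀ b, (ρ b).charpoly.Splits) : ∃ d : ℕ, ∑ b, lift θ (ρ b) = Nat.card B * d := by
  let _ := ZMod.algebra K p
  let _ : Module (ZMod p) W := Module.compHom W (algebraMap (ZMod p) K)
  have := IsScalarTower.of_compHom (ZMod p) K W
  have : Module.Finite (ZMod p) W := Module.Finite.trans K W
  let ρ' : B →* (W →ₗ[ZMod p] W) :=
    { toFun b := (ρ b).restrictScalars _
      map_one' := LinearMap.ext fun v => by simp
      map_mul' a b := LinearMap.ext fun v => by simp }
  obtain ⟨χ, -, h⟩ := Coprime.exists_brauer_lift_rep hB ρ'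
  have h1 : ∀ (A : Subgroup B) (U : Submodule K W), (∀ v, v ∈ U ↔ ∀ a ∈ A, ρ a v = v) →
      ∑ a : A, χ a = Nat.card A * (finrank (ZMod p) K * finrank K U) := fun A U hU => by
    rw [h A (U.restrictScalars _) hU, ← Nat.cast_mul (finrank _ K), finrank_mul_finrank]; rfl
  let U : Submodule K W := ⨅ b, eig (ρ b) 1
  refine ⟨finrank K U, mul_left_cancel₀ (Nat.cast_ne_zero.2 (finrank_pos (R := ZMod p) (M := K)).ne') ?_⟩
  have h2 := h1 ⊤ U fun v => by simp [U, mem_eig]
  rw [Subgroup.card_top, ← sum_subtype univ (by simp) χ] at h2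
  rw [mul_left_comm, ← h2, mul_sum, ← sub_eq_zero, ← sum_sub_distrib]
  refine sum_eq_zero_of_zpowers fun c => ?_
  have h3 := h1 (Subgroup.zpowers c) (eig (ρ c) 1) fun v => by
    rw [mem_eig, one_smul]
    refine ⟨fun e a ha => ?_, fun e => e c (Subgroup.mem_zpowers c)⟩
    obtain ⟨j, rfl⟩ := (Submonoid.mem_powers_iff _ _).1 (mem_powers_iff_mem_zpowers.2 ha)
    rw [map_pow, Module.End.pow_apply, Function.iterate_fixed e]
  rw [← (finEquivZPowers (isOfFinOrder_of_finite c)).sum_comp, Nat.card_zpowers] at h3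
  simp only [finEquivZPowers_apply] at h3
  rw [sum_sub_distrib, ← mul_sum, ← Fin.sum_univ_eq_sum_range (fun j => χ (c ^ j)), h3]
  simp only [map_pow]
  rw [sum_lift_pow hθ (hρ c) (fun e => hB (((CharP.cast_eq_zero_iff K p _).1 e).trans (orderOf_dvd_natCard c)))
    (by rw [← map_pow, pow_orderOf_eq_one, map_one])]
  ring

omit [Fact p.Prime] [CharP K p] in
theorem exists_eq_of_pow (hθ : Function.Injective θ) {z : ℂ} {r : ℕ} (hr : r ∣ Nat.card K - 1) (hz : z ^ r = 1) :
    ∃ α, θ α = z := by
  have h0 : 0 < Nat.card K - 1 := Nat.sub_pos_of_lt Finite.one_lt_card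
  obtain ⟨ζ, hζ⟩ := exists_primRoot (F := K) dvd_rfl
  have : NeZero (Nat.card K - 1) := ⟨h0.ne'⟩
  obtain ⟨k, hk⟩ := hr
  obtain ⟨i, -, hi⟩ := (hζ.map_of_injective hθ).eq_pow_of_pow_eq_one (ξ := z) (by rw [hk, pow_mul, hz, one_pow])
  exact ⟨ζ ^ i, by rw [map_pow, hi]⟩

open Clifford SmT Block Block2 in
theorem gen_lift (hθ : Function.Injective θ) {G : Type*} [Group G] [Finite G]
    (hG : ∀ g : G, ¬ p ∣ orderOf g → orderOf g ∣ Nat.card K - 1) (ρ : G →* End K W)
    (hρ : ∀ b, (ρ b).charpoly.Splits) : IsGeneralizedCharacter G fun g => lift θ (ρ g) := by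
  have h1 : IsClassFunction G fun g => lift θ (ρ g) := fun g h => by
    have : Sim (ρ g) (ρ (h * g * h⁻¹)) := ⟨LinearMap.GeneralLinearGroup.toLinearEquiv (ρ.toHomUnits h), fun v => by
      change ρ h (ρ g v) = ρ _ (ρ h v)
      simp [← Module.End.mul_apply, ← map_mul]⟩
    simp only [lift, this.charpoly]
  refine brauer_characterization h1 fun E q hq hE => ?_
  have := hE.isNilpotent hq
  let r : E →* E := MonoidHom.mk' (reg p) reg_mul
  have h2 : ¬ p ∣ Nat.card r.range := fun h => by
    obtain ⟨⟨_, a, rfl⟩, ha⟩ := exists_prime_orderOf_dvd_card' p h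
    exact reg_regular a (ha.symm.trans (Subgroup.orderOf_coe _).symm).dvd
  have h3 : ClassOn r.range fun e : E => lift θ (ρ e) := fun a _ b _ => h1 b a
  have h4 : GenOn r.range fun e : E => lift θ (ρ e) := h3.genOn_of_dot fun φ hφ => by
    obtain ⟨H, hH, l, hl, e⟩ := (irrOn_of_mem hφ).exists_lin_of_nilpotent
    have hp : ¬ p ∣ Nat.card H := fun h => h2 (h.trans (Subgroup.card_dvd_of_le hH))
    have := Fintype.ofFinite H
    rw [← dot_cut_right, ← e, dot_ind_right hH h3, dot, sum_elems]
    choose m hm using fun a : H => exists_eq_of_pow hθ (z := l (a⁻¹ : H)) (r := orderOf ((a : E) : G))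
      (hG _ fun h => hp (h.trans (by simpa using orderOf_dvd_natCard a))) (by
        rw [← hl.map_pow (a⁻¹).2, Subgroup.orderOf_coe, Subgroup.coe_inv, inv_pow, pow_orderOf_eq_one, inv_one, hl.2])
    let σ : H →* End K W :=
      { toFun a := m a • ρ a
        map_one' := by rw [show m 1 = 1 from hθ (by simpa [hm] using hl.2)]; simp
        map_mul' a b := by
          rw [show m (a * b) = m a * m b from hθ (by
            rw [map_mul, hm, hm, hm, mul_inv_rev, Subgroup.coe_mul, hl.map_mul (b⁻¹).2 (a⁻¹).2, mul_comm])]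
          simp [smul_smul, mul_comm] }
    obtain ⟨d, hd⟩ := sum_lift hθ hp σ fun a => splits_smul (hρ _) _
    refine ⟨d, ?_⟩
    rw [inv_mul_eq_iff_eq_mul₀ (Nat.cast_ne_zero.2 Nat.card_pos.ne'), Int.cast_natCast, ← hd]
    refine sum_congr rfl fun a _ => ?_
    change _ = lift θ (m a • ρ a)
    simp only [lift, roots_smul' (hρ _), Multiset.map_map, Function.comp_def, map_mul, Multiset.sum_map_mul_left, hm]
    rw [mul_comm, ← hl.charOn.apply_inv a.2, Subgroup.coe_inv]
  convert genOn_top.1 (h4.comp r (L := ⊤) fun a _ => ⟨a, rfl⟩) using 2 with e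
  obtain ⟨a, ha⟩ := exists_isPPart (p := p) Fact.out e
  obtain ⟨k, hk⟩ := ha.orderOf_eq
  have h5 : (r e) ^ p ^ k = e ^ p ^ k := by
    rw [show r e = a⁻¹ * e from reg_eq ha, ha.commute.inv_left.mul_pow, inv_pow, ← hk, pow_orderOf_eq_one]; simp
  have h6 := roots_pow' (hρ e) (p ^ k)
  rw [← map_pow, ← Subgroup.coe_pow, ← h5, Subgroup.coe_pow, map_pow, roots_pow' (hρ _)] at h6
  simp only [lift, Function.comp, Multiset.map_injective (iterateFrobenius_inj K p k) h6]

end

end Cfsg.Lib.Stein.Green
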