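import Cfsg.Agent.Lib.MinIdx.O1
import Cfsg.Agent.Lib.Forms.Levi

/-! Geometry for the minimal degree of `Ω_d(q)`: Witt's theorem inside `Ω`, Siegel elements of `Ω`. -/

set_option autoImplicit false
set_option linter.unusedSectionVars false

namespace Cfsg.Lib.Stein.MinO

open Module Cfsg.Lib.Forms Cfsg.Lib.Forms.Form Cfsg.Lib.Forms.MI
open scoped commutatorElement

universe u

variable {F : Type*} [Field F] {N : Type u} [AddCommGroup N] [Module F N]

/-- Independent pairs. -/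
def J2 (F : Type*) [Field F] [Module F N] (a b : N) : Prop := ∀ s t : F, s • a + t • b = 0 → s = 0 ∧ t = 0

/-- Independent triples. -/
def J3 (F : Type*) [Field F] [Module F N] (a b c : N) : Prop :=
  ∀ r s t : F, r • a + s • b + t • c = 0 → r = 0 ∧ s = 0 ∧ t = 0

section
variable {a b c : N}

theorem J2.symm (h : J2 F a b) : J2 F b a := fun s t e => (h t s (by rw [add_comm, e])).symm

theorem j2_iff : J2 F a b ↔ a ≠ 0 ∧ b ∉ F ∙ a := by
  refine ⟨fun h => ⟨fun e => by simpa using (h 1 0 (by simp [e])).1, fun e => ?_⟩, fun h s t e => ?_⟩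
  · obtain ⟨s, rfl⟩ := Submodule.mem_span_singleton.1 e
    simpa using (h s (-1) (by simp)).2
  · have : t = 0 := by_contra fun c => h.2 (Submodule.mem_span_singleton.2 ⟨-(t⁻¹ * s), by
      rw [← eq_neg_iff_add_eq_zero] at e
      rw [neg_smul, mul_smul, e]
      simp [c]⟩)
    simpa [this, h.1] using e

theorem J2.ne (h : J2 F a b) : a ≠ 0 := (j2_iff.1 h).1
theorem J2.ne' (h : J2 F a b) : b ≠ 0 := h.symm.ne
theorem J2.notMem (h : J2 F a b) : b ∉ F ∙ a := (j2_iff.1 h).2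

theorem j3_iff : J3 F a b c ↔ J2 F a b ∧ c ∉ Submodule.span F {a, b} := by
  refine ⟨fun h => ⟨fun s t e => by simpa using h s t 0 (by simpa using e), fun e => ?_⟩, fun h r s t e => ?_⟩
  · obtain ⟨s, t, rfl⟩ := Submodule.mem_span_pair.1 e
    simpa using (h s t (-1) (by module)).2.2
  · have : t = 0 := by_contra fun c => h.2 (Submodule.mem_span_pair.2 ⟨-(t⁻¹ * r), -(t⁻¹ * s), by
      rw [← eq_neg_iff_add_eq_zero] at e
      rw [neg_smul, neg_smul, mul_smul, mul_smul, ← neg_add, ← smul_add, e]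
      simp [c]⟩)
    have := h.1 r s (by simpa [this] using e)
    simp [*]

theorem J3.j2 (h : J3 F a b c) : J2 F a b := (j3_iff.1 h).1
theorem J3.notMem (h : J3 F a b c) : c ∉ Submodule.span F {a, b} := (j3_iff.1 h).2

theorem J3.rot (h : J3 F a b c) : J3 F b c a := fun r s t e => by
  have := h t r s (by rw [← e]; abel)
  simp [this]

theorem J3.swap (h : J3 F a b c) : J3 F b a c := fun r s t e => by
  have := h s r t (by rw [← e]; abel)
  simp [this]

theorem j2_add (t : F) : J2 F a (b + t • a) ↔ J2 F a b := by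
  simp only [j2_iff, Submodule.add_mem_iff_left _ (Submodule.smul_mem _ t (Submodule.mem_span_singleton_self a))]

theorem j2_smul {s t : F} (hs : s ≠ 0) (ht : t ≠ 0) : J2 F (s • a) (t • b) ↔ J2 F a b := by
  simp [j2_iff, hs, Submodule.span_singleton_smul_eq hs.isUnit, Submodule.smul_mem_iff _ ht]

theorem j2_map (g : N ≃ₗ[F] N) : J2 F (g a) (g b) ↔ J2 F a b := by
  refine forall₂_congr fun s t => imp_congr_left ?_
  rw [← map_smul, ← map_smul, ← map_add, g.map_eq_zero_iff]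

theorem J2.li (h : J2 F a b) : LinearIndependent F ![a, b] := LinearIndependent.pair_iff.2 h

theorem J3.li (h : J3 F a b c) : LinearIndependent F ![a, b, c] := Fintype.linearIndependent_iff.2 fun g e i => by
  have := h (g 0) (g 1) (g 2) (by simpa [Fin.sum_univ_three] using e)
  fin_cases i <;> simp [this]

theorem finrank_pair_le (a b : N) : finrank F (Submodule.span F {a, b}) ≤ 2 := by
  classical
  simpa using (finrank_span_le_card (R := F) ({a, b} : Set N)).trans (by simpa using Finset.card_le_two)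

theorem finrank_single_le (a : N) : finrank F (F ∙ a) ≤ 1 := by
  simpa using finrank_span_le_card (R := F) ({a} : Set N)

end

variable {D : Form (quadKind F) N}

variable (D) in
/-- Non-degenerate of dimension at least seven. -/
class Big : Prop where
  nd : D.Nondeg
  dim : 7 ≤ finrank F N

theorem Big.good [h : Big D] : D.Good := good_of_finrank (by have := h.dim; omega)

theorem hyp_sup [FiniteDimensional F N] {Y : Submodule F N} (hY : Disjoint Y (D.perp Y)) {e f : N} (h : D.IsHyp e f)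
    (he : e ∈ D.perp Y) (hf : f ∈ D.perp Y) :
    Disjoint (Y ⊔ Submodule.span F {e, f}) (D.perp (Y ⊔ Submodule.span F {e, f})) ∧
      finrank F ↥(Y ⊔ Submodule.span F {e, f}) = finrank F Y + 2 := by
  have k : ∀ y ∈ Y, ∀ s t : F, D.B e (y + (s • e + t • f)) = 0 → D.B f (y + (s • e + t • f)) = 0 → s = 0 ∧ t = 0 :=
    fun y hy s t a b => by
      simpa [D.eq_zero_symm (he y hy), D.eq_zero_symm (hf y hy), h.B_ee, h.B_ff, h.B_ef, h.B_fe] using And.intro b a
  refine ⟨Submodule.disjoint_def.2 fun x hx hx' => ?_, ?_⟩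
  · obtain ⟨y, hy, z, hz, rfl⟩ := Submodule.mem_sup.1 hx
    obtain ⟨s, t, rfl⟩ := Submodule.mem_span_pair.1 hz
    rw [perp_sup] at hx'
    obtain ⟨rfl, rfl⟩ := k y hy s t (D.mem_perp_span_pair.1 hx'.2).1 (D.mem_perp_span_pair.1 hx'.2).2
    simpa using Submodule.disjoint_def.1 hY y hy (by simpa using hx'.1)
  · have := Submodule.finrank_sup_add_finrank_inf_eq Y (Submodule.span F {e, f})
    rw [h.finrank_span, (Submodule.disjoint_def.2 fun x hx hx' => ?_ : Disjoint Y _).eq_bot] at this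
    · simpa using this
    obtain ⟨s, t, rfl⟩ := Submodule.mem_span_pair.1 hx'
    have := k 0 Y.zero_mem s t (by simpa using D.eq_zero_symm (he _ hx)) (by simpa using D.eq_zero_symm (hf _ hx))
    simp [this]

theorem exists_nondeg_perp [FiniteDimensional F N] (hD : D.Nondeg) (H : Submodule F N) :
    ∃ C ≤ D.perp H, (D.restrict C).Nondeg ∧ finrank F N ≤ finrank F C + 2 * finrank F H := by
  obtain ⟨C, hC⟩ := ((D.restrict (D.perp H)).perp ⊤).exists_isCompl
  have h1 := (D.restrict (D.perp H)).nondeg_restrict_of_isCompl_rad hC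
  refine ⟨C.map (D.perp H).subtype, Submodule.map_subtype_le _ _, fun x hx => ?_, ?_⟩
  · obtain ⟨_, y, hy, rfl⟩ := x
    have := h1 ⟨y, hy⟩ fun z => hx ⟨z.1.1, z.1, z.2, rfl⟩
    exact Subtype.ext (by simpa using this)
  · have h2 := Submodule.finrank_add_eq_of_isCompl hC
    have h3 := hD.finrank_perp H
    have h4 : ((D.restrict (D.perp H)).perp ⊤).map (D.perp H).subtype ≤ H := by
      rintro _ ⟨x, hx, rfl⟩
      exact (hD.perp_perp H).le fun y hy => hx ⟨y, hy⟩ trivial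
    have h5 := Submodule.finrank_mono h4
    rw [Submodule.finrank_map_subtype_eq] at h5 ⊢
    omega

theorem hasTS_four [FiniteDimensional F N] {a b c x : N} (h : J3 F a b c) (hx : x ∉ Submodule.span F {a, b} ⊔ F ∙ c)
    (ha : D.Q a = 0) (hb : D.Q b = 0) (hc : D.Q c = 0) (hq : D.Q x = 0) (ab : D.B a b = 0) (ac : D.B a c = 0)
    (bc : D.B b c = 0) (ax : D.B a x = 0) (bx : D.B b x = 0) (cx : D.B c x = 0) : D.HasTS 4 := by
  have k : ∀ (U : Submodule F N) (e : N), e ∉ U → finrank F ↥(U ⊔ F ∙ e) = finrank F U + 1 := fun U e he => by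
    have := Submodule.finrank_sup_add_finrank_inf_eq U (F ∙ e)
    rw [finrank_span_singleton (by rintro rfl; exact he U.zero_mem),
      ((Submodule.disjoint_span_singleton' (by rintro rfl; exact he U.zero_mem)).2 he).eq_bot] at this
    simpa using this
  refine ⟨(Submodule.span F {a, b} ⊔ F ∙ c) ⊔ F ∙ x, ?_, ?_⟩
  · rw [k _ _ hx, k _ _ h.notMem, Submodule.span_insert, k _ _ h.j2.notMem, finrank_span_singleton h.j2.ne]
  · refine IsTS.sup_span (IsTS.sup_span ?_ hc (D.mem_perp_span_pair.2 ⟨ac, bc⟩)) hq ?_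
    · rw [Submodule.span_insert]
      exact (isTS_span_singleton ha).sup_span hb (D.mem_perp_span_singleton.2 ab)
    · rw [perp_sup]
      exact ⟨D.mem_perp_span_pair.2 ⟨ax, bx⟩, D.mem_perp_span_singleton.2 cx⟩

theorem commutator_le_E_three [Finite F] [FiniteDimensional F N] (hD : D.Nondeg) (hn : finrank F N = 3) :
    commutator D.isom ≤ D.E := by
  obtain ⟨e, f, h⟩ := Quad.exists_isHyp hD hn.ge
  have k : ∀ g : D.isom, ∃ m : D.isom, QuotientGroup.mk' D.E g = QuotientGroup.mk' D.E m ∧ ∃ c : F, c ≠ 0 ∧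
      m.1 e = c • e ∧ m.1 f = c⁻¹ • f := fun g => by
    obtain ⟨a, ha, c, hc, e1⟩ := hD.exists_mem_map_smul (G := D.E) eich_mem_E (Or.inr hn.ge) (x := g.1 e) (y := e)
      (by simp [h.Q_e]) (by simpa using h.e_ne_zero) h.Q_e h.e_ne_zero
    have e2 : D.B e (a.1 (g.1 f)) = c⁻¹ := by
      have := B_isom a (g.1 e) (g.1 f)
      rw [e1, B_isom, h.B_ef, D.B_smul_left] at this
      exact eq_inv_of_mul_eq_one_right this
    obtain ⟨d, b, e3⟩ := D.exists_eich_map (x := a.1 (g.1 f)) (y := c⁻¹ • f) h.Q_e (by simp [e2, h.B_ef])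
      (by simp [e2, hc]) (by simp [h.Q_f, quad_Q_smul])
    refine ⟨D.eich _ _ d b * a * g, ?_, c, hc, by simp [e1, eich_apply_self], e3⟩
    rw [map_mul, show QuotientGroup.mk' D.E (D.eich _ _ d b * a) = 1 from
      (QuotientGroup.eq_one_iff _).2 (D.E.mul_mem (eich_mem_E _ _ _ b) ha), one_mul]
  have r : finrank F (D.hp e f) = 1 := by have := h.finrank_hp; omega
  obtain ⟨u, -, hu⟩ := finrank_eq_one_iff'.1 r
  have l : ∀ (m : D.isom) (c : F), c ≠ 0 → m.1 e = c • e → m.1 f = c⁻¹ • f → ∃ t : F, m.1 u = t • u.1 := fun m c hc a b => by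
    have a1 := B_isom m e u
    have a2 := B_isom m f u
    rw [a, (D.mem_hp.1 u.2).1] at a1
    rw [b, (D.mem_hp.1 u.2).2] at a2
    obtain ⟨t, ht⟩ := hu ⟨m.1 u, D.mem_hp.2 ⟨by simpa [hc] using a1, by simpa [hc] using a2⟩⟩
    exact ⟨t, (congrArg Subtype.val ht).symm⟩
  refine Subgroup.commutator_le.2 fun g _ g' _ => ?_
  obtain ⟨m, e1, c, hc, a1, a2⟩ := k g
  obtain ⟨m', e2, c', hc', b1, b2⟩ := k g'
  obtain ⟨t, ht⟩ := l m c hc a1 a2
  obtain ⟨t', ht'⟩ := l m' c' hc' b1 b2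
  rw [← QuotientGroup.eq_one_iff (N := D.E), ← QuotientGroup.mk'_apply, map_commutatorElement,
    commutatorElement_eq_one_iff_commute, e1, e2]
  refine Commute.map (isom_ext fun x => ?_) _
  obtain ⟨w, hw, hx⟩ := h.exists_comb x
  obtain ⟨s, hs⟩ := hu ⟨w, hw⟩
  rw [hx, show w = s • u.1 from (congrArg Subtype.val hs).symm]
  simp only [isom_mul_apply, map_add, map_smul, a1, a2, b1, b2, ht, ht']
  module

variable [Finite F] [FiniteDimensional F N] [hB : Big D]

theorem rep_perp (H : Submodule F N) (h : finrank F H ≤ 2) (c : F) : ∃ u ∈ D.perp H, D.Q u = c := by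
  obtain ⟨C, h1, h2, h3⟩ := exists_nondeg_perp hB.nd H
  obtain ⟨u, hu⟩ := Quad.exists_Q_eq h2 (by have := hB.dim; omega) c
  exact ⟨u, h1 u.2, hu⟩

theorem mem_omega {g : D.isom} : g ∈ commutator D.isom ↔ dickson hB.nd g = 1 ∧ spinor hB.nd g = 1 :=
  hB.nd.mem_commutator_iff Big.good

theorem adjust (H : Submodule F N) (h : finrank F H ≤ 2) (g : D.isom) :
    ∃ k : commutator D.isom, ∀ x ∈ H, k.1.1 x = g.1 x := by
  obtain ⟨c, hc, e⟩ := exists_chi_eq hB.nd g
  obtain ⟨u, hu, h1⟩ := rep_perp (D := D) H h c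
  obtain ⟨v, hv, h2⟩ := rep_perp (D := D) H h 1
  have a1 := dickson_refl hB.nd (h1 ▸ hc)
  have a2 := dickson_refl hB.nd (h2 ▸ one_ne_zero)
  have a3 := spinor_refl hB.nd (h1 ▸ hc)
  have a4 := spinor_refl hB.nd (h2 ▸ one_ne_zero)
  rw [h1, e] at a3
  rw [h2, chi_of_isSquare IsSquare.one] at a4
  rcases Int.units_eq_one_or (dickson hB.nd g) with d | d
  · exact ⟨⟨g * D.refl u * D.refl v, mem_omega.2 (by simp [*])⟩, fun x hx => by
      simp [refl_apply_of_perp (D.eq_zero_symm (hu x hx)), refl_apply_of_perp (D.eq_zero_symm (hv x hx))]⟩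
  · exact ⟨⟨g * D.refl u, mem_omega.2 (by simp [*])⟩, fun x hx => by
      simp [refl_apply_of_perp (D.eq_zero_symm (hu x hx))]⟩

theorem witt2 {a b a' b' : N} (h : J2 F a b) (h' : J2 F a' b') (ha : D.Q a' = D.Q a) (hb : D.Q b' = D.Q b)
    (hab : D.B a' b' = D.B a b) : ∃ k : commutator D.isom, k.1.1 a = a' ∧ k.1.1 b = b' := by
  obtain ⟨g, hg⟩ := hB.nd.witt_family h.li h'.li (fun i j => by
    fin_cases i <;> fin_cases j <;> simp [quad_B_self, ha, hb, hab, quad_symm D b', quad_symm D b]) fun i => by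
    fin_cases i <;> simp [ha, hb]
  obtain ⟨k, hk⟩ := adjust _ (finrank_pair_le a b) g
  exact ⟨k, (hk a (Submodule.subset_span (by simp))).trans (hg 0), (hk b (Submodule.subset_span (by simp))).trans (hg 1)⟩

theorem witt1 {a a' : N} (h : a ≠ 0) (h' : a' ≠ 0) (ha : D.Q a' = D.Q a) : ∃ k : commutator D.isom, k.1.1 a = a' := by
  obtain ⟨g, hg⟩ := hB.nd.exists_map_of_Q_eq h h' ha.symm
  obtain ⟨k, hk⟩ := adjust _ ((finrank_single_le a).trans one_le_two) g
  exact ⟨k, (hk a (Submodule.mem_span_singleton_self _)).trans hg⟩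

variable (D) in
/-- Totally singular independent pairs. -/
structure T2 (a b : N) : Prop where
  j : J2 F a b
  qa : D.Q a = 0
  qb : D.Q b = 0
  ab : D.B a b = 0

variable (D) in
/-- Totally singular independent triples. -/
structure T3 (a b c : N) : Prop where
  j : J3 F a b c
  qa : D.Q a = 0
  qb : D.Q b = 0
  qc : D.Q c = 0
  ab : D.B a b = 0
  ac : D.B a c = 0
  bc : D.B b c = 0

section
omit [Finite F] [FiniteDimensional F N] hB
variable {a b c : N}

theorem T2.ba (h : T2 D a b) : D.B b a = 0 := D.eq_zero_symm h.ab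
theorem T2.symm (h : T2 D a b) : T2 D b a := ⟨h.j.symm, h.qb, h.qa, h.ba⟩
theorem T3.t2 (h : T3 D a b c) : T2 D a b := ⟨h.j.j2, h.qa, h.qb, h.ab⟩
theorem T3.rot (h : T3 D a b c) : T3 D b c a :=
  ⟨h.j.rot, h.qb, h.qc, h.qa, h.bc, D.eq_zero_symm h.ab, D.eq_zero_symm h.ac⟩
theorem T3.swap (h : T3 D a b c) : T3 D b a c := ⟨h.j.swap, h.qb, h.qa, h.qc, D.eq_zero_symm h.ab, h.bc, h.ac⟩

theorem T2.comb (h : T2 D a b) {x y : N} (hx : x ∈ Submodule.span F {a, b}) (hy : y ∈ Submodule.span F {a, b}) :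
    D.Q x = 0 ∧ D.B x y = 0 := by
  obtain ⟨s, t, rfl⟩ := Submodule.mem_span_pair.1 hx
  obtain ⟨s', t', rfl⟩ := Submodule.mem_span_pair.1 hy
  simp [quad_Q_add, quad_Q_smul, quad_B_self, h.qa, h.qb, h.ab, h.ba]

theorem T3.comb (h : T3 D a b c) (r s t r' s' t' : F) :
    D.Q (r • a + s • b + t • c) = 0 ∧ D.B (r • a + s • b + t • c) (r' • a + s' • b + t' • c) = 0 := by
  simp [quad_Q_add, quad_Q_smul, quad_B_self, h.qa, h.qb, h.qc, h.ab, h.ac, h.bc, h.rot.ac, h.rot.bc, h.rot.rot.ac]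

theorem T3.of (h : T3 D a b c) {x y z : N} (j : J3 F x y z) (hx : ∃ r s t : F, x = r • a + s • b + t • c)
    (hy : ∃ r s t : F, y = r • a + s • b + t • c) (hz : ∃ r s t : F, z = r • a + s • b + t • c) : T3 D x y z := by
  obtain ⟨_, _, _, rfl⟩ := hx
  obtain ⟨_, _, _, rfl⟩ := hy
  obtain ⟨_, _, _, rfl⟩ := hz
  exact ⟨j, (h.comb _ _ _ 0 0 0).1, (h.comb _ _ _ 0 0 0).1, (h.comb _ _ _ 0 0 0).1, (h.comb ..).2, (h.comb ..).2, (h.comb ..).2⟩

theorem t2_add (t : F) : T2 D a (b + t • a) ↔ T2 D a b := by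
  refine ⟨fun h => ?_, fun h => ⟨(j2_add t).2 h.j, h.qa, ?_, ?_⟩⟩
  · have e : D.B a b = 0 := by simpa [quad_B_self, h.qa] using h.ab
    exact ⟨(j2_add t).1 h.j, h.qa, by simpa [quad_Q_add, quad_Q_smul, h.qa, D.eq_zero_symm e] using h.qb, e⟩
  · simp [quad_Q_add, quad_Q_smul, h.qa, h.qb, h.ba]
  · simp [quad_B_self, h.qa, h.ab]

theorem t2_smul {s t : F} (hs : s ≠ 0) (ht : t ≠ 0) : T2 D (s • a) (t • b) ↔ T2 D a b :=
  ⟨fun h => ⟨(j2_smul hs ht).1 h.j, by simpa [quad_Q_smul, hs] using h.qa, by simpa [quad_Q_smul, ht] using h.qb,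
    by simpa [hs, ht] using h.ab⟩, fun h => ⟨(j2_smul hs ht).2 h.j, by simp [quad_Q_smul, h.qa],
    by simp [quad_Q_smul, h.qb], by simp [h.ab]⟩⟩

theorem t2_map (g : D.isom) : T2 D (g.1 a) (g.1 b) ↔ T2 D a b :=
  ⟨fun h => ⟨(j2_map _).1 h.j, by simpa using h.qa, by simpa using h.qb, by simpa using h.ab⟩,
    fun h => ⟨(j2_map _).2 h.j, by simpa using h.qa, by simpa using h.qb, by simpa using h.ab⟩⟩

end

theorem T2.witt {a b a' b' : N} (h : T2 D a b) (h' : T2 D a' b') :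
    ∃ k : commutator D.isom, k.1.1 a = a' ∧ k.1.1 b = b' :=
  witt2 h.j h'.j (h'.qa.trans h.qa.symm) (h'.qb.trans h.qb.symm) (h'.ab.trans h.ab.symm)

omit [Finite F] in
theorem T3.witt0 {a b c a' b' c' : N} (h : T3 D a b c) (h' : T3 D a' b' c') :
    ∃ g : D.isom, g.1 a = a' ∧ g.1 b = b' ∧ g.1 c = c' := by
  obtain ⟨g, hg⟩ := hB.nd.witt_family h.j.li h'.j.li (fun i j => by
    fin_cases i <;> fin_cases j <;> simp [quad_B_self, h.qa, h.qb, h.qc, h.ab, h.ac, h.bc, h.rot.ac, h.rot.bc,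
      h.rot.rot.ac, h'.qa, h'.qb, h'.qc, h'.ab, h'.ac, h'.bc, h'.rot.ac, h'.rot.bc, h'.rot.rot.ac]) fun i => by
    fin_cases i <;> simp [h.qa, h.qb, h.qc, h'.qa, h'.qb, h'.qc]
  exact ⟨g, hg 0, hg 1, hg 2⟩

theorem T3.witt {a b c a' b' c' : N} (h : T3 D a b c) (h' : T3 D a' b' c') :
    ∃ k : commutator D.isom, ∃ t : F, t ≠ 0 ∧ k.1.1 a = a' ∧ k.1.1 b = b' ∧ k.1.1 c = t • c' := by
  obtain ⟨g, e1, e2, e3⟩ := h.witt0 h'
  obtain ⟨t, ht, e⟩ := exists_chi_eq hB.nd g
  obtain ⟨f, hf, f1, f2⟩ := hB.nd.exists_partner h'.qc h'.j.notMem (D.mem_perp_span_pair.2 ⟨h'.ac, h'.bc⟩) 1 one_ne_zero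
  obtain ⟨f3, f4⟩ := D.mem_perp_span_pair.1 hf
  obtain ⟨m, m1, m2, m3⟩ := (IsHyp.mk h'.qc f1 f2).exists_torus hB.nd ht
  have a1 := (IsHyp.mk h'.qc f1 f2).dickson_torus hB.nd ht m1 m2 m3
  have a2 := (IsHyp.mk h'.qc f1 f2).spinor_torus hB.nd ht m1 m2 m3
  have m4 := m3 a' (D.mem_hp.2 ⟨h'.rot.bc, D.eq_zero_symm f3⟩)
  have m5 := m3 b' (D.mem_hp.2 ⟨h'.rot.rot.ac, D.eq_zero_symm f4⟩)
  rcases Int.units_eq_one_or (dickson hB.nd g) with d | d
  · exact ⟨⟨m * g, mem_omega.2 (by simp [*])⟩, t, ht, by simp [*]⟩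
  obtain ⟨C, h1, h2, h3⟩ := exists_nondeg_perp hB.nd (Submodule.span F {a', b'} ⊔ F ∙ c')
  have := Submodule.finrank_add_le_finrank_add_finrank (Submodule.span F {a', b'}) (F ∙ c')
  have := finrank_pair_le (F := F) a' b'
  have := finrank_single_le (F := F) c'
  have := hB.dim
  have : Nontrivial C := Module.nontrivial_of_finrank_pos (R := F) (by omega)
  obtain ⟨u, hu⟩ := h2.quad_exists_Q_ne_zero
  have u0 := h1 u.2
  rw [perp_sup] at u0
  obtain ⟨u1, u2⟩ := D.mem_perp_span_pair.1 u0.1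
  have u3 := D.mem_perp_span_singleton.1 u0.2
  obtain ⟨s, hs, e'⟩ := exists_chi_eq hB.nd (D.refl u * g)
  obtain ⟨m, m1, m2, m3⟩ := (IsHyp.mk h'.qc f1 f2).exists_torus hB.nd hs
  have a1 := (IsHyp.mk h'.qc f1 f2).dickson_torus hB.nd hs m1 m2 m3
  have a2 := (IsHyp.mk h'.qc f1 f2).spinor_torus hB.nd hs m1 m2 m3
  have m4 := m3 a' (D.mem_hp.2 ⟨h'.rot.bc, D.eq_zero_symm f3⟩)
  have m5 := m3 b' (D.mem_hp.2 ⟨h'.rot.rot.ac, D.eq_zero_symm f4⟩)
  exact ⟨⟨m * (D.refl u * g), mem_omega.2 ⟨by simp [a1, d, dickson_refl hB.nd (v := u.1) hu], by rw [map_mul, a2, e']; simp⟩⟩, s, hs, by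
    simp [e1, e2, e3, m1, m4, m5, refl_apply_of_perp (D.eq_zero_symm u1),
      refl_apply_of_perp (D.eq_zero_symm u2), refl_apply_of_perp (D.eq_zero_symm u3)]⟩

theorem T3.scale {a b c : N} (h : T3 D a b c) {s : F} (hs : s ≠ 0) :
    ∃ k : commutator D.isom, k.1.1 a = s • a ∧ k.1.1 b = s • b ∧ k.1.1 c = c := by
  obtain ⟨g, e1, e2, e3⟩ := h.witt0 (a' := s • a) (b' := b) (c' := c) (h.of (fun x y z e => by
    simpa [hs] using h.j (x * s) y z (by rw [← e, mul_smul])) ⟨s, 0, 0, by simp⟩ ⟨0, 1, 0, by simp⟩ ⟨0, 0, 1, by simp⟩)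
  obtain ⟨r, r1, r2, r3⟩ := h.swap.witt0 h
  have r4 : (r⁻¹).1 a = b := isom_inv_apply_eq.2 r1
  have r5 : (r⁻¹).1 b = a := isom_inv_apply_eq.2 r2
  have r6 : (r⁻¹).1 c = c := isom_inv_apply_eq.2 r3
  exact ⟨⟨g * (r * g * r⁻¹), mem_omega.2 (by simp [mul_comm, ← mul_assoc])⟩, by
    simp only [isom_mul_apply, r4, r5, r6, e1, e2, e3, r1, r2, r3, map_smul, and_self]⟩

theorem T2.exists_T3 {a b : N} (h : T2 D a b) : ∃ c, T3 D a b c := by
  obtain ⟨C, h1, h2, h3⟩ := exists_nondeg_perp hB.nd (Submodule.span F {a, b})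
  have := finrank_pair_le (F := F) a b
  obtain ⟨c, c0, c1⟩ := Quad.exists_singular (D.restrict C) (by have := hB.dim; omega)
  obtain ⟨c2, c3⟩ := D.mem_perp_span_pair.1 (h1 c.2)
  exact ⟨c, j3_iff.2 ⟨h.j, fun e => c0 (h2 c fun y => h1 y.2 c e)⟩, h.qa, h.qb, c1, h.ab, c2, c3⟩

theorem exists_sing_perp (a b c d : N) :
    ∃ z, z ≠ 0 ∧ D.Q z = 0 ∧ D.B a z = 0 ∧ D.B b z = 0 ∧ D.B c z = 0 ∧ D.B d z = 0 := by
  have := Submodule.finrank_add_le_finrank_add_finrank (Submodule.span F {a, b}) (Submodule.span F {c, d})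
  have := finrank_pair_le (F := F) a b
  have := finrank_pair_le (F := F) c d
  have := hB.nd.finrank_perp (Submodule.span F {a, b} ⊔ Submodule.span F {c, d})
  obtain ⟨z, z0, z1⟩ := Quad.exists_singular (D.restrict (D.perp (Submodule.span F {a, b} ⊔ Submodule.span F {c, d})))
    (by have := hB.dim; omega)
  have := (D.perp_sup _ _).le z.2
  exact ⟨z, by simpa using z0, z1, (D.mem_perp_span_pair.1 this.1).1, (D.mem_perp_span_pair.1 this.1).2,
    D.mem_perp_span_pair.1 this.2⟩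

variable (D) in
/-- The Siegel element as an element of `Ω`. -/
noncomputable def og (e z : N) : commutator D.isom := ⟨sg D e z, hB.nd.E_le_commutator Big.good (sg_mem_E e z)⟩

section
variable {e z z' x : N}

theorem og_apply (he : D.Q e = 0) (hz : D.B e z = 0) (x : N) :
    (og D e z).1.1 x = x + D.B z x • e - D.B e x • (z + D.Q z • e) := sg_apply he hz x

theorem og_perp (he : D.Q e = 0) (hz : D.B e z = 0) (hx : D.B e x = 0) : (og D e z).1.1 x = x + D.B z x • e :=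
  sg_apply_perp he hz hx

theorem og_fix (hx : D.B e x = 0) (hx' : D.B z x = 0) : (og D e z).1.1 x = x := sg_fix hx hx'

theorem og_self (e z : N) : (og D e z).1.1 e = e := sg_self e z

theorem og_mul (g : commutator D.isom) (e z : N) : g * og D e z = og D (g.1.1 e) (g.1.1 z) * g :=
  Subtype.ext (mul_inv_eq_iff_eq_mul.1 (conj_sg g.1 e z))

theorem og_add (hz : D.B e z = 0) (hz' : D.B e z' = 0) : og D e (z + z') = og D e z * og D e z' :=
  Subtype.ext (sg_add hz hz')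

theorem og_zero (e : N) : og D e 0 = 1 := Subtype.ext (sg_zero e)

theorem og_smul (he : D.Q e = 0) (hz : D.B e z = 0) (c : F) : og D (c • e) z = og D e (c • z) :=
  Subtype.ext (sg_smul_left he hz c)

theorem og_add_smul (he : D.Q e = 0) (z : N) (c : F) : og D e (z + c • e) = og D e z := Subtype.ext (sg_add_smul he z c)

theorem og_smul_self (he : D.Q e = 0) (c : F) : og D e (c • e) = 1 := Subtype.ext (sg_smul_self he c)

theorem og_swap (he : D.Q e = 0) (hz : D.Q z = 0) (h : D.B e z = 0) : og D e z = og D z (-e) :=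
  Subtype.ext (show sg D e z = sg D z (-e) by simpa using sg_swap he hz h 1)

theorem mem_of_og (H : Subgroup (commutator D.isom)) (h : ∀ e z, D.Q e = 0 → D.B e z = 0 → og D e z ∈ H)
    (g : commutator D.isom) : g ∈ H := by
  have : D.E ≤ H.map (commutator D.isom).subtype :=
    E_le fun e z d hd => ⟨og D e z, h e z hd.Q_e hd.B_ez, (eich_eq_sg hd).symm⟩
  obtain ⟨k, hk, e⟩ := this ((hB.nd.commutator_eq_E Big.good (by have := hB.dim; omega)).le g.2)
  exact (Subtype.ext e : k = g) ▸ hk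

end

end Cfsg.Lib.Stein.MinO
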