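import Cfsg.Agent.Lib.Stein.MinSL1

/-! Weight spaces of the transvection groups with a given centre. -/

set_option autoImplicit false

namespace Cfsg.Lib.Stein.MinSL

open Matrix Module Cfsg.Lib.Linear Finset

local notation "SL" => Matrix.SpecialLinearGroup

variable {ι : Type} [Fintype ι] [DecidableEq ι] {F : Type*} [Field F] [Fintype F] [DecidableEq F]
  {V : Type*} [AddCommGroup V] [Module ℂ V] (ρ : Representation ℂ (SL ι F) V) (ψ : AddChar F ℂ)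

/-- The weight space of the transvections with centre `p` for the character given by `w`. -/
def wsp (p w : ι → F) : Submodule ℂ V where
  carrier := {v | ∀ φ, φ ⬝ᵥ p = 0 → ρ (tvf p φ) v = ψ (φ ⬝ᵥ w) • v}
  add_mem' ha hb φ h := by rw [map_add, ha φ h, hb φ h, smul_add]
  zero_mem' φ h := by simp
  smul_mem' c v hv φ h := by rw [map_smul, hv φ h, smul_comm]

/-- The (unnormalised) projection onto `wsp p w`. -/
noncomputable def pr (p w : ι → F) : V →ₗ[ℂ] V :=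
  ∑ φ ∈ univ.filter (· ⬝ᵥ p = 0), ψ (-(φ ⬝ᵥ w)) • ρ (tvf p φ)

variable {ρ ψ} {p w : ι → F} {v : V}

theorem eq_zero_of_smul {c : ℂ} (hc : c ≠ 1) (h : v = c • v) : v = 0 := by
  have : (c - 1) • v = 0 := by rw [sub_smul, ← h, one_smul, sub_self]
  exact (smul_eq_zero.1 this).resolve_left (sub_ne_zero.2 hc)

omit [Fintype F] [DecidableEq F] in
theorem mem_wsp : v ∈ wsp ρ ψ p w ↔ ∀ φ, φ ⬝ᵥ p = 0 → ρ (tvf p φ) v = ψ (φ ⬝ᵥ w) • v := Iff.rfl

omit [Fintype F] [DecidableEq F] in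
theorem rho_mul (g h : SL ι F) (v : V) : ρ (g * h) v = ρ g (ρ h v) := by rw [map_mul]; rfl

omit [Fintype F] [DecidableEq F] in
theorem rho_inj (g : SL ι F) {u v : V} (h : ρ g u = ρ g v) : u = v := by
  simpa [← rho_mul] using congrArg (ρ g⁻¹) h

omit [Fintype F] [DecidableEq F] in
theorem rho_ne (g : SL ι F) (h : v ≠ 0) : ρ g v ≠ 0 := fun e => h (rho_inj g (by simpa using e))

omit [Fintype F] [DecidableEq F] in
theorem wsp_conj (g : SL ι F) (h : v ∈ wsp ρ ψ p w) : ρ g v ∈ wsp ρ ψ (g.1 *ᵥ p) (g.1 *ᵥ w) := fun φ hφ => by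
  rw [← rho_mul, tvf_mul hφ, rho_mul, h _ (by rwa [← dotProduct_mulVec]), map_smul, dotProduct_mulVec]

theorem pr_apply (v : V) :
    pr ρ ψ p w v = ∑ φ ∈ univ.filter (· ⬝ᵥ p = 0), ψ (-(φ ⬝ᵥ w)) • ρ (tvf p φ) v := by
  simp [pr, LinearMap.sum_apply]

theorem pr_tvf {χ : ι → F} (h : χ ⬝ᵥ p = 0) (v : V) : pr ρ ψ p w (ρ (tvf p χ) v) = ψ (χ ⬝ᵥ w) • pr ρ ψ p w v := by
  rw [pr_apply, pr_apply, smul_sum]
  refine sum_equiv (Equiv.addRight χ) (by simp [h]) fun φ hφ => ?_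
  rw [Equiv.coe_addRight, tvf_add (by simpa using hφ) h, rho_mul, smul_smul, ← AddChar.map_add_eq_mul]
  simp

theorem pr_mem (v : V) : pr ρ ψ p w v ∈ wsp ρ ψ p w := fun χ h => by
  rw [← pr_tvf h, pr_apply, pr_apply, map_sum]
  refine sum_congr rfl fun φ hφ => ?_
  rw [map_smul, ← rho_mul, ← rho_mul, ← tvf_add h (by simpa using hφ), ← tvf_add (by simpa using hφ) h, add_comm]

theorem pr_conj (g : SL ι F) (v : V) : ρ g (pr ρ ψ p w v) = pr ρ ψ (g.1 *ᵥ p) (g.1 *ᵥ w) (ρ g v) := by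
  rw [pr_apply, pr_apply, map_sum]
  symm
  refine sum_bijective (· ᵥ* g.1) (Finite.injective_iff_bijective.1
    (vecMul_injective_of_isUnit ((isUnit_iff_isUnit_det _).2 (by simp)))) (by simp [dotProduct_mulVec]) fun φ hφ => ?_
  rw [map_smul, ← rho_mul, ← rho_mul, tvf_mul (by simpa using hφ), dotProduct_mulVec]

theorem pr_add (c : F) : pr ρ ψ p (w + c • p) = pr ρ ψ p w :=
  sum_congr rfl fun φ hφ => by simp [(mem_filter.1 hφ).2]

theorem pr_eq_zero {χ : ι → F} (h : χ ⬝ᵥ p = 0) (h1 : ψ (χ ⬝ᵥ w) ≠ 1) (h2 : ρ (tvf p χ) v = v) : pr ρ ψ p w v = 0 := by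
  have := pr_tvf (ρ := ρ) (ψ := ψ) (w := w) h v
  rw [h2] at this
  exact eq_zero_of_smul h1 this

omit [DecidableEq F] in
theorem sum_dot (hψ : ψ ≠ 1) {φ : ι → F} (h : φ ≠ 0) : ∑ w, ψ (-(φ ⬝ᵥ w)) = 0 := by
  obtain ⟨c, hc⟩ := AddChar.ne_one_iff.1 hψ
  obtain ⟨z, hz⟩ := exists_dotProduct_eq_one h
  have := Fintype.sum_equiv (Equiv.addRight ((-c) • z)) (fun w => ψ c * ψ (-(φ ⬝ᵥ w))) (fun w => ψ (-(φ ⬝ᵥ w))) fun w => by
    simp [← AddChar.map_add_eq_mul, dotProduct_comm φ z, hz]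
  rw [← mul_sum, ← sub_eq_zero, ← sub_one_mul] at this
  exact (mul_eq_zero.1 this).resolve_left (sub_ne_zero.2 hc)

theorem sum_pr (hψ : ψ ≠ 1) (v : V) : ∑ w, pr ρ ψ p w v = (Fintype.card (ι → F) : ℂ) • v := by
  simp only [pr_apply]
  rw [sum_comm, sum_eq_single 0 (fun φ _ h => by rw [← sum_smul, sum_dot hψ h, zero_smul]) (by simp), ← sum_smul]
  simp [tvf_zero]

theorem fix_of_pr (hψ : ψ ≠ 1) {χ : ι → F} (h : χ ⬝ᵥ p = 0) (h1 : ∀ w, χ ⬝ᵥ w ≠ 0 → pr ρ ψ p w v = 0) :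
    ρ (tvf p χ) v = v := by
  refine smul_right_injective V (r := (Fintype.card (ι → F) : ℂ)) (by simp) ?_
  simp only
  rw [← map_smul, ← sum_pr (ρ := ρ) (p := p) hψ, map_sum]
  refine sum_congr rfl fun w _ => ?_
  by_cases c : χ ⬝ᵥ w = 0
  · rw [pr_mem v χ h, c]; simp
  · simp [h1 w c]

omit [Fintype F] [DecidableEq F] in
/-- The subgroup fixing a vector. -/
def fixS (ρ : Representation ℂ (SL ι F) V) (v : V) : Subgroup (SL ι F) where
  carrier := {g | ρ g v = v}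
  mul_mem' ha hb := by rw [Set.mem_ofPred_eq] at *; rw [rho_mul, hb, ha]
  one_mem' := by simp
  inv_mem' {g} h := rho_inj g (by rw [← rho_mul, mul_inv_cancel, map_one]; exact h.symm)

theorem exists_wsp (hψ : ψ ≠ 1) (hv : ¬ ∀ g, ρ g v = v) : ∃ p w, I2 p w ∧ ∃ y ∈ wsp ρ ψ p w, y ≠ 0 := by
  by_contra! h
  refine hv fun g => mem_of_fix (fixS ρ v) ⊥ (fun u φ _ hu => ?_) g (by simp)
  by_cases c : u = 0
  · simp [c, tvf_zero_left]
  refine fix_of_pr hψ hu fun w hw => h u w (i2_iff.2 ⟨c, fun e => hw ?_⟩) _ (pr_mem v)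
  obtain ⟨t, rfl⟩ := Submodule.mem_span_singleton.1 e
  simp [hu]

omit [Fintype F] [DecidableEq F] in
/-- If a weight space is a line, the pointwise stabiliser of the plane acts trivially on it. -/
theorem fix_of_finrank [FiniteDimensional ℂ V] (h3 : Fintype.card ι = 3 → ∃ a : F, a ≠ 0 ∧ a ^ 3 ≠ 1)
    (h4 : Fintype.card ι = 4 → ∃ a : F, a ≠ 0 ∧ a ^ 2 ≠ 1) (hι : 3 ≤ Fintype.card ι)
    (hm : finrank ℂ (wsp ρ ψ p w) ≤ 1) (hv : v ∈ wsp ρ ψ p w) (g : SL ι F) (hp : g.1 *ᵥ p = p) (hw : g.1 *ᵥ w = w) :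
    ρ g v = v := by
  by_cases h0 : v = 0
  · simp [h0]
  have k1 : ∀ (g : SL ι F) (a : F), g.1 *ᵥ p = a • p → g.1 *ᵥ w = a • w → a ≠ 0 → ∃ c : ℂ, ρ g v = c • v := fun g a hp hw ha => by
    have := wsp_conj g hv
    rw [hp, hw] at this
    have : ρ g v ∈ wsp ρ ψ p w := fun φ hφ => by
      have := this (a⁻¹ • φ) (by simp [hφ])
      rwa [tvf_smul (by simp [hφ]), smul_smul, mul_inv_cancel₀ ha, one_smul, smul_dotProduct, dotProduct_smul, smul_smul,
        inv_mul_cancel₀ ha, one_smul] at this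
    have n0 : (⟨v, hv⟩ : wsp ρ ψ p w) ≠ 0 := by simpa using h0
    obtain ⟨c, hc⟩ := (finrank_eq_one_iff_of_nonzero' _ n0).1
      (le_antisymm hm (finrank_pos_iff_exists_ne_zero.2 ⟨_, n0⟩)) ⟨_, this⟩
    exact ⟨c, (congrArg Subtype.val hc).symm⟩
  have k2 : ∀ (g : SL ι F) (a : F), g.1 *ᵥ p = a • p → g.1 *ᵥ w = a • w → a ≠ 0 → ∀ u φ, φ ⬝ᵥ p = 0 → φ ⬝ᵥ w = 0 →
      φ ⬝ᵥ g.1 *ᵥ u = 0 → ρ (tvf (g.1 *ᵥ u) φ) v = ρ (tvf u (φ ᵥ* g.1)) v := fun g a hp hw ha u φ h1 h2 h3 => by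
    obtain ⟨c, hc⟩ := k1 g a hp hw ha
    have h3' := h3
    rw [dotProduct_mulVec] at h3'
    obtain ⟨d, hd⟩ := k1 (tvf u (φ ᵥ* g.1)) 1 (by simp [tvf_mulVec h3', ← dotProduct_mulVec, hp, h1])
      (by simp [tvf_mulVec h3', ← dotProduct_mulVec, hw, h2]) one_ne_zero
    have := congrArg (ρ · v) (tvf_mul h3)
    simp only [rho_mul, hc, hd, map_smul] at this
    rw [smul_comm] at this
    rw [hd]
    exact smul_right_injective V (fun e => rho_ne g h0 (by rw [hc, e, zero_smul])) this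
  have k3 : ∀ (g : SL ι F) (a : F), g.1 *ᵥ p = a • p → g.1 *ᵥ w = a • w → a ≠ 0 → ∀ u φ, φ ⬝ᵥ p = 0 → φ ⬝ᵥ w = 0 →
      φ ⬝ᵥ u = 0 → ∀ b c : F, b ≠ c → g.1 *ᵥ u = b • u → φ ᵥ* g.1 = c • φ → ρ (tvf u φ) v = v :=
    fun g a hp hw ha u φ h1 h2 h3 b c hbc e1 e2 => by
      have := k2 g a hp hw ha ((b - c)⁻¹ • u) φ h1 h2 (by simp [mulVec_smul, e1, h3])
      rw [mulVec_smul, e1, e2, ← tvf_smul (by simp [h3]), show (b - c)⁻¹ • b • u = c • (b - c)⁻¹ • u + u by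
        have := sub_ne_zero.2 hbc
        match_scalars
        field_simp
        ring, tvf_add_left (by simp [h3]) h3, rho_mul] at this
      exact rho_inj _ this
  refine mem_of_fix (fixS ρ v) (Submodule.span F {p, w}) (fun u φ h hu => ?_) g fun x hx => by
    obtain ⟨s, t, rfl⟩ := Submodule.mem_span_pair.1 hx
    simp [mulVec_add, mulVec_smul, hp, hw]
  obtain ⟨h1, h2⟩ := ann_span_pair.1 h
  by_cases c : φ = 0
  · simp [c, tvf_zero]
  obtain ⟨z, hz⟩ := exists_dotProduct_eq_one c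
  rw [dotProduct_comm] at hz
  by_cases c3 : Fintype.card ι = 3
  · obtain ⟨a, ha, ha3⟩ := h3 c3
    obtain ⟨g, hg⟩ := exists_sl_scal hz ha
    refine k3 g a (by simp [hg, h1]) (by simp [hg, h2]) ha u φ h1 h2 hu a (a * (a ^ 3)⁻¹)
      (fun e => ha3 (by simpa [ha] using e)) (by simp [hg, hu]) (dotProduct_eq _ _ fun x => ?_)
    simp only [← dotProduct_mulVec, hg, dotProduct_add, dotProduct_smul, hz, c3, smul_dotProduct, smul_eq_mul]
    ring
  have r2 : finrank F (Submodule.span F {p, w}) ≤ 2 := by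
    classical
    simpa using (finrank_span_le_card (R := F) ({p, w} : Set (ι → F))).trans (by simpa using card_le_two)
  by_cases c4 : ∃ u', φ ⬝ᵥ u' = 0 ∧ u' ∉ Submodule.span F {p, w} ⊔ F ∙ u
  · obtain ⟨u', e1, e2⟩ := c4
    obtain ⟨χ, e3, e4⟩ := exists_dotProduct_of_notMem e2 1
    have e5 := e3 u (Submodule.mem_sup_right (Submodule.mem_span_singleton_self _))
    obtain ⟨e6, e7⟩ := ann_span_pair.1 fun x hx => e3 x (Submodule.mem_sup_left hx)
    have := k2 (tvf u χ) 1 (by simp [tvf_mulVec e5, e6]) (by simp [tvf_mulVec e5, e7]) one_ne_zero u' φ h1 h2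
      (by simp [tvf_mulVec e5, e1, hu])
    rw [tvf_mulVec e5, vecMul_tvf e5, e4, hu, one_smul, zero_smul, add_zero, tvf_add_left e1 hu, rho_mul] at this
    exact rho_inj _ this
  have r3 := Submodule.finrank_add_le_finrank_add_finrank (Submodule.span F {p, w}) (F ∙ u)
  have r1 : finrank F (F ∙ u) ≤ 1 := by simpa using finrank_span_le_card (R := F) ({u} : Set (ι → F))
  obtain ⟨a, ha, ha2⟩ := h4 (by_contra fun e => c4 (exists_ker_notMem (by omega) hz))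
  have : u ∉ Submodule.span F {p, w} ⊔ F ∙ z := fun e => by
    obtain ⟨x, hx, y, hy, e⟩ := Submodule.mem_sup.1 e
    obtain ⟨s, rfl⟩ := Submodule.mem_span_singleton.1 hy
    have : s = 0 := by simpa [← e, h x hx, hz] using hu
    rw [this, zero_smul, add_zero] at e
    rw [sup_eq_left.2 ((Submodule.span_singleton_le_iff_mem _ _).2 (e ▸ hx))] at c4
    exact c4 (exists_ker_notMem (by omega) hz)
  obtain ⟨χ, e3, e4⟩ := exists_dotProduct_of_notMem this 1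
  obtain ⟨e6, e7⟩ := ann_span_pair.1 fun x hx => e3 x (Submodule.mem_sup_left hx)
  have e5 := e3 z (Submodule.mem_sup_right (Submodule.mem_span_singleton_self _))
  obtain ⟨g, hg⟩ := exists_sl_dil e4 hz e5 ha
  refine k3 g 1 (by simp [hg, h1, e6]) (by simp [hg, h2, e7]) one_ne_zero u φ h1 h2 hu a a⁻¹
    (fun e => ha2 (by rw [sq]; nth_rw 2 [e]; exact mul_inv_cancel₀ ha)) (by simp [hg, hu, e4, sub_smul]) (dotProduct_eq _ _ fun x => ?_)
  simp only [← dotProduct_mulVec, hg, dotProduct_add, dotProduct_smul, hz, hu, smul_dotProduct, smul_eq_mul]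
  ring

variable (ρ ψ) in
/-- The pointwise stabiliser of a plane acts trivially on the weight spaces belonging to that plane. -/
def PropW : Prop := ∀ p w, I2 p w → ∀ v ∈ wsp ρ ψ p w, ∀ g : SL ι F, g.1 *ᵥ p = p → g.1 *ᵥ w = w → ρ g v = v

omit [Fintype F] [DecidableEq F] in
theorem propW_of (hι : 3 ≤ Fintype.card ι) (h : I2 p w)
    (h1 : ∀ v ∈ wsp ρ ψ p w, ∀ g : SL ι F, g.1 *ᵥ p = p → g.1 *ᵥ w = w → ρ g v = v) : PropW ρ ψ := fun p' w' h' v hv g a b => by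
  obtain ⟨k, c, d⟩ := h'.exists_sl hι h
  have := h1 _ (c ▸ d ▸ wsp_conj k hv) (k * g * k⁻¹)
    (by rw [← c, mulVec_mulVec, ← sl_coe_mul, inv_mul_cancel_right, sl_coe_mul, ← mulVec_mulVec, a])
    (by rw [← d, mulVec_mulVec, ← sl_coe_mul, inv_mul_cancel_right, sl_coe_mul, ← mulVec_mulVec, b])
  rw [← rho_mul, inv_mul_cancel_right, rho_mul] at this
  exact rho_inj k this

theorem PropW.pr_eq (hW : PropW ρ ψ) (h : I2 p w) {g : SL ι F} (hp : g.1 *ᵥ p = p) (hw : g.1 *ᵥ w = w) (v : V) :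
    pr ρ ψ p w (ρ g v) = pr ρ ψ p w v := by
  have := pr_conj (ρ := ρ) (ψ := ψ) (p := p) (w := w) g v
  rw [hp, hw] at this
  rw [← this, hW p w h _ (pr_mem v) g hp hw]

/-- The rank-two part is not cuspidal. -/
theorem PropW.exists_fixed (hW : PropW ρ ψ) (hψ : ψ ≠ 1) (hι : 3 ≤ Fintype.card ι) (h : I2 p w) (hv : v ∈ wsp ρ ψ p w)
    (h0 : v ≠ 0) : ∃ a b, I2 a b ∧ ∃ y : V, y ≠ 0 ∧ (∀ g : SL ι F, g.1 *ᵥ a = a → g.1 *ᵥ b = b → ρ g y = y) ∧
      ∀ φ, φ ⬝ᵥ a = 0 → ρ (tvf a φ) y = y := by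
  have K : ∀ g : SL ι F, (∀ x ∈ Submodule.span F {p, w}, g.1 *ᵥ x = x) → ρ g v = v := fun g hg =>
    hW p w h v hv g (hg _ (Submodule.subset_span (by simp))) (hg _ (Submodule.subset_span (by simp)))
  obtain ⟨c, hc⟩ := AddChar.ne_one_iff.1 hψ
  suffices ∃ a ∈ Submodule.span F {p, w}, a ≠ 0 ∧ pr ρ ψ a 0 v ≠ 0 by
    obtain ⟨a, ha, h1, h2⟩ := this
    obtain ⟨s, t, rfl⟩ := Submodule.mem_span_pair.1 ha
    obtain ⟨b, hb, e⟩ : ∃ b, I2 (s • p + t • w) b ∧ ∀ g : SL ι F, g.1 *ᵥ (s • p + t • w) = s • p + t • w → g.1 *ᵥ b = b →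
        g.1 *ᵥ p = p ∧ g.1 *ᵥ w = w := by
      by_cases ht : t = 0
      · have hs : s ≠ 0 := by rintro rfl; simp [ht] at h1
        refine ⟨w, fun x y e => by simpa [hs] using h (x * s) y (by rw [← e, ht]; module), fun g a b => ⟨?_, b⟩⟩
        simpa [ht, mulVec_smul, smul_right_injective _ hs |>.eq_iff] using a
      · refine ⟨p, fun x y e => ?_, fun g a b => ⟨b, ?_⟩⟩
        · have := h (x * s + y) (x * t) (by rw [← e]; module)
          have hx : x = 0 := by simpa [ht] using this.2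
          simpa [hx] using this
        · simpa [mulVec_add, mulVec_smul, b, smul_right_injective _ ht |>.eq_iff] using a
    refine ⟨_, b, hb, _, h2, fun g a b => ?_, fun φ hφ => by simpa using pr_mem (ρ := ρ) (ψ := ψ) (w := 0) v φ hφ⟩
    rw [pr_conj, a, mulVec_zero, hW p w h v hv g (e g a b).1 (e g a b).2]
  by_contra! H
  have T : ∀ r ∉ Submodule.span F {p, w}, ∀ φ, φ ⬝ᵥ r = 0 → ρ (tvf r φ) v = v := fun r hr φ hφ => by
    refine fix_of_pr hψ hφ fun x hx => ?_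
    by_cases c1 : x ∈ Submodule.span F {p, w} ⊔ F ∙ r
    swap
    · obtain ⟨χ, e1, e2⟩ := exists_dotProduct_of_notMem c1 c
      have e3 := e1 r (Submodule.mem_sup_right (Submodule.mem_span_singleton_self _))
      exact pr_eq_zero e3 (e2 ▸ hc) (K _ fun y hy => by simp [tvf_mulVec e3, e1 y (Submodule.mem_sup_left hy)])
    obtain ⟨a, ha, y, hy, rfl⟩ := Submodule.mem_sup.1 c1
    obtain ⟨s, rfl⟩ := Submodule.mem_span_singleton.1 hy
    have a0 : a ≠ 0 := by rintro rfl; simp [hφ] at hx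
    have ra : I2 r a := (i2_iff.2 ⟨a0, fun e => hr ((Submodule.span_singleton_le_iff_mem _ _).2 ha e)⟩).symm
    rw [pr_add]
    have := congrArg (pr ρ ψ r a) (H a ha a0)
    rw [pr_apply v, map_sum, map_zero, sum_congr rfl (g := fun _ => pr ρ ψ r a v) fun φ hφ => ?_, sum_const,
      ← Nat.cast_smul_eq_nsmul ℂ] at this
    · exact (smul_eq_zero.1 this).resolve_left (Nat.cast_ne_zero.2 (card_ne_zero.2 ⟨0, by simp⟩))
    have hφ := (mem_filter.1 hφ).2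
    obtain ⟨χ, e1, e2⟩ := exists_dotProduct_of_notMem hr (φ ⬝ᵥ r)
    have e3 := e1 a ha
    have e4 : (φ - χ) ⬝ᵥ a = 0 := by simp [hφ, e3]
    rw [show φ = (φ - χ) + χ by simp, tvf_add e4 e3, rho_mul, K _ fun y hy => by simp [tvf_mulVec e3, e1 y hy]]
    simpa using hW.pr_eq ra (by simp [tvf_mulVec e4, e2]) (by simp [tvf_mulVec e4, hφ, e3]) v
  obtain ⟨z, hz⟩ := exists_notMem_pair hι p w
  obtain ⟨φ, e1, e2, e3⟩ := exists_dot_pair (a := p) (b := z) (c := w) (fun e => by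
    obtain ⟨s, t, e⟩ := Submodule.mem_span_pair.1 e
    by_cases ht : t = 0
    · simpa using (h s (-1) (by rw [← e, ht]; module)).2
    · exact hz (Submodule.mem_span_pair.2 ⟨-(t⁻¹ * s), t⁻¹, by rw [← e]; match_scalars <;> (field_simp; try ring)⟩)) c
  have := hv φ e1
  rw [show tvf p φ = tvf (p + z) φ * tvf (-z) φ by rw [← tvf_add_left (by simp [e1, e2]) (by simp [e2])]; simp, rho_mul,
    T _ (by simpa using hz) _ (by simp [e2]),
    T _ (by rwa [Submodule.add_mem_iff_right _ (Submodule.subset_span (by simp))]) _ (by simp [e1, e2]), e3] at this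
  exact h0 (eq_zero_of_smul hc this)

end Cfsg.Lib.Stein.MinSL
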