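import Cfsg.Agent.Lib.Stein.MinO1
import Cfsg.Agent.Lib.Stein.MinSL2

/-! Weight spaces of the groups of Siegel elements with a given centre. -/

set_option autoImplicit false
set_option linter.unusedSectionVars false

namespace Cfsg.Lib.Stein.MinO

open Module Cfsg.Lib.Forms Cfsg.Lib.Forms.Form Cfsg.Lib.Forms.MI Finset
open Cfsg.Lib.Stein.MinSL (eq_zero_of_smul)

universe u

section
variable {G V : Type*} [Group G] [AddCommGroup V] [Module ℂ V] {ρ : Representation ℂ G V} {v : V}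

theorem rmul (g h : G) (v : V) : ρ (g * h) v = ρ g (ρ h v) := by rw [map_mul]; rfl

theorem rinj (g : G) {u v : V} (h : ρ g u = ρ g v) : u = v := by
  simpa [← rmul] using congrArg (ρ g⁻¹) h

theorem rne (g : G) (h : v ≠ 0) : ρ g v ≠ 0 := fun e => h (rinj g (by simpa using e))

/-- The subgroup fixing a vector. -/
def fixV (ρ : Representation ℂ G V) (v : V) : Subgroup G where
  carrier := {g | ρ g v = v}
  mul_mem' ha hb := by rw [Set.mem_ofPred_eq] at *; rw [rmul, hb, ha]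
  one_mem' := by simp
  inv_mem' {g} h := rinj g (by rw [← rmul, mul_inv_cancel, map_one]; exact h.symm)

theorem mem_fixV {g : G} : g ∈ fixV ρ v ↔ ρ g v = v := Iff.rfl

end

variable {F : Type*} [Field F] [Fintype F] [DecidableEq F] {N : Type u} [AddCommGroup N] [Module F N] [Fintype N]
  {D : Form (quadKind F) N} [hB : Big D] {V : Type*} [AddCommGroup V] [Module ℂ V]
  (ρ : Representation ℂ (commutator D.isom) V) (ψ : AddChar F ℂ)

/-- The weight space of the Siegel elements with centre `p` for the character given by `w`. -/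
def ws (p w : N) : Submodule ℂ V where
  carrier := {v | ∀ z, D.B p z = 0 → ρ (og D p z) v = ψ (D.B z w) • v}
  add_mem' ha hb φ h := by rw [map_add, ha φ h, hb φ h, smul_add]
  zero_mem' φ h := by simp
  smul_mem' c v hv φ h := by rw [map_smul, hv φ h, smul_comm]

/-- The (unnormalised) projection onto `ws p w`. -/
noncomputable def pj (p w : N) : V →ₗ[ℂ] V :=
  ∑ z ∈ univ.filter (D.B p · = 0), ψ (-(D.B z w)) • ρ (og D p z)

variable {ρ ψ} {p w : N} {v : V}

theorem og_zero_left (z : N) : og D 0 z = 1 := Subtype.ext (by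
  by_cases h : D.Q 0 = 0 ∧ D.B 0 z = 0
  · exact isom_ext fun x => by simp [og_apply h.1 h.2]
  · simp at h)

theorem ws_conj (g : commutator D.isom) (h : v ∈ ws ρ ψ p w) : ρ g v ∈ ws ρ ψ (g.1.1 p) (g.1.1 w) := fun z hz => by
  obtain ⟨z, rfl⟩ := g.1.1.surjective z
  rw [← rmul, ← og_mul, rmul, h z (by simpa using hz), map_smul, B_isom]

theorem ws_smul (hp : D.Q p = 0) {a : F} (ha : a ≠ 0) (h : v ∈ ws ρ ψ (a • p) (a • w)) : v ∈ ws ρ ψ p w := fun z hz => by
  have := h (a⁻¹ • z) (by simp [hz])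
  rwa [og_smul hp (by simp [hz]), smul_inv_smul₀ ha, D.B_smul_left, D.B_smul_right, RingHom.id_apply,
    inv_mul_cancel_left₀ ha] at this

theorem pj_apply (v : V) :
    pj ρ ψ p w v = ∑ z ∈ univ.filter (D.B p · = 0), ψ (-(D.B z w)) • ρ (og D p z) v := by
  simp [pj, LinearMap.sum_apply]

theorem pj_og {x : N} (h : D.B p x = 0) (v : V) : pj ρ ψ p w (ρ (og D p x) v) = ψ (D.B x w) • pj ρ ψ p w v := by
  rw [pj_apply, pj_apply, smul_sum]
  refine sum_equiv (Equiv.addRight x) (by simp [h]) fun z hz => ?_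
  rw [Equiv.coe_addRight, og_add (by simpa using hz) h, rmul, smul_smul, ← AddChar.map_add_eq_mul]
  simp

theorem pj_mem (v : V) : pj ρ ψ p w v ∈ ws ρ ψ p w := fun x h => by
  rw [← pj_og h, pj_apply, pj_apply, map_sum]
  refine sum_congr rfl fun z hz => ?_
  rw [map_smul, ← rmul, ← rmul, ← og_add h (by simpa using hz), ← og_add (by simpa using hz) h, add_comm]

theorem pj_conj (g : commutator D.isom) (v : V) :
    ρ g (pj ρ ψ p w v) = pj ρ ψ (g.1.1 p) (g.1.1 w) (ρ g v) := by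
  rw [pj_apply, pj_apply, map_sum]
  refine sum_equiv g.1.1.toEquiv (by simp) fun z _ => ?_
  rw [map_smul, ← rmul, og_mul, rmul]
  simp

theorem pj_add (c : F) : pj ρ ψ p (w + c • p) = pj ρ ψ p w :=
  sum_congr rfl fun z hz => by simp [D.eq_zero_symm (mem_filter.1 hz).2]

theorem pj_smul (hp : D.Q p = 0) {a : F} (ha : a ≠ 0) : pj ρ ψ (a • p) (a • w) = pj ρ ψ p w :=
  sum_equiv (MulAction.toPerm (Units.mk0 a ha)) (by simp [Units.smul_def, ha]) fun z hz => by
    rw [og_smul hp (by simpa [ha] using hz)]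
    simp [Units.smul_def]

theorem pj_of_mem (h : v ∈ ws ρ ψ p w) : pj ρ ψ p w v = ((univ.filter (D.B p · = 0)).card : ℂ) • v := by
  rw [pj_apply, sum_congr rfl (g := fun _ => v) fun z hz => by
    rw [h z (mem_filter.1 hz).2, smul_smul, ← AddChar.map_add_eq_mul]; simp, sum_const, Nat.cast_smul_eq_nsmul]

theorem card_perp_ne : ((univ.filter (D.B p · = 0)).card : ℂ) ≠ 0 := Nat.cast_ne_zero.2 (card_ne_zero.2 ⟨0, by simp⟩)

theorem pj_eq_zero {x : N} (h : D.B p x = 0) (h1 : ψ (D.B x w) ≠ 1) (h2 : ρ (og D p x) v = v) : pj ρ ψ p w v = 0 := by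
  have := pj_og (ρ := ρ) (ψ := ψ) (w := w) h v
  rw [h2] at this
  exact eq_zero_of_smul h1 this

theorem sum_B (hψ : ψ ≠ 1) {z : N} (h : z ≠ 0) : ∑ w, ψ (-(D.B z w)) = 0 := by
  obtain ⟨c, hc⟩ := AddChar.ne_one_iff.1 hψ
  obtain ⟨y, -, hy⟩ := hB.nd.exists_perp_B_eq' (H := ⊥) (by simpa using h) (-c)
  have := Fintype.sum_equiv (Equiv.addRight y) (fun w => ψ c * ψ (-(D.B z w))) (fun w => ψ (-(D.B z w))) fun w => by
    simp [← AddChar.map_add_eq_mul, hy]
  rw [← mul_sum, ← sub_eq_zero, ← sub_one_mul] at this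
  exact (mul_eq_zero.1 this).resolve_left (sub_ne_zero.2 hc)

theorem sum_pj (hψ : ψ ≠ 1) (v : V) : ∑ w, pj ρ ψ p w v = (Fintype.card N : ℂ) • v := by
  simp only [pj_apply]
  rw [sum_comm, sum_eq_single 0 (fun z _ h => by rw [← sum_smul, sum_B hψ h, zero_smul]) (by simp), ← sum_smul]
  simp [og_zero]

theorem fix_of_pj (hψ : ψ ≠ 1) {x : N} (h : D.B p x = 0) (h1 : ∀ w, D.B x w ≠ 0 → pj ρ ψ p w v = 0) :
    ρ (og D p x) v = v := by
  refine smul_right_injective V (r := (Fintype.card N : ℂ)) (by simp) ?_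
  simp only
  rw [← map_smul, ← sum_pj (ρ := ρ) (p := p) hψ, map_sum]
  refine sum_congr rfl fun w _ => ?_
  by_cases c : D.B x w = 0
  · rw [pj_mem v x h, c]; simp
  · simp [h1 w c]

theorem pj_eq_zero_of_notMem (hψ : ψ ≠ 1) {H : Submodule F N} (hp : p ∈ H) (hw : w ∉ H)
    (h : ∀ z ∈ D.perp H, ρ (og D p z) v = v) : pj ρ ψ p w v = 0 := by
  obtain ⟨c, hc⟩ := AddChar.ne_one_iff.1 hψ
  obtain ⟨z, e1, e2⟩ := hB.nd.exists_perp_B_eq hw c
  exact pj_eq_zero (e1 p hp) (e2 ▸ hc) (h z e1)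

theorem ws_perp (hψ : ψ ≠ 1) (hp : D.Q p = 0) (h : v ∈ ws ρ ψ p w) (h0 : v ≠ 0) : D.B p w = 0 := by
  obtain ⟨c, hc⟩ := AddChar.ne_one_iff.1 hψ
  by_contra e
  have := h ((c * (D.B p w)⁻¹) • p) (by simp [quad_B_self, hp])
  rw [og_smul_self hp, map_one, D.B_smul_left, RingHom.id_apply, inv_mul_cancel_right₀ e] at this
  exact h0 (eq_zero_of_smul hc this)

theorem exists_ws (hψ : ψ ≠ 1) (hv : ¬ ∀ g, ρ g v = v) :
    ∃ p w, D.Q p = 0 ∧ J2 F p w ∧ D.B p w = 0 ∧ ∃ y ∈ ws ρ ψ p w, y ≠ 0 := by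
  by_contra! h
  refine hv fun g => mem_of_og (fixV ρ v) (fun e z he hz => ?_) g
  by_cases c : e = 0
  · rw [c, og_zero_left]
    exact one_mem _
  refine fix_of_pj hψ hz fun w hw => by_contra fun d => d (h e w he (j2_iff.2 ⟨c, fun e => hw ?_⟩)
    (ws_perp hψ he (pj_mem v) d) _ (pj_mem v))
  obtain ⟨t, rfl⟩ := Submodule.mem_span_singleton.1 e
  simp [D.eq_zero_symm hz]

section one
variable [FiniteDimensional ℂ V] (hp : D.Q p = 0) (hm : finrank ℂ (ws ρ ψ p w) ≤ 1) (hv : v ∈ ws ρ ψ p w)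
include hp hm hv

theorem scalar_of_finrank (h0 : v ≠ 0) (g : commutator D.isom) {a : F} (e1 : g.1.1 p = a • p) (e2 : g.1.1 w = a • w)
    (ha : a ≠ 0) : ∃ c : ℂ, ρ g v = c • v := by
  have := ws_conj g hv
  rw [e1, e2] at this
  have n0 : (⟨v, hv⟩ : ws ρ ψ p w) ≠ 0 := by simpa using h0
  obtain ⟨c, hc⟩ := (finrank_eq_one_iff_of_nonzero' _ n0).1
    (le_antisymm hm (finrank_pos_iff_exists_ne_zero.2 ⟨_, n0⟩)) ⟨_, ws_smul hp ha this⟩
  exact ⟨c, (congrArg Subtype.val hc).symm⟩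

theorem og_conj_of_finrank (g : commutator D.isom) (e1 : g.1.1 p = p) (e2 : g.1.1 w = w) {e z : N}
    (e3 : (og D e z).1.1 p = p) (e4 : (og D e z).1.1 w = w) : ρ (og D (g.1.1 e) (g.1.1 z)) v = ρ (og D e z) v := by
  by_cases h0 : v = 0
  · simp [h0]
  obtain ⟨c, hc⟩ := scalar_of_finrank hp hm hv h0 g (a := 1) (by simpa) (by simpa) one_ne_zero
  obtain ⟨d, hd⟩ := scalar_of_finrank hp hm hv h0 (og D e z) (a := 1) (by simpa) (by simpa) one_ne_zero
  have := congrArg (ρ · v) (og_mul g e z)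
  simp only [rmul, hc, hd, map_smul] at this
  rw [smul_comm] at this
  rw [hd]
  exact (smul_right_injective V (fun e => rne g h0 (by rw [hc, e, zero_smul])) this).symm

theorem og_sub_fix (g : commutator D.isom) (e1 : g.1.1 p = p) (e2 : g.1.1 w = w) {e z : N} {c : F}
    (he : D.Q e = 0) (hc : c ≠ 0) (e5 : g.1.1 e = c • e) (ep : D.B e p = 0) (ew : D.B e w = 0) (zp : D.B z p = 0)
    (zw : D.B z w = 0) (ez : D.B e z = 0) : ρ (og D e (c • g.1.1 z - z)) v = v := by
  have h1 : D.B e (g.1.1 z) = 0 := by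
    have := B_isom g.1 e z
    rw [e5, ez] at this
    simpa [hc] using this
  have := og_conj_of_finrank hp hm hv g e1 e2 (og_fix ep zp) (og_fix ew zw)
  rw [e5, og_smul he h1, show c • g.1.1 z = z + (c • g.1.1 z - z) by abel, og_add ez (by simp [h1, ez]), rmul] at this
  exact rinj _ this

theorem og_fix_of_three {X : Submodule F N} (hX : (D.restrict X).Nondeg) (h3 : 3 ≤ finrank F X) {e : N} (he : D.Q e = 0)
    (ep : D.B e p = 0) (ew : D.B e w = 0) (hx : ∀ x ∈ X, D.B x p = 0 ∧ D.B x w = 0 ∧ D.B e x = 0) {z : N} (hz : z ∈ X) :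
    ρ (og D e z) v = v := by
  obtain ⟨a, b, h⟩ := Quad.exists_isHyp hX h3
  refine h.induction_singular (P := fun x => og D e x.1 ∈ fixV ρ v) (fun x hq => ?_) (fun x y a b => by
    rw [Submodule.coe_add, og_add (hx _ x.2).2.2 (hx _ y.2).2.2]
    exact mul_mem a b) ⟨z, hz⟩
  by_cases x0 : x = 0
  · simp [x0, og_zero]
  obtain ⟨y, h⟩ := hX.exists_isHyp hq x0
  have := h.finrank_hp
  have : Nontrivial ((D.restrict X).hp x y) := Module.nontrivial_of_finrank_pos (R := F) (by omega)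
  obtain ⟨s, hs⟩ := exists_ne (0 : (D.restrict X).hp x y)
  obtain ⟨t, -, ht⟩ := (h.nondeg_hp hX).exists_perp_B_eq (H := ⊥) (a := s) (by simpa) 1
  have s1 : D.B x s = 0 := ((D.restrict X).mem_hp.1 s.2).1
  have t1 : D.B x t = 0 := ((D.restrict X).mem_hp.1 t.2).1
  have := og_sub_fix hp hm hv (og D x t) (og_fix (hx _ x.2).1 (hx _ t.1.2).1) (og_fix (hx _ x.2).2.1 (hx _ t.1.2).2.1) he
    one_ne_zero ((og_fix (D.eq_zero_symm (hx _ x.2).2.2) (D.eq_zero_symm (hx _ t.1.2).2.2)).trans (one_smul _ _).symm) ep ew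
    (hx _ s.1.2).1 (hx _ s.1.2).2.1 (hx _ s.1.2).2.2
  rw [og_perp (D := D) (e := x) hq t1 s1, show D.B t s = 1 from ht] at this
  simpa [mem_fixV] using this

/-- If the weight space of a singular weight is a line, the pointwise stabiliser of the line acts trivially on it. -/
theorem fix_of_finrank (hq : (∃ t : F, t ≠ 0 ∧ t ^ 2 ≠ 1) ∨ 9 ≤ finrank F N ∨ (finrank F N = 8 ∧ ¬ D.HasTS 4))
    (h : T2 D p w) (g : commutator D.isom) (e1 : g.1.1 p = p) (e2 : g.1.1 w = w) : ρ g v = v := by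
  obtain ⟨p', a1, a2, a3⟩ := hB.nd.exists_partner hp h.j.symm.notMem (D.mem_perp_span_singleton.2 h.ba) 1 one_ne_zero
  have a1 := D.mem_perp_span_singleton.1 a1
  obtain ⟨w', b1, b2, b3⟩ := hB.nd.exists_partner (H := Submodule.span F {p, p'}) h.qb (fun e => by
    obtain ⟨s, t, e⟩ := Submodule.mem_span_pair.1 e
    have : t = 0 := by simpa [← e, a3, quad_B_self, hp] using h.ab
    simpa using (h.j s (-1) (by rw [← e, this]; module)).2) (D.mem_perp_span_pair.2 ⟨h.ab, D.eq_zero_symm a1⟩) 1 one_ne_zero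
  obtain ⟨b1, b4⟩ := D.mem_perp_span_pair.1 b1
  have P := IsHyp.mk hp a2 a3
  have W := IsHyp.mk h.qb b2 b3
  obtain ⟨d1, r1⟩ := hyp_sup (D := D) (Y := ⊥) (by simp) P (fun _ h => by simp [(Submodule.mem_bot F).1 h]) fun _ h => by
    simp [(Submodule.mem_bot F).1 h]
  rw [bot_sup_eq] at d1 r1
  obtain ⟨d2, r2⟩ := hyp_sup d1 W (D.mem_perp_span_pair.2 ⟨h.ab, D.eq_zero_symm a1⟩) (D.mem_perp_span_pair.2 ⟨b1, b4⟩)
  set Y := Submodule.span F {p, p'} ⊔ Submodule.span F {w, w'}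
  have mX : ∀ x, x ∈ D.perp Y ↔ (D.B p x = 0 ∧ D.B p' x = 0) ∧ D.B w x = 0 ∧ D.B w' x = 0 := fun x => by
    rw [perp_sup, Submodule.mem_inf, mem_perp_span_pair, mem_perp_span_pair]
  have O := (hB.nd.isOrthCompl d2).symm
  have nX := O.nondeg_left hB.nd
  have rX := hB.nd.finrank_perp Y
  have dim := hB.dim
  simp only [finrank_bot, zero_add] at r1
  have c1 : D.B p (g.1.1 p') = 1 := by rw [← a3, ← B_isom g.1 p p', e1]
  obtain ⟨d, k, k1⟩ := D.exists_eich_map (x := g.1.1 p') (y := p') hp (c1.trans a3.symm) (by simp [c1]) (by simp)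
  rw [eich_eq_sg] at k1
  have k0 := k.B_ez
  have k2 : D.B (((quadKind F).ε * D.B p (g.1.1 p'))⁻¹ • (g.1.1 p' - p')) w = 0 := by
    have := B_isom g.1 p' w
    rw [e2] at this
    simp [this]
  generalize ((quadKind F).ε * D.B p (g.1.1 p'))⁻¹ • (g.1.1 p' - p') = z at k0 k1 k2
  have f1 : og D p z ∈ fixV ρ v := by simpa [k2, mem_fixV] using hv z k0
  obtain ⟨g1, g2, g3⟩ : (og D p z * g).1.1 p = p ∧ (og D p z * g).1.1 w = w ∧ (og D p z * g).1.1 p' = p' :=
    ⟨by simp [e1, og_self], by simp [e2, og_fix h.ab k2], k1⟩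
  suffices og D p z * g ∈ fixV ρ v from (Subgroup.mul_mem_cancel_left _ f1).1 this
  generalize og D p z * g = g at g1 g2 g3
  have c1 : D.B w (g.1.1 w') = 1 := by rw [← b3, ← B_isom g.1 w w', g2]
  obtain ⟨d, k, k1⟩ := D.exists_eich_map (x := g.1.1 w') (y := w') h.qb (c1.trans b3.symm) (by simp [c1]) (by simp)
  rw [eich_eq_sg] at k1
  have k0 := k.B_ez
  have k2 : D.B p (((quadKind F).ε * D.B w (g.1.1 w'))⁻¹ • (g.1.1 w' - w')) = 0 := by
    have := B_isom g.1 p w'
    rw [g1] at this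
    simp [this]
  have k3 : D.B p' (((quadKind F).ε * D.B w (g.1.1 w'))⁻¹ • (g.1.1 w' - w')) = 0 := by
    have := B_isom g.1 p' w'
    rw [g3] at this
    simp [this]
  generalize ((quadKind F).ε * D.B w (g.1.1 w'))⁻¹ • (g.1.1 w' - w') = z at k0 k1 k2 k3
  have f1 : og D w z ∈ fixV ρ v := by
    rw [← og_add_smul h.qb z (-D.B w' z)]
    exact og_fix_of_three hp hm hv nX (by omega) h.qb h.ba W.B_ee (fun x hx => by
      simp [(mX x).1 hx, quad_symm D x]) ((mX _).2 (by simp [k0, k2, k3, h.ab, W.B_ee, W.B_fe, D.eq_zero_symm a1]))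
  have g4 : (og D w z * g).1 ∈ D.fix Y := by
    rw [fix_sup, Subgroup.mem_inf, mem_fix_span, mem_fix_span]
    simp [g1, g2, g3, og_self, og_fix h.ba (D.eq_zero_symm k2), og_fix a1 (D.eq_zero_symm k3), show (og D w z).1.1 _ = w' from k1]
  suffices og D w z * g ∈ fixV ρ v from (Subgroup.mul_mem_cancel_left _ f1).1 this
  generalize og D w z * g = g at g4
  obtain ⟨m, hm'⟩ := (range_extend O hB.nd).ge g4
  have T4 : ∀ e x : D.perp Y, D.Q e = 0 → D.Q x = 0 → D.B e x = 0 → J2 F e x → D.HasTS 4 := fun e x qe qx ex j => by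
    obtain ⟨⟨x1, x2⟩, x3, x4⟩ := (mX _).1 x.2
    obtain ⟨⟨y1, y2⟩, y3, y4⟩ := (mX _).1 e.2
    refine hasTS_four (a := p) (b := w) (c := e) (x := x) (fun r s t c => ?_) (fun c => ?_) hp h.qb qe qx h.ab y1 y3 x1 x3 ex
    · have c1 := congrArg (D.B p') c
      have c2 := congrArg (D.B w') c
      simp [P.B_fe, W.B_fe, D.eq_zero_symm a1, D.eq_zero_symm b1, y2, y4] at c1 c2
      simpa [c1, c2, j.ne] using c
    · obtain ⟨_, hy, _, hu, c⟩ := Submodule.mem_sup.1 c
      obtain ⟨r, s, rfl⟩ := Submodule.mem_span_pair.1 hy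
      obtain ⟨t, rfl⟩ := Submodule.mem_span_singleton.1 hu
      have c1 := congrArg (D.B p') c
      have c2 := congrArg (D.B w') c
      simp [P.B_fe, W.B_fe, D.eq_zero_symm a1, D.eq_zero_symm b1, y2, y4, x2, x4] at c1 c2
      exact j.notMem (Submodule.mem_span_singleton.2 ⟨t, Subtype.ext (by simpa [c1, c2] using c)⟩)
  have gX : (D.restrict (D.perp Y)).Good := by
    rcases hq with ⟨t, a, b⟩ | a | ⟨-, a⟩
    · exact Or.inl ⟨t, a, by rintro rfl; simp at b⟩
    · exact good_of_finrank (by omega)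
    · refine Or.inr (Or.inr fun ⟨U, c1, c2⟩ => a ?_)
      have : Nontrivial U := Module.nontrivial_of_finrank_pos (R := F) (by omega)
      obtain ⟨e, he⟩ := exists_ne (0 : U)
      obtain ⟨x, hx⟩ : ∃ x : U, x ∉ F ∙ e := by
        by_contra! c
        have := finrank_single_le (F := F) e
        rw [Submodule.eq_top_iff'.2 c, finrank_top] at this
        omega
      refine T4 e x (c2.1 _ e.2) (c2.1 _ x.2) (c2.le_perp x.2 _ e.2) fun s t c => j2_iff.2 ⟨he, hx⟩ s t (Subtype.ext c)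
  have mE : m ∈ (D.restrict (D.perp Y)).E := by
    have := (extend_mem_commutator_iff hB.nd Big.good O gX m).1 (hm' ▸ g.2)
    by_cases c : finrank F (D.perp Y) = 3
    · exact commutator_le_E_three nX c this
    · exact (nX.commutator_eq_E gX (by omega)).le this
  suffices (D.restrict (D.perp Y)).E ≤ ((fixV ρ v).map (commutator D.isom).subtype).comap (extend O) by
    obtain ⟨k, hk, e⟩ := this mE
    exact (Subtype.ext (e.trans hm') : k = g) ▸ hk
  refine E_le fun e z d hd => ⟨og D e z, ?_, by rw [extend_eich, eich_eq_sg]; rfl⟩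
  have qe : D.Q e = 0 := hd.Q_e
  by_cases c : e = 0
  · rw [c, Submodule.coe_zero, og_zero_left]
    exact one_mem _
  obtain ⟨f, H⟩ := nX.exists_isHyp qe c
  have H' : D.IsHyp e f := ⟨H.1, H.2, H.3⟩
  obtain ⟨d3, r3⟩ := hyp_sup d2 H' e.2 f.2
  have n3 := hB.nd.restrict_perp d3
  have r4 := hB.nd.finrank_perp (Y ⊔ Submodule.span F {e.1, f.1})
  set Z := D.perp (Y ⊔ Submodule.span F {e.1, f.1})
  have mZ : ∀ x, x ∈ Z ↔ x ∈ D.perp Y ∧ D.B e x = 0 ∧ D.B f x = 0 := fun x => by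
    simp only [Z, perp_sup D Y, Submodule.mem_inf, mem_perp_span_pair]
  obtain ⟨⟨y1, -⟩, y3, -⟩ := (mX _).1 e.2
  obtain ⟨⟨y2, -⟩, y4, -⟩ := (mX _).1 f.2
  have hZ : ∀ x ∈ Z, D.B x p = 0 ∧ D.B x w = 0 ∧ D.B e x = 0 := fun x hx => by
    simp [(mX x).1 ((mZ x).1 hx).1, quad_symm D x, (mZ x).1 hx]
  rw [← og_add_smul qe z (-D.B f z)]
  have hz : z.1 + (-D.B f z) • e.1 ∈ Z := (mZ _).2 ⟨Submodule.add_mem _ z.2 (Submodule.smul_mem _ _ e.2),
    by simp [H'.B_ee, show D.B e z = 0 from hd.B_ez], by simp [H'.B_fe]⟩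
  generalize z.1 + (-D.B f z) • e.1 = z at hz
  rcases hq with ⟨t, a, b⟩ | a | ⟨a, b⟩
  · obtain ⟨k, k0, k1, -, k2⟩ := exists_torus_sq hB.nd (by omega) H' a
    have := og_sub_fix hp hm hv ⟨k, hB.nd.E_le_commutator Big.good k0⟩ (k2 p (D.mem_hp.2 ⟨D.eq_zero_symm y1, D.eq_zero_symm y2⟩))
      (k2 w (D.mem_hp.2 ⟨D.eq_zero_symm y3, D.eq_zero_symm y4⟩)) (z := (t ^ 2 - 1)⁻¹ • z) qe (pow_ne_zero 2 a) k1
      (D.eq_zero_symm y1) (D.eq_zero_symm y3) (by simp [hZ z hz]) (by simp [hZ z hz]) (by simp [hZ z hz])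
    rwa [map_smul, k2 z (D.mem_hp.2 ((mZ z).1 hz).2), show t ^ 2 • (t ^ 2 - 1)⁻¹ • z - (t ^ 2 - 1)⁻¹ • z = z by
      have := sub_ne_zero.2 b
      match_scalars
      field_simp] at this
  · exact og_fix_of_three hp hm hv n3 (by omega) qe (D.eq_zero_symm y1) (D.eq_zero_symm y3) hZ hz
  have an : (D.restrict Z).Aniso := fun x hx => by_contra fun x0 => b (T4 e ⟨x, ((mZ _).1 x.2).1⟩ qe hx ((mZ _).1 x.2).2.1
    fun s t c => by
      have c := congrArg Subtype.val c
      have c1 := congrArg (D.B f) c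
      simp [H'.B_fe, ((mZ _).1 x.2).2.2] at c1
      simpa [c1, x0] using c)
  obtain ⟨x, y, qx, qy, xy⟩ : ∃ x y : Z, D.Q x = 1 ∧ D.Q y = 1 ∧ J2 F x y := by
    have := Quad.card_Q_eq_of_aniso an (by omega) one_ne_zero
    have q2 := Finite.one_lt_card (α := F)
    have : Nontrivial {x // (D.restrict Z).Q x = 1} := Finite.one_lt_card_iff_nontrivial.1 (by omega)
    obtain ⟨x, hx⟩ : Nonempty {x // (D.restrict Z).Q x = 1} := inferInstance
    by_contra! c
    have := Nat.card_le_card_of_surjective (fun b : Bool => (if b then ⟨x, hx⟩ else ⟨-x, by simpa [Q_neg] using hx⟩ :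
      {x // (D.restrict Z).Q x = 1})) fun y => by
        have := c x y hx y.2
        rw [j2_iff, not_and, not_not] at this
        obtain ⟨t, e⟩ := Submodule.mem_span_singleton.1 (this (by rintro rfl; simp at hx))
        have := y.2
        rw [← e, quad_Q_smul, hx, mul_one, sq, mul_self_eq_one_iff] at this
        rcases this with rfl | rfl
        · exact ⟨true, Subtype.ext (by simpa using e)⟩
        · exact ⟨false, Subtype.ext (by simpa using e)⟩
    rw [Nat.card_eq_fintype_card (α := Bool), Fintype.card_bool] at this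
    omega
  let k : commutator D.isom := ⟨D.refl x * D.refl y,
    hB.nd.refl_mul_refl_mem_commutator (by simp [qx]) one_ne_zero (by simp [qx, qy])⟩
  have kf : ∀ u, D.B x u = 0 → D.B y u = 0 → k.1.1 u = u := fun u a b => by simp [k, refl_apply_of_perp, a, b]
  let L : Z →ₗ[F] Z := ((D.restrict Z).refl x * (D.restrict Z).refl y).1.toLinearMap - LinearMap.id
  have : Function.Injective L := (injective_iff_map_eq_zero L).2 fun u hu => by
    have e1 : ((D.restrict Z).refl y).1 u = ((D.restrict Z).refl x).1 u := by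
      have := congrArg ((D.restrict Z).refl x).1
        (show ((D.restrict Z).refl x * (D.restrict Z).refl y).1 u = u from sub_eq_zero.1 hu)
      rwa [← isom_mul_apply, ← mul_assoc, refl_mul_self, one_mul] at this
    rw [refl_apply, refl_apply, restrict_Q, restrict_Q, qx, qy, sub_right_inj] at e1
    obtain ⟨e2, e3⟩ := xy (D.B x u) (-D.B y u) (by simpa [sub_eq_zero, ← sub_eq_add_neg] using e1.symm)
    refine n3 u fun s => ?_
    have : s ∈ Submodule.span F {x, y} := by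
      rw [Submodule.eq_top_of_finrank_eq (S := Submodule.span F {x, y}) (by
        have := finrank_span_eq_card xy.li
        rw [Matrix.range_cons, Matrix.range_cons, Matrix.range_empty, Set.union_empty] at this
        simp only [Fintype.card_fin] at this
        exact this.trans (by omega))]
      trivial
    obtain ⟨a, b, rfl⟩ := Submodule.mem_span_pair.1 this
    simp [quad_symm D u.1, e2, neg_eq_zero.1 e3]
  obtain ⟨u, hu⟩ := Finite.injective_iff_surjective.1 this ⟨z, hz⟩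
  have := og_sub_fix hp hm hv k (kf p (hZ _ x.2).1 (hZ _ y.2).1) (kf w (hZ _ x.2).2.1 (hZ _ y.2).2.1) (z := u) qe one_ne_zero
    ((kf e (D.eq_zero_symm (hZ _ x.2).2.2) (D.eq_zero_symm (hZ _ y.2).2.2)).trans (one_smul _ _).symm)
    (D.eq_zero_symm y1) (D.eq_zero_symm y3) (hZ _ u.2).1 (hZ _ u.2).2.1 (hZ _ u.2).2.2
  rwa [one_smul, show k.1.1 u - u = z by
    simpa [L, k, refl_apply] using congrArg Subtype.val hu] at this

end one

end Cfsg.Lib.Stein.MinO
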