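import Cfsg.Agent.Lib.Stein.MinSL2

/-! Equivariant functions on independent pairs. -/

set_option autoImplicit false

namespace Cfsg.Lib.Stein.MinSL

open Matrix Module Cfsg.Lib.Linear Finset

local notation "SL" => Matrix.SpecialLinearGroup

theorem exists_eigen {A M : Type*} [CommGroup A] [Fintype A] [AddCommGroup M] [Module ℂ M] (h : A → M) (h1 : h 1 ≠ 0) :
    ∃ χ : A → ℂ, (∀ a b, χ a = χ b⁻¹ * χ (a * b)) ∧ ∑ a, χ a • h a ≠ 0 := by
  classical
  by_contra! H
  have : ∑ χ : AddChar (Additive A) ℂ, ∑ a, χ (Additive.ofMul a) • h a = 0 :=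
    sum_eq_zero fun χ _ => H (fun a => χ (Additive.ofMul a)) fun a b => by simp [← AddChar.map_add_eq_mul]
  rw [sum_comm, sum_eq_single 1 (fun a _ ha => by simp [← sum_smul, AddChar.sum_apply_eq_ite, ha]) (by simp)] at this
  simp [← Nat.cast_smul_eq_nsmul ℂ, h1] at this

variable {ι : Type} [Fintype ι] [DecidableEq ι] {F : Type*} [Field F] [Fintype F] [DecidableEq F]
  {V : Type*} [AddCommGroup V] [Module ℂ V] {ρ : Representation ℂ (SL ι F) V} {ψ : AddChar F ℂ}

/-- Independent triples. -/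
def I3 (a b c : ι → F) : Prop := ∀ r s t : F, r • a + s • b + t • c = 0 → r = 0 ∧ s = 0 ∧ t = 0

section
omit [Fintype ι] [DecidableEq ι] [Fintype F] [DecidableEq F]
variable {a b c : ι → F}

theorem i3_iff : I3 a b c ↔ I2 a b ∧ c ∉ Submodule.span F {a, b} := by
  refine ⟨fun h => ⟨fun s t e => by simpa using h s t 0 (by simpa using e), fun e => ?_⟩, fun h r s t e => ?_⟩
  · obtain ⟨s, t, rfl⟩ := Submodule.mem_span_pair.1 e
    simpa using (h s t (-1) (by module)).2.2
  · have : t = 0 := by_contra fun c => h.2 (Submodule.mem_span_pair.2 ⟨-(t⁻¹ * r), -(t⁻¹ * s), by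
      rw [← eq_neg_iff_add_eq_zero] at e
      rw [neg_smul, neg_smul, mul_smul, mul_smul, ← neg_add, ← smul_add, e]
      simp [c]⟩)
    have := h.1 r s (by simpa [this] using e)
    simp [*]

theorem I3.rot (h : I3 a b c) : I3 b c a := fun r s t e => by
  have := h t r s (by rw [← e]; abel)
  simp [this]

theorem I3.swap (h : I3 a b c) : I3 b a c := fun r s t e => by
  have := h s r t (by rw [← e]; abel)
  simp [this]

theorem i2_add (t : F) : I2 a (b + t • a) ↔ I2 a b := by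
  simp only [i2_iff, Submodule.add_mem_iff_left _ (Submodule.smul_mem _ t (Submodule.mem_span_singleton_self a))]

theorem i2_smul {s t : F} (hs : s ≠ 0) (ht : t ≠ 0) : I2 (s • a) (t • b) ↔ I2 a b := by
  simp [i2_iff, hs, Submodule.span_singleton_smul_eq hs.isUnit, Submodule.smul_mem_iff _ ht]

end

variable (ρ) in
/-- Equivariant functions on independent pairs that are eigenfunctions of the Borel subgroup of `GL_2`. -/
structure Good (f : (ι → F) → (ι → F) → V) (β γ : F → ℂ) : Prop where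
  eqv : ∀ (g : SL ι F) a b, f (g.1 *ᵥ a) (g.1 *ᵥ b) = ρ g (f a b)
  zero : ∀ a b, ¬ I2 a b → f a b = 0
  add : ∀ a b (c : F), f a (b + c • a) = f a b
  left : ∀ s ≠ 0, ∀ a b, f (s • a) b = β s • f a b
  right : ∀ t ≠ 0, ∀ a b, f a (t • b) = γ t • f a b

theorem exists_good (hι : 3 ≤ Fintype.card ι) {a b : ι → F} (h : I2 a b) {y : V} (h0 : y ≠ 0)
    (h1 : ∀ g : SL ι F, g.1 *ᵥ a = a → g.1 *ᵥ b = b → ρ g y = y) (h2 : ∀ φ, φ ⬝ᵥ a = 0 → ρ (tvf a φ) y = y) :
    ∃ f β γ, Good ρ f β γ ∧ ∃ a b, f a b ≠ 0 := by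
  classical
  let f : (ι → F) → (ι → F) → V := fun x z =>
    if h : ∃ g : SL ι F, g.1 *ᵥ a = x ∧ g.1 *ᵥ b = z then ρ h.choose y else 0
  have k : ∀ g : SL ι F, f (g.1 *ᵥ a) (g.1 *ᵥ b) = ρ g y := fun g => by
    have e : ∃ g' : SL ι F, g'.1 *ᵥ a = g.1 *ᵥ a ∧ g'.1 *ᵥ b = g.1 *ᵥ b := ⟨g, rfl, rfl⟩
    simp only [f, dif_pos e]
    obtain ⟨e1, e2⟩ := e.choose_spec
    generalize e.choose = g' at e1 e2
    have := h1 (g⁻¹ * g') (by rw [sl_coe_mul, ← mulVec_mulVec, e1, mulVec_mulVec, sl_coe_inv_mul, one_mulVec])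
      (by rw [sl_coe_mul, ← mulVec_mulVec, e2, mulVec_mulVec, sl_coe_inv_mul, one_mulVec])
    nth_rw 2 [← this]
    rw [← rho_mul, mul_inv_cancel_left]
  have z : ∀ x z, ¬ I2 x z → f x z = 0 := fun x z c => dif_neg fun ⟨g, e1, e2⟩ => c (e1 ▸ e2 ▸ (i2_mulVec g).2 h)
  have eqv : ∀ (g : SL ι F) x z, f (g.1 *ᵥ x) (g.1 *ᵥ z) = ρ g (f x z) := fun g x w => by
    by_cases c : I2 x w
    · obtain ⟨g', rfl, rfl⟩ := h.exists_sl hι c
      rw [mulVec_mulVec, mulVec_mulVec, ← sl_coe_mul, k, k, rho_mul]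
    · rw [z _ _ c, z _ _ (mt (i2_mulVec g).1 c), map_zero]
  have add : ∀ x w (c : F), f x (w + c • x) = f x w := fun x w c => by
    by_cases e : I2 x w
    · obtain ⟨g, rfl, rfl⟩ := h.exists_sl hι e
      obtain ⟨φ, e1, e2⟩ := h.exists_dot c
      have := k (g * tvf a φ)
      rwa [sl_coe_mul, ← mulVec_mulVec, ← mulVec_mulVec, tvf_mulVec e1, tvf_mulVec e1, e1, e2, zero_smul, add_zero,
        mulVec_add, mulVec_smul, rho_mul, h2 φ e1, ← k] at this
    · rw [z _ _ e, z _ _ (mt (i2_add c).1 e)]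
  obtain ⟨χ, c1, c2⟩ := exists_eigen (fun s : Fˣ × Fˣ => f (s.1.1 • a) (s.2.1 • b)) (by
    have := k 1
    simp only [sl_coe_one, one_mulVec, map_one, Module.End.one_apply] at this
    simpa [this] using h0)
  refine ⟨fun x w => ∑ s : Fˣ × Fˣ, χ s • f (s.1.1 • x) (s.2.1 • w),
    fun s => if h : s = 0 then 0 else χ (Units.mk0 s h, 1)⁻¹, fun s => if h : s = 0 then 0 else χ (1, Units.mk0 s h)⁻¹,
    ⟨fun g x w => by simp [← eqv, mulVec_smul], fun x w c => sum_eq_zero fun s _ => by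
      rw [z _ _ (mt (i2_smul s.1.ne_zero s.2.ne_zero).1 c), smul_zero], fun x w c => sum_congr rfl fun s _ => ?_,
      fun t ht x w => ?_, fun t ht x w => ?_⟩, a, b, c2⟩
  · rw [← add _ (s.2.1 • w) (s.2.1 * c * s.1.1⁻¹)]
    congr 2
    match_scalars <;> field_simp
  · rw [dif_neg ht, smul_sum]
    refine Fintype.sum_equiv (Equiv.mulRight (Units.mk0 t ht, 1)) _ _ fun s => ?_
    rw [smul_smul, smul_smul, c1 s (Units.mk0 t ht, 1)]
    simp
  · rw [dif_neg ht, smul_sum]
    refine Fintype.sum_equiv (Equiv.mulRight (1, Units.mk0 t ht)) _ _ fun s => ?_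
    rw [smul_smul, smul_smul, c1 s (1, Units.mk0 t ht)]
    simp

variable {f : (ι → F) → (ι → F) → V} {β γ : F → ℂ}

omit [Fintype F] [DecidableEq F] in
theorem Good.ne_zero (hι : 3 ≤ Fintype.card ι) (h : Good ρ f β γ) (h0 : ∃ a b, f a b ≠ 0) {x y : ι → F} (e : I2 x y) :
    f x y ≠ 0 := by
  obtain ⟨a, b, h0⟩ := h0
  obtain ⟨g, rfl, rfl⟩ := (by_contra fun c => h0 (h.zero a b c) : I2 a b).exists_sl hι e
  exact h.eqv g a b ▸ rho_ne g h0

omit [DecidableEq F] in
theorem Good.swap (h : Good ρ f β γ) : Good ρ (fun a b => ∑ c : F, f (b + c • a) a) γ β where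
  eqv g a b := by simp [← h.eqv, mulVec_add, mulVec_smul]
  zero a b c := sum_eq_zero fun t _ => h.zero _ _ fun e => c ((i2_add t).1 e.symm)
  add a b c := Fintype.sum_equiv (Equiv.addLeft c) _ _ fun t => by simp [add_smul, add_assoc]
  left s hs a b := by
    rw [smul_sum]
    exact Fintype.sum_equiv (Equiv.mulRight₀ s hs) _ _ fun t => by simp [h.right s hs, smul_smul]
  right s hs a b := by
    rw [smul_sum]
    refine Fintype.sum_equiv (Equiv.mulLeft₀ s⁻¹ (inv_ne_zero hs)) _ _ fun t => ?_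
    simp [← h.left s hs, smul_smul, hs]

theorem Good.swap_ne (h : Good ρ f β γ) (h0 : ∃ a b, f a b ≠ 0) : ∃ a b, ∑ c : F, f (b + c • a) a ≠ 0 := by
  obtain ⟨a, b, h0⟩ := h0
  by_contra! H
  have k : ∀ d : F, f a b = -∑ c ∈ univ.erase 0, (β c * γ (-c⁻¹)) • f (b + (d + c⁻¹) • a) a := fun d => by
    have := H (b + d • a) a
    rw [← add_sum_erase _ _ (mem_univ 0), zero_smul, add_zero, h.add] at this
    rw [eq_neg_of_add_eq_zero_left this, neg_inj]
    refine sum_congr rfl fun c hc => ?_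
    have hc := ne_of_mem_erase hc
    rw [mul_smul, ← h.right _ (by simpa using hc), ← h.add (b + (d + c⁻¹) • a) _ 1, ← h.left c hc]
    congr 1
    · match_scalars <;> (field_simp; try ring)
    · module
  have := sum_congr (rfl : univ = univ) fun d _ => k d
  rw [sum_neg_distrib, sum_comm, sum_eq_zero (s := univ.erase 0) fun c _ => by
    rw [← smul_sum, Fintype.sum_equiv (Equiv.addRight c⁻¹) (fun d => f (b + (d + c⁻¹) • a) a) (fun d => f (b + d • a) a)
      fun _ => rfl, H, smul_zero]] at this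
  simp [← Nat.cast_smul_eq_nsmul ℂ, h0] at this

theorem sum_split {p x : ι → F} (e : I2 p x) (h : (ι → F) → V) {A : V} (hA : ∀ b ∉ Submodule.span F {p, x}, h b = A) :
    ∑ b, h b = ∑ s : F, ∑ t : F, h (s • p + t • x) + ((Fintype.card (ι → F) : ℂ) - Fintype.card F ^ 2) • A := by
  have i : Function.Injective fun z : F × F => z.1 • p + z.2 • x := fun z z' c => by
    have := e (z.1 - z'.1) (z.2 - z'.2) (by simp only at c; rw [← sub_eq_zero.2 c]; module)
    exact Prod.ext (sub_eq_zero.1 this.1) (sub_eq_zero.1 this.2)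
  rw [← sum_add_sum_compl (univ.image fun z : F × F => z.1 • p + z.2 • x), sum_image i.injOn, Fintype.sum_prod_type,
    sum_congr rfl (s₁ := _ᶜ) fun b hb => hA b fun c => by
      obtain ⟨s, t, rfl⟩ := Submodule.mem_span_pair.1 c
      exact mem_compl.1 hb (mem_image.2 ⟨(s, t), mem_univ _, rfl⟩), sum_const, ← Nat.cast_smul_eq_nsmul ℂ, card_compl,
    Nat.cast_sub (card_le_univ _), card_image_of_injective _ i]
  simp [sq]

/-- A function on flags vanishes when there is no vector fixed by a point stabiliser. -/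
theorem Good.eq_zero (hι : 3 ≤ Fintype.card ι) (hψ : ψ ≠ 1) (hW : PropW ρ ψ)
    (hP : ∀ x ≠ 0, ∀ v, (∀ (g : SL ι F) (t : F), g.1 *ᵥ x = t • x → ρ g v = v) → v = 0)
    (h : Good ρ f (fun _ => 1) fun _ => 1) (a b : ι → F) : f a b = 0 := by
  have L : ∀ s : F, s ≠ 0 → ∀ a b, f (s • a) b = f a b := fun s hs a b => by simp [h.left s hs]
  have R : ∀ s : F, s ≠ 0 → ∀ a b, f a (s • b) = f a b := fun s hs a b => by simp [h.right s hs]
  have E : ∀ a b (s t : F), s ≠ 0 → f a (s • b + t • a) = f a b := fun a b s t hs => by rw [h.add, R s hs]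
  have bj : ∀ g : SL ι F, Function.Bijective g.1.mulVec := fun g => Finite.injective_iff_bijective.1 (sl_mulVec_injective g)
  have nz : ∀ (g : SL ι F) (x : ι → F) (t : F), x ≠ 0 → g.1 *ᵥ x = t • x → t ≠ 0 := fun g x t hx e c =>
    hx (sl_mulVec_injective g (by simp [e, c]))
  have S1 : ∀ x ≠ 0, ∑ b, f x b = 0 := fun x hx => hP x hx _ fun g t e => by
    simp only [map_sum, ← h.eqv, e, L t (nz g x t hx e)]
    exact (bj g).sum_comp _
  have S2 : ∀ x ≠ 0, ∑ b, f b x = 0 := fun x hx => hP x hx _ fun g t e => by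
    simp only [map_sum, ← h.eqv, e, R t (nz g x t hx e)]
    exact (bj g).sum_comp (f · x)
  obtain ⟨c, hc⟩ := AddChar.ne_one_iff.1 hψ
  set q : ℂ := (Fintype.card F : ℂ) with hq
  set M : ℂ := (Fintype.card (ι → F) : ℂ) - q ^ 2 with hM
  have fx : ∀ p a b φ, φ ⬝ᵥ p = 0 → φ ⬝ᵥ a = 0 → φ ⬝ᵥ b = 0 → ρ (tvf p φ) (f a b) = f a b := fun p a b φ e1 e2 e3 => by
    simp [← h.eqv, tvf_mulVec e1, e2, e3]
  have P0 : ∀ p x, I2 p x → pr ρ ψ p x (f p x) = 0 := fun p x e => by
    obtain ⟨φ, e1, e2⟩ := e.exists_dot c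
    exact pr_eq_zero e1 (e2 ▸ hc) (by simp [← h.eqv, tvf_mulVec e1, e1, h.add])
  have tr : ∀ p x r b, I3 p x r → b ∉ Submodule.span F {p, x} →
      pr ρ ψ p x (f x b) = pr ρ ψ p x (f x r) ∧ pr ρ ψ p x (f b x) = pr ρ ψ p x (f r x) := fun p x r b e hb => by
    obtain ⟨k, t, ht, e1, e2⟩ := exists_sl_fix_smul (i3_iff.1 e).2 hb
    obtain ⟨e3, e4⟩ : k.1 *ᵥ p = p ∧ k.1 *ᵥ x = x := ⟨e1 _ (Submodule.subset_span (by simp)), e1 _ (Submodule.subset_span (by simp))⟩
    rw [← hW.pr_eq (i3_iff.1 e).1 e3 e4 (f x r), ← hW.pr_eq (i3_iff.1 e).1 e3 e4 (f r x), ← h.eqv, ← h.eqv, e2, e4,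
      L t ht, R t ht]
    exact ⟨rfl, rfl⟩
  have R1 : ∀ p x r, I3 p x r → M • pr ρ ψ p x (f x r) = -((q - 1) * q) • pr ρ ψ p x (f x p) := fun p x r e => by
    have := congrArg (pr ρ ψ p x) (S1 x (i2_iff.1 (i3_iff.1 e).1.symm).1)
    rw [map_sum, map_zero, sum_split (i3_iff.1 e).1 _ fun b hb => (tr p x r b e hb).1, ← add_sum_erase _ _ (mem_univ 0),
      sum_eq_zero fun t _ => by rw [h.zero _ _ fun c => by simpa using (c t (-1) (by simp)).2, map_zero],
      sum_congr rfl fun s hs => sum_congr rfl fun t _ => by rw [E _ _ _ _ (ne_of_mem_erase hs)]] at this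
    rw [eq_neg_of_add_eq_zero_right this]
    simp [← Nat.cast_smul_eq_nsmul ℂ, smul_smul, Fintype.card_pos, Nat.succ_le_iff, q]
  have R2 : ∀ p x r, I3 p x r → M • pr ρ ψ p x (f r x) = (q - 1) • pr ρ ψ p x (f x p) := fun p x r e => by
    have e' := (i3_iff.1 e).1
    have := congrArg (pr ρ ψ p x) (S2 x (i2_iff.1 e'.symm).1)
    rw [map_sum, map_zero, sum_split e' (fun b => pr ρ ψ p x (f b x)) fun b hb => (tr p x r b e hb).2, sum_comm,
      ← add_sum_erase _ _ (mem_univ 0), sum_eq_zero fun s _ => ?_,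
      sum_congr rfl (g := fun _ => -pr ρ ψ p x (f x p)) fun t ht => ?_] at this
    · rw [eq_neg_of_add_eq_zero_right this]
      simp [← Nat.cast_smul_eq_nsmul ℂ, Fintype.card_pos, Nat.succ_le_iff, q]
    · have ht := ne_of_mem_erase ht
      have : ∑ s : F, ψ (s * t⁻¹) = 0 := (Fintype.sum_equiv (Equiv.mulRight₀ t⁻¹ (inv_ne_zero ht)) _ ψ fun _ => rfl).trans
        (AddChar.sum_eq_zero_iff_ne_zero.2 hψ)
      rw [← add_sum_erase _ _ (mem_univ 0), zero_mul, AddChar.map_zero_eq_one] at this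
      rw [← add_sum_erase _ _ (mem_univ 0), h.zero _ _ fun c => by simpa using (c 1 (-t) (by simp)).1, map_zero, zero_add,
        ← neg_one_smul ℂ, ← eq_neg_of_add_eq_zero_right this, sum_smul]
      refine sum_congr rfl fun s hs => ?_
      have hs := ne_of_mem_erase hs
      obtain ⟨φ, e1, e2⟩ := e'.exists_dot (s * t⁻¹)
      rw [← e2, ← pr_tvf e1, ← h.eqv, tvf_mulVec e1, tvf_mulVec e1, e1, e2, ← L t ht (x + _),
        ← E _ (p + _) (-(s * t⁻¹)) t⁻¹ (by simp [hs, ht])]
      congr 2 <;> match_scalars <;> (field_simp; try ring)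
    · by_cases hs : s = 0
      · rw [h.zero _ _ fun c => by simpa using (c 1 0 (by simp [hs])).1, map_zero]
      · rw [zero_smul, add_zero, L s hs, P0 p x e']
  have T : ∀ p x r, I3 p x r → M • (f r (x + p) - f (x + p) r) - (q ^ 2 - 1) • f (x + p) p =
      M • (f r x - f x r) - (q ^ 2 - 1) • f x p := fun p x r e => by
    obtain ⟨φ, e1, e2, e3⟩ := exists_dot_pair (i3_iff.1 e.rot.rot.swap).2 1
    rw [← fix_of_pr (ρ := ρ) (v := M • (f r x - f x r) - (q ^ 2 - 1) • f x p) hψ e1 fun w hw => ?_]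
    · simp [← h.eqv, tvf_mulVec e1, e1, e2, e3]
    by_cases c1 : w ∈ Submodule.span F {p, x} ⊔ F ∙ r
    swap
    · obtain ⟨χ, a1, a2⟩ := exists_dotProduct_of_notMem c1 c
      obtain ⟨a3, a4⟩ := ann_span_pair.1 fun y hy => a1 y (Submodule.mem_sup_left hy)
      have a5 := a1 r (Submodule.mem_sup_right (Submodule.mem_span_singleton_self _))
      exact pr_eq_zero a3 (a2 ▸ hc) (by simp [fx, a3, a4, a5])
    obtain ⟨_, ha, y, hy, rfl⟩ := Submodule.mem_sup.1 c1
    obtain ⟨u, rfl⟩ := Submodule.mem_span_singleton.1 hy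
    obtain ⟨s, t, rfl⟩ := Submodule.mem_span_pair.1 ha
    have ht : t ≠ 0 := by simpa [e1, e2, e3] using hw
    rw [show s • p + t • x + u • r = t • x + u • r + s • p by abel, pr_add]
    by_cases hu : u = 0
    · have e' : I3 p (t • x) r := fun a b c d => by simpa [ht] using e a (b * t) c (by rw [← d]; module)
      have a1 := R1 _ _ _ e'
      have a2 := R2 _ _ _ e'
      rw [L t ht, L t ht] at a1
      rw [L t ht, R t ht] at a2
      rw [hu, zero_smul, add_zero, map_sub, map_smul, map_smul, map_sub, smul_sub, a1, a2]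
      module
    · have e' : I3 p (t • x + u • r) r := fun a b c d => by
        have := e a (b * t) (b * u + c) (by rw [← d]; module)
        have hb : b = 0 := by simpa [ht] using this.2.1
        simpa [hb] using this
      have e'' : I3 p (t • x + u • r) x := fun a b c d => by
        have := e a (b * t + c) (b * u) (by rw [← d]; module)
        have hb : b = 0 := by simpa [hu] using this.2.2
        simpa [hb] using this
      obtain ⟨χ, a1, a2, a3⟩ := exists_dot_pair (i3_iff.1 e''.rot.rot.swap).2 c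
      have a4 := (tr _ _ _ _ e' (i3_iff.1 e'').2).2
      rw [E r x t u ht, show f x (t • x + u • r) = f x r by rw [add_comm, E _ _ _ _ hu]] at a4
      rw [map_sub, map_smul, map_smul, map_sub, a4, pr_eq_zero a1 (a3 ▸ hc) (fx _ _ _ _ a1 a2 a1)]
      simp
  have T' : ∀ r x y, I3 r x y → M • (f r y - f y r) - M • (f r x - f x r) - (q ^ 2 - 1) • (f y x - f x y) = 0 :=
    fun r x y e => by
      have := T (y - x) x r fun a b c d => by
        have := e c (b - a) a (by rw [← d]; module)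
        simpa [this.2.2, and_comm] using this
      rw [add_sub_cancel, show f y (y - x) = f y x by simpa [neg_add_eq_sub] using E y x (-1) 1 (by simp),
        show f x (y - x) = f x y by simpa [sub_eq_add_neg] using h.add x y (-1)] at this
      rw [← sub_eq_zero.2 this]
      module
  have M1 : M + (q ^ 2 - 1) ≠ 0 := by
    have : 1 < Fintype.card (ι → F) := by
      have : Nonempty ι := Fintype.card_pos_iff.1 (by omega)
      exact Fintype.one_lt_card
    rw [hM, sub_add_sub_cancel, sub_ne_zero]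
    exact_mod_cast this.ne'
  have M0 : M ≠ 0 := by
    rw [hM, sub_ne_zero, hq, Fintype.card_fun]
    exact_mod_cast (Nat.pow_lt_pow_right Fintype.one_lt_card (by omega)).ne'
  have C : ∀ r x y, I3 r x y → f x r - f r x = f y x - f x y := fun r x y e => by
    refine smul_right_injective V M1 ?_
    rw [← sub_eq_zero, ← sub_eq_zero.2 ((T' _ _ _ e).trans (T' _ _ _ e.rot.rot).symm)]
    module
  have D : ∀ x r, I2 x r → f (r + x) x = f r x := fun x r e => by
    obtain ⟨y, hy⟩ := exists_notMem_pair hι x r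
    have e' := (i3_iff.2 ⟨e, hy⟩).swap
    have := (C _ _ _ e').trans (C (r + x) x y fun a b c d => by
      have := e' a (a + b) c (by rw [← d]; module)
      simpa [this.1] using this).symm
    rw [show f x (r + x) = f x r by simpa using h.add x r 1] at this
    exact (sub_right_injective this).symm
  have Y : ∀ x r, f r x = f x r := fun x r => by
    by_cases e : I2 x r
    · rw [← D x r e, ← D r x e.symm, add_comm x, ← E (r + x) x (-1) 1 (by simp)]
      simp
    · rw [h.zero _ _ e, h.zero _ _ fun c => e c.symm]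
  have Z : ∀ p x r, I3 p x r → pr ρ ψ p x (f x r) = 0 := fun p x r e => by
    have := R1 _ _ _ e
    rw [Y p x, P0 _ _ (i3_iff.1 e).1, smul_zero] at this
    exact (smul_eq_zero.1 this).resolve_left M0
  have U : ∀ p x r, I3 p x r → f (x + p) r = f x r := fun p x r e => by
    obtain ⟨φ, e1, e2, e3⟩ := exists_dot_pair (i3_iff.1 e.rot.rot.swap).2 1
    rw [← fix_of_pr (ρ := ρ) (v := f x r) hψ e1 fun w hw => ?_]
    · simp [← h.eqv, tvf_mulVec e1, e2, e3]
    by_cases c1 : w ∈ Submodule.span F {p, x} ⊔ F ∙ r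
    swap
    · obtain ⟨χ, a1, a2⟩ := exists_dotProduct_of_notMem c1 c
      obtain ⟨a3, a4⟩ := ann_span_pair.1 fun y hy => a1 y (Submodule.mem_sup_left hy)
      have a5 := a1 r (Submodule.mem_sup_right (Submodule.mem_span_singleton_self _))
      exact pr_eq_zero a3 (a2 ▸ hc) (fx _ _ _ _ a3 a4 a5)
    obtain ⟨_, ha, y, hy, rfl⟩ := Submodule.mem_sup.1 c1
    obtain ⟨u, rfl⟩ := Submodule.mem_span_singleton.1 hy
    obtain ⟨s, t, rfl⟩ := Submodule.mem_span_pair.1 ha
    have ht : t ≠ 0 := by simpa [e1, e2, e3] using hw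
    rw [show s • p + t • x + u • r = t • x + u • r + s • p by abel, pr_add, Y r, ← E r x t u ht, Y]
    refine Z _ _ _ fun a b c d => ?_
    have := e a (b * t) (b * u + c) (by rw [← d]; module)
    have hb : b = 0 := by simpa [ht] using this.2.1
    simpa [hb] using this
  by_contra h0
  classical
  have e : I2 a b := by_contra fun c => h0 (h.zero _ _ c)
  have := S2 b (i2_iff.1 e.symm).1
  rw [← sum_subset (subset_univ (univ.filter (· ∉ F ∙ b))) fun x _ hx => h.zero _ _ fun c => hx (by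
    simpa using (i2_iff.1 c.symm).2), sum_congr rfl (g := fun _ => f a b) fun x hx => ?_, sum_const,
    ← Nat.cast_smul_eq_nsmul ℂ] at this
  · exact h0 ((smul_eq_zero.1 this).resolve_left
      (Nat.cast_ne_zero.2 (card_ne_zero.2 ⟨a, by simpa using (i2_iff.1 e.symm).2⟩)))
  by_cases c : x ∈ Submodule.span F {a, b}
  · obtain ⟨s, t, rfl⟩ := Submodule.mem_span_pair.1 c
    rw [Y, E _ _ _ _ (by rintro rfl; simp [Submodule.smul_mem, Submodule.mem_span_singleton_self] at hx), Y]
  · rw [← U (x - a) a b fun r s t d => ?_, add_sub_cancel]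
    have := i3_iff.2 ⟨e, c⟩ (s - r) t r (by rw [← d]; module)
    simpa [this.2.2] using this

end Cfsg.Lib.Stein.MinSL
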