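import Cfsg.Agent.Lib.Stein.MinO2
import Cfsg.Agent.Lib.Stein.MinSL3

/-! Equivariant functions on totally singular pairs. -/

set_option autoImplicit false
set_option linter.unusedSectionVars false

namespace Cfsg.Lib.Stein.MinO

open Module Cfsg.Lib.Forms Cfsg.Lib.Forms.Form Cfsg.Lib.Forms.MI Finset
open Cfsg.Lib.Stein.MinSL (eq_zero_of_smul herm herm_apply herm_inv herm_smul herm_self exists_eigen)

universe u

theorem herm_star {G κ : Type*} [Group G] [Fintype G] [Fintype κ] (ρ : Representation ℂ G (κ → ℂ)) (u v : κ → ℂ) :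
    star (herm ρ u v) = herm ρ v u := by
  simp [herm_apply, dotProduct, mul_comm]

variable {F : Type*} [Field F] [Fintype F] [DecidableEq F] {N : Type u} [AddCommGroup N] [Module F N] [Fintype N]
  {D : Form (quadKind F) N} [hB : Big D] {κ : Type*} [Fintype κ] [Fintype (commutator D.isom)]
  {ρ : Representation ℂ (commutator D.isom) (κ → ℂ)} {ψ : AddChar F ℂ} {p w : N} {v : κ → ℂ}

theorem herm_pj (h : v ∈ ws ρ ψ p w) (y : κ → ℂ) :
    herm ρ v (pj ρ ψ p w y) = ((univ.filter (D.B p · = 0)).card : ℂ) * herm ρ v y := by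
  rw [pj_apply, map_sum, sum_congr rfl (g := fun _ => herm ρ v y) fun z hz => ?_, sum_const, nsmul_eq_mul]
  rw [map_smul, ← herm_inv ρ (og D p z) v y, h z (mem_filter.1 hz).2, herm_smul, smul_eq_mul, AddChar.map_neg_eq_conj]
  rfl

variable (ρ ψ) in
/-- The singular weight spaces are lines on which the pointwise stabilisers act trivially. -/
structure PW : Prop where
  one : ∀ p w, T2 D p w → finrank ℂ (ws ρ ψ p w) ≤ 1
  fix : ∀ p w, T2 D p w → ∀ v ∈ ws ρ ψ p w, ∀ g : commutator D.isom, g.1.1 p = p → g.1.1 w = w → ρ g v = v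

theorem PW.pj_eq (hW : PW ρ ψ) (h : T2 D p w) {g : commutator D.isom} (hp : g.1.1 p = p) (hw : g.1.1 w = w) (v : κ → ℂ) :
    pj ρ ψ p w (ρ g v) = pj ρ ψ p w v := by
  have := pj_conj (ρ := ρ) (ψ := ψ) (p := p) (w := w) g v
  rw [hp, hw] at this
  rw [← this, hW.fix p w h _ (pj_mem v) g hp hw]

theorem fix_three (hψ : ψ ≠ 1) {x r z : N} (hv : ∀ z, D.B p z = 0 → D.B x z = 0 → D.B r z = 0 → ρ (og D p z) v = v)
    (hz : D.B p z = 0) (h : ∀ t u : F, D.B z (t • x + u • r) ≠ 0 → pj ρ ψ p (t • x + u • r) v = 0) :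
    ρ (og D p z) v = v := by
  refine fix_of_pj hψ hz fun y hy => ?_
  by_cases c : y ∈ Submodule.span F {x, r} ⊔ F ∙ p
  · obtain ⟨_, ha, _, hb, rfl⟩ := Submodule.mem_sup.1 c
    obtain ⟨s, rfl⟩ := Submodule.mem_span_singleton.1 hb
    obtain ⟨t, u, rfl⟩ := Submodule.mem_span_pair.1 ha
    rw [pj_add]
    exact h t u (by simpa [D.eq_zero_symm hz] using hy)
  · refine pj_eq_zero_of_notMem hψ (Submodule.mem_sup_right (Submodule.mem_span_singleton_self _)) c fun z hz => ?_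
    rw [perp_sup, Submodule.mem_inf, mem_perp_span_pair, mem_perp_span_singleton] at hz
    exact hv z hz.2 hz.1.1 hz.1.2

theorem exists_B_pair {a b c : N} (h : c ∉ Submodule.span F {a, b}) (t : F) :
    ∃ z, D.B a z = 0 ∧ D.B b z = 0 ∧ D.B z c = t := by
  obtain ⟨z, h1, h2⟩ := hB.nd.exists_perp_B_eq h t
  exact ⟨z, (D.mem_perp_span_pair.1 h1).1, (D.mem_perp_span_pair.1 h1).2, h2⟩

theorem J2.exists_B {a b : N} (h : J2 F a b) (t : F) : ∃ z, D.B a z = 0 ∧ D.B z b = t := by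
  obtain ⟨z, h1, h2⟩ := hB.nd.exists_perp_B_eq h.notMem t
  exact ⟨z, D.mem_perp_span_singleton.1 h1, h2⟩

/-- The rank-two part is not cuspidal. -/
theorem PW.exists_fixed (hW : PW ρ ψ) (hψ : ψ ≠ 1) (h : T2 D p w) (hv : v ∈ ws ρ ψ p w) (h0 : v ≠ 0) :
    ∃ a b, T2 D a b ∧ ∃ y : κ → ℂ, pj ρ ψ b a y ≠ 0 ∧ (∀ g : commutator D.isom, g.1.1 a = a → g.1.1 b = b → ρ g y = y) ∧
      ∀ z, D.B a z = 0 → ρ (og D a z) y = y := by
  have K := hW.fix p w h v hv
  obtain ⟨c, hc⟩ := AddChar.ne_one_iff.1 hψ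
  suffices ∃ t : F, pj ρ ψ (w + t • p) 0 v ≠ 0 by
    obtain ⟨t, h2⟩ := this
    refine ⟨w + t • p, p, ((t2_add t).2 h).symm, pj ρ ψ (w + t • p) 0 v, fun e => ?_, fun g a b => ?_,
      fun z hz => by simpa using pj_mem (ρ := ρ) (ψ := ψ) (w := 0) v z hz⟩
    · have e1 := herm_pj hv (pj ρ ψ (w + t • p) 0 v)
      have e2 := herm_pj (pj_mem (ρ := ρ) (ψ := ψ) (p := w + t • p) (w := 0) v) v
      rw [pj_add] at e
      rw [e, map_zero, eq_comm, mul_eq_zero, or_iff_right card_perp_ne] at e1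
      rw [← herm_star ρ v, e1, star_zero, mul_zero] at e2
      exact herm_self ρ h2 e2
    · rw [pj_conj, a, map_zero, K g b (by simpa [b] using a)]
  by_contra! H
  have H' : ∀ s t : F, s • p + t • w ≠ 0 → pj ρ ψ (s • p + t • w) 0 v = 0 := fun s t e => by
    by_cases ht : t = 0
    · have hs : s ≠ 0 := by rintro rfl; simp [ht] at e
      obtain ⟨z, e1, e2⟩ := h.j.exists_B (D := D) c
      have := pj_og (ρ := ρ) (ψ := ψ) (w := 0) e1 v
      rw [hv z e1, e2, map_smul, map_zero, AddChar.map_zero_eq_one, one_smul] at this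
      rw [ht, zero_smul, add_zero, ← smul_zero s, pj_smul h.qa hs, eq_zero_of_smul hc this.symm]
    · rw [← H (t⁻¹ * s), ← pj_smul ((t2_add _).2 h).qb ht, smul_zero]
      congr 2
      match_scalars <;> field_simp
  have T : ∀ r, T3 D p w r → ∀ z, D.B r z = 0 → ρ (og D r z) v = v := fun r hr z hz => by
    refine fix_three (x := p) (r := w) hψ (fun z a b d => K _ (og_fix hr.rot.bc (D.eq_zero_symm b))
      (og_fix hr.rot.rot.ac (D.eq_zero_symm d))) hz fun s t e => ?_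
    have a0 : s • p + t • w ≠ 0 := fun c => e (by simp [c])
    have ra : T2 D r (s • p + t • w) := ⟨fun a b d => by
      have := hr.j (b * s) (b * t) a (by rw [← d]; module)
      exact ⟨this.2.2, by_contra fun c => a0 (by simp [(mul_eq_zero.1 this.1).resolve_left c,
        (mul_eq_zero.1 this.2.1).resolve_left c])⟩, hr.qc, by simpa using (hr.comb s t 0 0 0 0).1,
      by simp [hr.rot.bc, hr.rot.rot.ac]⟩
    have := congrArg (pj ρ ψ r (s • p + t • w)) (H' s t a0)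
    rw [pj_apply v, map_sum, map_zero, sum_congr rfl (g := fun _ => pj ρ ψ r (s • p + t • w) v) fun y hy => ?_, sum_const,
      ← Nat.cast_smul_eq_nsmul ℂ] at this
    · exact (smul_eq_zero.1 this).resolve_left card_perp_ne
    have hy := (mem_filter.1 hy).2
    obtain ⟨x, e1, e2, e3⟩ := exists_B_pair (D := D) hr.j.notMem (D.B y r)
    have e4 : D.B (s • p + t • w) x = 0 := by simp [e1, e2]
    have e5 : D.B (s • p + t • w) (y - x) = 0 := by rw [map_sub, hy, e4, sub_zero]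
    rw [show y = (y - x) + x by simp, og_add e5 e4, rmul, K _ (og_fix (by simp [quad_B_self, h.qa, h.ba]) (D.eq_zero_symm e1))
      (og_fix (by simp [quad_B_self, h.qb, h.ab]) (D.eq_zero_symm e2))]
    simpa using hW.pj_eq ra (og_fix ra.ba (by simp [e3])) (og_self _ _) v
  obtain ⟨z, hz⟩ := h.exists_T3
  by_cases c0 : c = 0
  · simp [c0] at hc
  obtain ⟨u, e1, e2, e3⟩ := hB.nd.exists_partner h.qb hz.rot.rot.swap.j.notMem
    (D.mem_perp_span_pair.2 ⟨h.ab, hz.rot.rot.ac⟩) c c0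
  obtain ⟨e1, e4⟩ := D.mem_perp_span_pair.1 e1
  have z1 : T3 D p w (p + z) := hz.of (fun a b c d => by
    have := hz.j (a + c) b c (by rw [← d]; module)
    simpa [this.2.2] using this) ⟨1, 0, 0, by simp⟩ ⟨0, 1, 0, by simp⟩ ⟨1, 0, 1, by simp⟩
  have z2 : T3 D p w (-z) := hz.of (fun a b c d => by
    simpa using hz.j a b (-c) (by rw [← d]; module)) ⟨1, 0, 0, by simp⟩ ⟨0, 1, 0, by simp⟩ ⟨0, 0, -1, by simp⟩
  have := hv u e1
  rw [og_swap h.qa e2 e1, show -p = -(p + z) + - -z by abel,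
    og_add (by simp [quad_symm D u, e1, e4]) (by simp [quad_symm D u, e4]),
    ← og_swap z1.qc e2 (by simp [e1, e4]), ← og_swap z2.qc e2 (by simp [e4]), rmul, T _ z2 _ (by simp [e4]),
    T _ z1 _ (by simp [e1, e4]), quad_symm, e3] at this
  exact h0 (eq_zero_of_smul hc this)

variable (ρ) in
/-- Equivariant functions on totally singular pairs that are eigenfunctions of the Borel subgroup of `GL_2`. -/
structure Good (f : N → N → κ → ℂ) (β γ : F → ℂ) : Prop where
  eqv : ∀ (g : commutator D.isom) a b, f (g.1.1 a) (g.1.1 b) = ρ g (f a b)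
  zero : ∀ a b, ¬ T2 D a b → f a b = 0
  add : ∀ a b (c : F), f a (b + c • a) = f a b
  left : ∀ s ≠ 0, ∀ a b, f (s • a) b = β s • f a b
  right : ∀ t ≠ 0, ∀ a b, f a (t • b) = γ t • f a b

theorem exists_good {a b : N} (h : T2 D a b) {y : κ → ℂ} (h0 : pj ρ ψ b a y ≠ 0)
    (h1 : ∀ g : commutator D.isom, g.1.1 a = a → g.1.1 b = b → ρ g y = y) (h2 : ∀ z, D.B a z = 0 → ρ (og D a z) y = y) :
    ∃ f β γ, Good ρ f β γ ∧ ∀ p x, T2 D p x → pj ρ ψ p x (f x p) ≠ 0 := by
  classical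
  let f : N → N → κ → ℂ := fun x z =>
    if h : ∃ g : commutator D.isom, g.1.1 a = x ∧ g.1.1 b = z then ρ h.choose y else 0
  have k : ∀ g : commutator D.isom, f (g.1.1 a) (g.1.1 b) = ρ g y := fun g => by
    have e : ∃ g' : commutator D.isom, g'.1.1 a = g.1.1 a ∧ g'.1.1 b = g.1.1 b := ⟨g, rfl, rfl⟩
    simp only [f, dif_pos e]
    obtain ⟨e1, e2⟩ := e.choose_spec
    generalize e.choose = g' at e1 e2
    have := h1 (g⁻¹ * g') (by simp [e1]) (by simp [e2])
    nth_rw 2 [← this]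
    rw [← rmul, mul_inv_cancel_left]
  have z : ∀ x z, ¬ T2 D x z → f x z = 0 := fun x z c => dif_neg fun ⟨g, e1, e2⟩ => c (e1 ▸ e2 ▸ (t2_map g.1).2 h)
  have eqv : ∀ (g : commutator D.isom) x z, f (g.1.1 x) (g.1.1 z) = ρ g (f x z) := fun g x w => by
    by_cases c : T2 D x w
    · obtain ⟨g', rfl, rfl⟩ := h.witt c
      rw [k, ← rmul, ← k]
      rfl
    · rw [z _ _ c, z _ _ (mt (t2_map g.1).1 c), map_zero]
  have add : ∀ x w (c : F), f x (w + c • x) = f x w := fun x w c => by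
    by_cases e : T2 D x w
    · obtain ⟨g, rfl, rfl⟩ := h.witt e
      obtain ⟨u, e1, e2⟩ := h.j.exists_B (D := D) c
      have := k (g * og D a u)
      rw [rmul, h2 u e1, ← k] at this
      simpa [og_self, og_perp h.qa e1 h.ab, e2] using this
    · rw [z _ _ e, z _ _ (mt (t2_add c).1 e)]
  obtain ⟨χ, c1, c2⟩ := exists_eigen (fun s : Fˣ × Fˣ => pj ρ ψ b a (f (s.1.1 • a) (s.2.1 • b))) (by
    have : f a b = y := (k 1).trans (by simp)
    simpa [this] using h0)
  refine ⟨fun x w => ∑ s : Fˣ × Fˣ, χ s • f (s.1.1 • x) (s.2.1 • w),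
    fun s => if h : s = 0 then 0 else χ (Units.mk0 s h, 1)⁻¹, fun s => if h : s = 0 then 0 else χ (1, Units.mk0 s h)⁻¹,
    ⟨fun g x w => by simp only [map_sum, map_smul, ← eqv], fun x w c => sum_eq_zero fun s _ => by
      rw [z _ _ (mt (t2_smul s.1.ne_zero s.2.ne_zero).1 c), smul_zero], fun x w c => sum_congr rfl fun s _ => ?_,
      fun t ht x w => ?_, fun t ht x w => ?_⟩, fun p x e => ?_⟩
  · rw [← add _ (s.2.1 • w) (s.2.1 * c * s.1.1⁻¹)]
    congr 2
    match_scalars <;> field_simp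
  · rw [dif_neg ht, smul_sum]
    refine Fintype.sum_equiv (Equiv.mulRight (Units.mk0 t ht, 1)) _ _ fun s => ?_
    rw [smul_smul, smul_smul, c1 s (Units.mk0 t ht, 1)]
    simp
  · rw [dif_neg ht, smul_sum]
    refine Fintype.sum_equiv (Equiv.mulRight (1, Units.mk0 t ht)) _ _ fun s => ?_
    rw [smul_smul, smul_smul, c1 s (1, Units.mk0 t ht)]
    simp
  · obtain ⟨g, rfl, rfl⟩ := h.witt e.symm
    refine fun e => rne (ρ := ρ) g c2 ?_
    simpa only [map_sum, map_smul, pj_conj, ← eqv] using e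

variable {f : N → N → κ → ℂ} {β γ : F → ℂ}

theorem Good.ne_zero (h : Good ρ f β γ) (h0 : ∃ a b, f a b ≠ 0) {x y : N} (e : T2 D x y) : f x y ≠ 0 := by
  obtain ⟨a, b, h0⟩ := h0
  obtain ⟨g, rfl, rfl⟩ := (by_contra fun c => h0 (h.zero a b c) : T2 D a b).witt e
  exact h.eqv g a b ▸ rne g h0

theorem Good.swap (h : Good ρ f β γ) : Good ρ (fun a b => ∑ c : F, f (b + c • a) a) γ β where
  eqv g a b := by simp only [map_sum, ← h.eqv, map_add, map_smul]
  zero a b c := sum_eq_zero fun t _ => h.zero _ _ fun e => c ((t2_add t).1 e.symm)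
  add a b c := Fintype.sum_equiv (Equiv.addLeft c) _ _ fun t => by simp [add_smul, add_assoc]
  left s hs a b := by
    rw [smul_sum]
    exact Fintype.sum_equiv (Equiv.mulRight₀ s hs) _ _ fun t => by simp [h.right s hs, smul_smul]
  right s hs a b := by
    rw [smul_sum]
    refine Fintype.sum_equiv (Equiv.mulLeft₀ s⁻¹ (inv_ne_zero hs)) _ _ fun t => ?_
    simp [← h.left s hs, smul_smul, hs]

theorem Good.swap_ne (h : Good ρ f β γ) (h0 : ∃ a b, f a b ≠ 0) : ∃ a b, ∑ c : F, f (b + c • a) a ≠ 0 := by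
  obtain ⟨a, b, h0⟩ := h0
  by_contra! H
  have k : ∀ d : F, f a b = -∑ c ∈ univ.erase 0, (β c * γ (-c⁻¹)) • f (b + (d + c⁻¹) • a) a := fun d => by
    have := H (b + d • a) a
    rw [← add_sum_erase _ _ (mem_univ 0), zero_smul, add_zero, h.add] at this
    rw [eq_neg_of_add_eq_zero_left this, neg_inj]
    refine sum_congr rfl fun c hc => ?_
    have hc := ne_of_mem_erase hc
    rw [mul_smul, ← h.right _ (by simpa using hc), ← h.add (b + (d + c⁻¹) • a) _ 1, ← h.left c hc]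
    congr 1
    · match_scalars <;> (field_simp; try ring)
    · module
  have := sum_congr (rfl : univ = univ) fun d _ => k d
  rw [sum_neg_distrib, sum_comm, sum_eq_zero (s := univ.erase 0) fun c _ => by
    rw [← smul_sum, Fintype.sum_equiv (Equiv.addRight c⁻¹) (fun d => f (b + (d + c⁻¹) • a) a) (fun d => f (b + d • a) a)
      fun _ => rfl, H, smul_zero]] at this
  simp [← Nat.cast_smul_eq_nsmul ℂ, h0] at this

theorem Good.fx (h : Good ρ f β γ) {a b z : N} (e1 : D.B p a = 0) (e2 : D.B p b = 0) (e3 : D.B a z = 0) (e4 : D.B b z = 0) :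
    ρ (og D p z) (f a b) = f a b := by
  rw [← h.eqv, og_fix e1 (D.eq_zero_symm e3), og_fix e2 (D.eq_zero_symm e4)]

variable (ρ ψ) in
/-- The scalars act on the singular weight spaces through `ν`. -/
def Nu (ν : F → ℂ) : Prop := ∀ p x, T2 D p x → ∀ (g : commutator D.isom) (s : F), s ≠ 0 → g.1.1 p = s • p →
  g.1.1 x = s • x → ∀ v ∈ ws ρ ψ p x, ρ g v = ν s • v

theorem Good.nu (hW : PW ρ ψ) (h : Good ρ f β γ) (hy : ∀ p x, T2 D p x → pj ρ ψ p x (f x p) ≠ 0) :
    Nu ρ ψ fun s => β s * γ s := fun p x e g s hs e1 e2 v hv => by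
  have n0 : (⟨_, pj_mem (f x p)⟩ : ws ρ ψ p x) ≠ 0 := by simpa using hy p x e
  obtain ⟨c, hc⟩ := (finrank_eq_one_iff_of_nonzero' _ n0).1
    (le_antisymm (hW.one p x e) (finrank_pos_iff_exists_ne_zero.2 ⟨_, n0⟩)) ⟨v, hv⟩
  obtain rfl : c • pj ρ ψ p x (f x p) = v := congrArg Subtype.val hc
  rw [map_smul, pj_conj, ← h.eqv, e1, e2, pj_smul e.qa hs, h.left s hs, h.right s hs, smul_smul (β s), map_smul, smul_comm]

theorem Good.pj_right (h : Good ρ f β γ) (hν : Nu ρ ψ fun s => β s * γ s) {s : F} (hs : s ≠ 0) (h1 : γ s ≠ 1)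
    {x r : N} (e : T3 D p x r) : pj ρ ψ p x (f x r) = 0 := by
  obtain ⟨g, e1, e2, e3⟩ := e.scale hs
  have := hν p x e.t2 g s hs e1 e2 _ (pj_mem (f x r))
  beta_reduce at this
  have e4 := this
  rw [pj_conj, ← h.eqv, e1, e2, e3, pj_smul e.qa hs, h.left s hs, map_smul, mul_comm, mul_smul] at this
  rw [mul_comm, mul_smul, eq_zero_of_smul h1 this, smul_zero] at e4
  exact by_contra fun c => rne g c e4

theorem Good.pj_left (h : Good ρ f β γ) (hν : Nu ρ ψ fun s => β s * γ s) {s : F} (hs : s ≠ 0) (h1 : β s ≠ 1)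
    {x r : N} (e : T3 D p x r) : pj ρ ψ p x (f r x) = 0 := by
  obtain ⟨g, e1, e2, e3⟩ := e.scale hs
  have := hν p x e.t2 g s hs e1 e2 _ (pj_mem (f r x))
  beta_reduce at this
  have e4 := this
  rw [pj_conj, ← h.eqv, e1, e2, e3, pj_smul e.qa hs, h.right s hs, map_smul, mul_smul] at this
  rw [mul_smul, eq_zero_of_smul h1 this, smul_zero] at e4
  exact by_contra fun c => rne g c e4

omit hB [Fintype F] [Fintype N] [DecidableEq F] in
theorem T3.mix {x r : N} (e : T3 D p x r) (t : F) {u : F} (hu : u ≠ 0) : T3 D p (t • x + u • r) x :=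
  e.of (fun a b c d => by
    have := e.j a (b * t + c) (b * u) (by rw [← d]; module)
    have hb : b = 0 := by simpa [hu] using this.2.2
    simpa [hb] using this) ⟨1, 0, 0, by simp⟩ ⟨0, t, u, by simp⟩ ⟨0, 1, 0, by simp⟩

theorem Good.pj_mix (h : Good ρ f β γ) (hν : Nu ρ ψ fun s => β s * γ s) {s : F} (hs : s ≠ 0) (h1 : β s ≠ 1)
    {x r : N} (e : T3 D p x r) (t : F) {u : F} (hu : u ≠ 0) : pj ρ ψ p (t • x + u • r) (f x r) = 0 := by
  have := h.pj_left hν hs h1 (e.mix t hu)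
  rw [show f x r = γ u⁻¹ • f x (t • x + u • r) by
    rw [← h.right _ (inv_ne_zero hu), ← h.add x r (u⁻¹ * t)]
    congr 1
    match_scalars <;> field_simp, map_smul, this, smul_zero]

theorem Good.both (hψ : ψ ≠ 1) (h : Good ρ f β γ) (hν : Nu ρ ψ fun s => β s * γ s) {s : F} (hs : s ≠ 0) (h1 : β s ≠ 1)
    {s' : F} (hs' : s' ≠ 0) (h2 : γ s' ≠ 1) (a b : N) : f a b = 0 := by
  have k : ∀ p x r, T3 D p x r → f (x + p) r = f x r := fun p x r e => by
    obtain ⟨z, e1, e2, e3⟩ := exists_B_pair (D := D) e.rot.rot.swap.j.notMem 1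
    rw [← fix_three (x := x) (r := r) (v := f x r) hψ (fun z _ a b => h.fx e.ab e.ac a b) e1 fun t u c => ?_, ← h.eqv,
      og_perp e.qa e1 e.ab, og_fix e.ac (D.eq_zero_symm e2), e3, one_smul]
    by_cases hu : u = 0
    · have ht : t ≠ 0 := by rintro rfl; simp [hu] at c
      have := h.pj_right hν hs' h2 (p := p) (x := t • x) (r := r) (e.of (fun a b c d => by
        simpa [ht] using e.j a (b * t) c (by rw [← d]; module)) ⟨1, 0, 0, by simp⟩ ⟨0, t, 0, by simp⟩ ⟨0, 0, 1, by simp⟩)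
      rw [hu, zero_smul, add_zero, show f x r = β t⁻¹ • f (t • x) r by rw [← h.left _ (inv_ne_zero ht), inv_smul_smul₀ ht],
        map_smul, this, smul_zero]
    · exact h.pj_mix hν hs h1 e t hu
  by_contra c
  obtain ⟨p, e⟩ := (by_contra fun d => c (h.zero _ _ d) : T2 D a b).exists_T3
  have := k ((s - 1) • a - p) (a + p) b (e.of (fun x y z d => by
    have := e.j (x * (s - 1) + y) z (y - x) (by rw [← d]; module)
    have e1 : y = x := sub_eq_zero.1 this.2.2
    have e2 : x * s = 0 := by linear_combination this.1 - this.2.2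
    have e3 : x = 0 := by simpa [hs] using e2
    simp [e1, e3, this.2.1]) ⟨s - 1, 0, -1, by module⟩ ⟨1, 0, 1, by simp⟩ ⟨0, 1, 0, by simp⟩)
  rw [k p a b e.rot.rot, show a + p + ((s - 1) • a - p) = s • a by module, h.left s hs] at this
  exact c (eq_zero_of_smul h1 this.symm)

theorem Good.const (hψ : ψ ≠ 1) (h : Good ρ f β γ) (hν : Nu ρ ψ fun s => β s * γ s) {s : F} (hs : s ≠ 0) (h1 : β s ≠ 1)
    (h2 : ∀ t ≠ 0, γ t = 1) {x y y' : N} (e : T2 D x y) (e' : T2 D x y') (hy : D.B y y' = 0) : f x y = f x y' := by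
  by_cases c : y' ∈ Submodule.span F {x, y}
  · obtain ⟨a, b, rfl⟩ := Submodule.mem_span_pair.1 c
    have hb : b ≠ 0 := by rintro rfl; simpa using (e'.j a (-1) (by simp)).2
    rw [add_comm, h.add, h.right b hb, h2 b hb, one_smul]
  have e1 : T3 D x y y' := ⟨j3_iff.2 ⟨e.j, c⟩, e.qa, e.qb, e'.qb, e.ab, e'.ab, hy⟩
  have e2 : T3 D (y' - y) x y := e1.of (fun a b c d => by
    have := e1.j b (c - a) a (by rw [← d]; module)
    simpa [this.2.2, and_comm] using this) ⟨0, -1, 1, by module⟩ ⟨1, 0, 0, by simp⟩ ⟨0, 1, 0, by simp⟩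
  obtain ⟨z, a1, a2, a3⟩ := exists_B_pair (D := D) e2.j.notMem 1
  rw [← fix_three (x := x) (r := y) (v := f x y) hψ (fun z _ a b => h.fx e2.ab e2.ac a b) a1 fun t u c =>
    h.pj_mix hν hs h1 e2 t (by rintro rfl; simp [D.eq_zero_symm a2] at c), ← h.eqv,
    og_perp e2.qa a1 e2.ac, og_fix e2.ab (D.eq_zero_symm a2), a3, one_smul, add_sub_cancel]

/-- The triangle identity. -/
theorem Good.triangle (hψ : ψ ≠ 1) (hW : PW ρ ψ) (h : Good ρ f (fun _ => 1) fun _ => 1)
    (hy : ∀ p x, T2 D p x → pj ρ ψ p x (f x p) ≠ 0) {r x y : N} (e : T3 D r x y) :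
    (f r y - f y r) + (f y x - f x y) + (f x r - f r x) = 0 := by
  have L : ∀ s : F, s ≠ 0 → ∀ a b, f (s • a) b = f a b := fun s hs a b => by simp [h.left s hs]
  have R : ∀ s : F, s ≠ 0 → ∀ a b, f a (s • b) = f a b := fun s hs a b => by simp [h.right s hs]
  have E : ∀ a b (s t : F), s ≠ 0 → f a (s • b + t • a) = f a b := fun a b s t hs => by rw [h.add, R s hs]
  obtain ⟨c, hc⟩ := AddChar.ne_one_iff.1 hψ
  obtain ⟨k, hk⟩ : ∃ k : ℂ, ∀ p x r, T3 D p x r → pj ρ ψ p x (f r x - f x r + k • f x p) = 0 := by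
    have n0 : (⟨_, pj_mem (f x r)⟩ : ws ρ ψ r x) ≠ 0 := by simpa using hy r x e.t2
    obtain ⟨c, hc⟩ := (finrank_eq_one_iff_of_nonzero' _ n0).1
      (le_antisymm (hW.one r x e.t2) (finrank_pos_iff_exists_ne_zero.2 ⟨_, n0⟩)) ⟨_, pj_mem (f x y - f y x)⟩
    have hc : c • pj ρ ψ r x (f x r) = pj ρ ψ r x (f x y - f y x) := congrArg Subtype.val hc
    refine ⟨c, fun p x' r' e' => ?_⟩
    obtain ⟨g, t, ht, rfl, rfl, e1⟩ := e.witt e'
    rw [← L t ht r', ← R t ht _ r', ← e1, h.eqv, h.eqv, h.eqv, ← map_smul, ← map_sub, ← map_add, ← pj_conj, map_add, map_smul,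
      hc, ← map_add]
    simp
  have T : ∀ p x r, T3 D p x r → f r (x + p) - f (x + p) r + k • f (x + p) p = f r x - f x r + k • f x p := fun p x r e => by
    obtain ⟨z, e1, e2, e3⟩ := exists_B_pair (D := D) e.rot.rot.swap.j.notMem 1
    rw [← fix_three (x := x) (r := r) (v := f r x - f x r + k • f x p) hψ (fun z a b d => by
      rw [map_add, map_sub, map_smul, h.fx e.ac e.ab d b, h.fx e.ab e.ac b d, h.fx e.ab (D.B_self_of_Q e.qa) b a]) e1 fun t u d => ?_]
    · simp only [map_add, map_sub, map_smul, ← h.eqv, og_self, og_perp e.qa e1 e.ab, og_fix e.ac (D.eq_zero_symm e2), e3,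
        one_smul]
    have ht : t ≠ 0 := by rintro rfl; simp [D.eq_zero_symm e2] at d
    by_cases hu : u = 0
    · have := hk p (t • x) r (e.of (fun a b c d => by
        simpa [ht] using e.j a (b * t) c (by rw [← d]; module)) ⟨1, 0, 0, by simp⟩ ⟨0, t, 0, by simp⟩ ⟨0, 0, 1, by simp⟩)
      rwa [L t ht, L t ht, R t ht, ← add_zero (t • x), ← zero_smul F r, ← hu] at this
    · have e' := e.mix t hu
      obtain ⟨a, a1, a2, a3⟩ := exists_B_pair (D := D) e'.rot.rot.swap.j.notMem c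
      obtain ⟨b, b1, b2, b3⟩ := exists_B_pair (D := D) e'.j.notMem (-t⁻¹)
      have b4 : D.B b r = u⁻¹ := by
        have := D.eq_zero_symm b2
        rw [map_add, map_smul, map_smul, b3, smul_eq_mul, smul_eq_mul] at this
        field_simp at this ⊢
        linear_combination this
      have a4 := hW.pj_eq e'.t2 (og_fix e'.t2.ba (D.eq_zero_symm b1)) (og_self _ b) (f x r)
      rw [← h.eqv, og_perp e'.qb b2 e'.bc, og_perp e'.qb b2 (by simp [e.bc, D.B_self_of_Q e.qc]), b3, b4,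
        show x + -t⁻¹ • (t • x + u • r) = (-(t⁻¹ * u)) • r by match_scalars <;> (field_simp; try ring), L _ (by simp [ht, hu]),
        show r + u⁻¹ • (t • x + u • r) = (u⁻¹ * t) • x + (2 : F) • r by match_scalars <;> (field_simp; try ring),
        E _ _ _ _ (by simp [ht, hu])] at a4
      rw [map_add, map_sub, map_smul, a4, pj_eq_zero a1 (a3 ▸ hc) (h.fx e.ab (D.B_self_of_Q e.qa) a2 a1)]
      simp
  have T' : ∀ r x y, T3 D r x y → (f r y - f y r) - (f r x - f x r) + k • (f y x - f x y) = 0 := fun r x y e => by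
    have := T (y - x) x r (e.of (fun a b c d => by
      have := e.j c (b - a) a (by rw [← d]; module)
      simpa [this.2.2, and_comm] using this) ⟨0, -1, 1, by module⟩ ⟨0, 1, 0, by simp⟩ ⟨1, 0, 0, by simp⟩)
    rw [add_sub_cancel, show f y (y - x) = f y x by simpa [neg_add_eq_sub] using E y x (-1) 1 (by simp),
      show f x (y - x) = f x y by simpa [sub_eq_add_neg] using h.add x y (-1)] at this
    rw [← sub_eq_zero.2 this]
    module
  by_cases k1 : k = 1
  · rw [← T' r x y e, k1]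
    module
  exfalso
  have C : ∀ r x y, T3 D r x y → f x r - f r x = f y x - f x y := fun r x y e => by
    refine smul_right_injective _ (sub_ne_zero.2 (Ne.symm k1)) ?_
    rw [← sub_eq_zero, ← sub_eq_zero.2 ((T' _ _ _ e).trans (T' _ _ _ e.rot.rot).symm)]
    module
  have Dd : ∀ x r, T2 D x r → f (r + x) x = f r x := fun x r e => by
    obtain ⟨y, e'⟩ := e.symm.exists_T3
    have := (C _ _ _ e').trans (C (r + x) x y (e'.of (fun a b c d => by
      have := e'.j a (a + b) c (by rw [← d]; module)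
      simpa [this.1] using this) ⟨1, 1, 0, by simp⟩ ⟨0, 1, 0, by simp⟩ ⟨0, 0, 1, by simp⟩)).symm
    rw [show f x (r + x) = f x r by simpa using h.add x r 1] at this
    exact (sub_right_injective this).symm
  refine hy r x e.t2 ?_
  obtain ⟨z, e1, e2⟩ := e.t2.j.exists_B (D := D) c
  rw [← Dd r x e.t2, ← E (x + r) r (-1) 1 (by simp), show (-1 : F) • r + (1 : F) • (x + r) = x by module, add_comm,
    Dd x r e.t2.symm]
  exact pj_eq_zero e1 (e2 ▸ hc) (by rw [← h.eqv, og_self, og_perp e.qa e1 e.ab, h.add])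

/-- Without vectors fixed by a point stabiliser there is no function on flags. -/
theorem Good.exists_point (hψ : ψ ≠ 1) (hW : PW ρ ψ) (h : Good ρ f (fun _ => 1) fun _ => 1)
    (hy : ∀ p x, T2 D p x → pj ρ ψ p x (f x p) ≠ 0) (e : T2 D p w) :
    ∃ x v, D.Q x = 0 ∧ x ≠ 0 ∧ v ≠ 0 ∧ ∀ (g : commutator D.isom) (t : F), g.1.1 x = t • x → ρ g v = v := by
  classical
  have L : ∀ s : F, s ≠ 0 → ∀ a b, f (s • a) b = f a b := fun s hs a b => by simp [h.left s hs]
  have R : ∀ s : F, s ≠ 0 → ∀ a b, f a (s • b) = f a b := fun s hs a b => by simp [h.right s hs]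
  let c : N → N → κ → ℂ := fun a b => f a b - f b a
  have dep : ∀ a b x : N, a ≠ 0 → b ≠ 0 → ¬ J2 F a b → c a b + c b x + c x a = 0 := fun a b x ha hb d => by
    rw [j2_iff, not_and, not_not] at d
    obtain ⟨s, rfl⟩ := Submodule.mem_span_singleton.1 (d ha)
    have hs : s ≠ 0 := by rintro rfl; simp at hb
    simp [c, L s hs, R s hs]
  have tri : ∀ a b x : N, a ≠ 0 → b ≠ 0 → x ≠ 0 → D.Q a = 0 → D.Q b = 0 → D.Q x = 0 → D.B a b = 0 → D.B a x = 0 →
      D.B b x = 0 → c a b + c b x + c x a = 0 := fun a b x ha hb hx qa qb qx ab ax bx => by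
    by_cases d1 : J2 F a b
    swap
    · exact dep a b x ha hb d1
    by_cases d2 : J2 F b x
    swap
    · rw [← dep b x a hb hx d2]; abel
    by_cases d3 : J2 F x a
    swap
    · rw [← dep x a b hx ha d3]; abel
    by_cases d : x ∈ Submodule.span F {a, b}
    · obtain ⟨s, t, rfl⟩ := Submodule.mem_span_pair.1 d
      have hs : s ≠ 0 := by rintro rfl; simpa using (d2 t (-1) (by simp)).2
      have ht : t ≠ 0 := by rintro rfl; simpa using (d3 1 (-s) (by simp)).1
      have e1 : f a (s • a + t • b) = f a b := by rw [add_comm, h.add, R t ht]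
      have e2 : f b (s • a + t • b) = f b a := by rw [h.add, R s hs]
      have e3 : f (s • a + t • b) b = f (s • a + t • b) a := by
        rw [← R (-(t⁻¹ * s)) (by simp [hs, ht]) _ a, ← h.add _ (-(t⁻¹ * s) • a) t⁻¹]
        congr 1
        match_scalars <;> (field_simp; try ring)
      simp only [c, e1, e2, e3]
      abel
    · rw [← h.triangle hψ hW hy (r := a) (x := x) (y := b) (T3.mk (j3_iff.2 ⟨d1, d⟩) qa qb qx ab ax bx).rot.rot.swap]
  choose z z0 z1 z2 z3 using fun a b : N => exists_sing_perp (D := D) a b a b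
  let C : N → N → κ → ℂ := fun x y => c x (z x y) + c (z x y) y
  have hC : ∀ x y u : N, x ≠ 0 → y ≠ 0 → u ≠ 0 → D.Q x = 0 → D.Q y = 0 → D.Q u = 0 → D.B x u = 0 → D.B y u = 0 →
      C x y = c x u + c u y := fun x y u hx hy hu qx qy qu xu yu => by
    obtain ⟨t, t0, t1, t2, t3, t4, t5⟩ := exists_sing_perp (D := D) x y u (z x y)
    have a1 := tri x u t hx hu t0 qx qu t1 xu t2 t4
    have a2 := tri u y t hu hy t0 qu qy t1 (D.eq_zero_symm yu) t4 t3
    have a3 := tri x _ t hx (z0 x y) t0 qx (z1 x y) t1 (z2 x y) t2 t5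
    have a4 := tri _ y t (z0 x y) hy t0 (z1 x y) qy t1 (D.eq_zero_symm (z3 x y).1) t5 t3
    simp only [C, c] at *
    linear_combination (exp := 1) a3 + a4 - a1 - a2
  by_contra! hP
  have S : ∀ x, D.Q x = 0 → x ≠ 0 → ∑ y ∈ univ.filter (fun y => D.Q y = 0 ∧ y ≠ 0), C x y = 0 := fun x qx hx => by
    by_contra d
    obtain ⟨g, t, e1, e2⟩ := hP x _ qx hx d
    have ht : t ≠ 0 := by rintro rfl; simp [hx] at e1
    refine e2 ?_
    rw [map_sum]
    refine sum_equiv g.1.1.toEquiv (by simp) fun y hy => ?_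
    obtain ⟨qy, hy⟩ := (mem_filter.1 hy).2
    have := B_isom g.1 x (z x y)
    rw [e1, z2] at this
    show _ = C x (g.1.1 y)
    rw [hC x (g.1.1 y) (g.1.1 (z x y)) hx (by simpa) (by simpa using z0 x y) qx (by simpa) (by simpa using z1 x y)
      (by simpa [ht] using this) (by simpa using (z3 x y).1)]
    simp only [C, c, map_add, map_sub, ← h.eqv, e1, L t ht, R t ht]
  have := sub_eq_zero.2 ((S p e.qa e.j.ne).trans (S w e.qb e.j.ne').symm)
  rw [← sum_sub_distrib, sum_congr rfl (g := fun _ => c p w) fun y hy => ?_, sum_const, ← Nat.cast_smul_eq_nsmul ℂ,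
    smul_eq_zero, or_iff_right (Nat.cast_ne_zero.2 (card_ne_zero.2 ⟨p, by simp [e.qa, e.j.ne]⟩)), sub_eq_zero] at this
  · obtain ⟨a, ha⟩ := AddChar.ne_one_iff.1 hψ
    obtain ⟨z, e1, e2⟩ := e.j.exists_B (D := D) a
    refine hy p w e ?_
    rw [← this]
    exact pj_eq_zero e1 (e2 ▸ ha) (by rw [← h.eqv, og_self, og_perp e.qa e1 e.ab, h.add])
  obtain ⟨qy, hy⟩ := (mem_filter.1 hy).2
  obtain ⟨t, t0, t1, t2, t3, t4, -⟩ := exists_sing_perp (D := D) p w y y
  have := tri p w t e.j.ne e.j.ne' t0 e.qa e.qb t1 e.ab t2 t3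
  rw [hC p y t e.j.ne hy t0 e.qa qy t1 t2 t4, hC w y t e.j.ne' hy t0 e.qb qy t1 t3 t4]
  simp only [c] at *
  linear_combination (exp := 1) -this

/-- The dichotomy for a singular weight of multiplicity one. -/
theorem PW.dichotomy (hW : PW ρ ψ) (hψ : ψ ≠ 1) (e : T2 D p w) (hv : v ∈ ws ρ ψ p w) (h0 : v ≠ 0) :
    (∃ f : N → N → κ → ℂ, (∀ (g : commutator D.isom) a b, f (g.1.1 a) (g.1.1 b) = ρ g (f a b)) ∧
      (∀ a b, T2 D a b → f a b ≠ 0) ∧ (∀ x y y', T2 D x y → T2 D x y' → D.B y y' = 0 → f x y = f x y') ∧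
      ∃ s : F, s ≠ 0 ∧ ∃ c : ℂ, c ≠ 1 ∧ ∀ a b, f (s • a) b = c • f a b) ∨
    ∃ x v, D.Q x = 0 ∧ x ≠ 0 ∧ v ≠ 0 ∧ ∀ (g : commutator D.isom) (t : F), g.1.1 x = t • x → ρ g v = v := by
  obtain ⟨a, b, h, y, y0, y1, y2⟩ := hW.exists_fixed hψ e hv h0
  obtain ⟨f, β, γ, hf, hy⟩ := exists_good h y0 y1 y2
  have f0 : ∃ a b, f a b ≠ 0 := ⟨w, p, fun c => hy p w e (by simp [c])⟩
  have hν := hf.nu hW hy
  have k : ∀ f β γ, Good ρ f β γ → (Nu ρ ψ fun s => β s * γ s) → (∃ a b, f a b ≠ 0) → (∃ s ≠ 0, β s ≠ 1) →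
      ∃ f : N → N → κ → ℂ, (∀ (g : commutator D.isom) a b, f (g.1.1 a) (g.1.1 b) = ρ g (f a b)) ∧
      (∀ a b, T2 D a b → f a b ≠ 0) ∧ (∀ x y y', T2 D x y → T2 D x y' → D.B y y' = 0 → f x y = f x y') ∧
      ∃ s : F, s ≠ 0 ∧ ∃ c : ℂ, c ≠ 1 ∧ ∀ a b, f (s • a) b = c • f a b := fun f β γ hf hν f0 ⟨s, hs, h1⟩ =>
    ⟨f, hf.eqv, fun a b => hf.ne_zero f0, fun x y y' => hf.const hψ hν hs h1 fun t ht => by_contra fun c => by
      obtain ⟨a, b, d⟩ := f0
      exact d (hf.both hψ hν hs h1 ht c a b), s, hs, _, h1, hf.left s hs⟩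
  by_cases c1 : ∃ s ≠ 0, β s ≠ 1
  · exact Or.inl (k f β γ hf hν f0 c1)
  by_cases c2 : ∃ s ≠ 0, γ s ≠ 1
  · exact Or.inl (k _ _ _ hf.swap (by simpa only [mul_comm] using hν) (hf.swap_ne f0) c2)
  push Not at c1 c2
  exact Or.inr (Good.exists_point hψ hW ⟨hf.eqv, hf.zero, hf.add, fun s hs a b => by rw [hf.left s hs, c1 s hs],
    fun s hs a b => by rw [hf.right s hs, c2 s hs]⟩ hy e)

end Cfsg.Lib.Stein.MinO
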