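import Cfsg.Agent.Lib.Stein.MinO3
import Cfsg.Agent.Lib.Conj.Wt

/-! Frames, and the weights of the centre of the Siegel radical. -/

set_option autoImplicit false
set_option linter.unusedSectionVars false

namespace Cfsg.Lib.Stein.MinO

open Module Matrix Cfsg.Lib.Forms Cfsg.Lib.Forms.Form Cfsg.Lib.Forms.MI Cfsg.Lib.Conj Cfsg.Lib.Linear Finset
open Cfsg.Lib.Stein.MinSL (eq_zero_of_smul I2 i2_iff mem_of_fix)

universe u

section gen
variable {K M : Type*} [Field K] [AddCommGroup M] [Module K M] [FiniteDimensional K M]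

theorem sum_finrank_le {J : Type*} {W : J → Submodule K M} (hW : iSupIndep W) (s : Finset J) :
    ∑ j ∈ s, finrank K (W j) ≤ finrank K M := by
  classical
  have h1 := LinearMap.finrank_le_finrank_of_injective
    (hW.comp (Subtype.val_injective (p := (· ∈ s)))).dfinsupp_lsum_injective
  rw [show finrank K (Π₀ j : s, (W ∘ Subtype.val) j) = ∑ j : s, finrank K (W j) from finrank_directSum K _] at h1
  rwa [← sum_coe_sort]

theorem li_le {J : Type*} [Finite J] {v : J → M} (h : LinearIndependent K v) {W : Submodule K M} (hv : ∀ j, v j ∈ W) :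
    Nat.card J ≤ finrank K W := by
  have := Fintype.ofFinite J
  simpa using (LinearIndependent.of_comp (v := fun j => (⟨v j, hv j⟩ : W)) W.subtype h).fintype_card_le_finrank

theorem card_le_of_wt {ι J : Type*} [Finite J] (f : ι → End K M) {c : J → ι → K} (hc : Function.Injective c) {v : J → M}
    (h0 : ∀ j, v j ≠ 0) (h1 : ∀ j i, f i (v j) = c j i • v j) {W : Submodule K M} (hv : ∀ j, v j ∈ W) :
    Nat.card J ≤ finrank K W :=
  li_le (((wt_indep f).comp hc).linearIndependent _ (fun j => mem_wt.2 (h1 j)) h0) hv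

theorem sum_fib {A B : Type*} [AddGroup A] [Fintype A] [AddGroup B] [Fintype B] (f : A →+ B) (hf : Function.Surjective f)
    (g : B → ℕ) : Fintype.card B * ∑ a, g (f a) = Fintype.card A * ∑ b, g b := by
  classical
  have k : ∀ b, #{a | f a = b} = #{a | f a = 0} := fun b => AddMonoidHom.card_fiber_eq_of_mem_range f (hf b) ⟨0, map_zero f⟩
  have e : ∀ g : B → ℕ, ∑ a, g (f a) = #{a | f a = 0} * ∑ b, g b := fun g => by
    rw [← sum_fiberwise univ f, mul_sum]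
    exact sum_congr rfl fun b _ => by rw [sum_congr rfl fun a ha => by rw [(mem_filter.1 ha).2], sum_const, k, smul_eq_mul]
  have := e fun _ => 1
  simp only [sum_const, card_univ, smul_eq_mul, mul_one] at this
  rw [e, this]
  ring

end gen

variable {F : Type*} [Field F] [Fintype F] [DecidableEq F] {N : Type u} [AddCommGroup N] [Module F N] [Fintype N]
  {D : Form (quadKind F) N} [hB : Big D] {V : Type*} [AddCommGroup V] [Module ℂ V]
  {ρ : Representation ℂ (commutator D.isom) V} {ψ : AddChar F ℂ}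

theorem eq_of_char (hψ : ψ ≠ 1) {x y : F} (h : ∀ t, ψ (t * x) = ψ (t * y)) : x = y := by
  obtain ⟨c, hc⟩ := AddChar.ne_one_iff.1 hψ
  by_contra e
  have := h (c * (x - y)⁻¹)
  refine hc ?_
  rw [← inv_mul_cancel_right₀ (sub_ne_zero.2 e) c, mul_sub, AddChar.map_sub_eq_div, this, div_self (AddChar.val_isUnit _ _).ne_zero]

theorem exists_pS (hψ : ψ ≠ 1) {p : N} (S : Submodule F N) (hS : ∀ z ∈ S, D.B p z = 0) {y : V} (h0 : y ≠ 0) :
    ∃ w y', y' ≠ 0 ∧ (∀ z ∈ S, ρ (og D p z) y' = ψ (D.B z w) • y') ∧ ∀ (g : commutator D.isom) (c : ℂ),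
      g.1.1 p = p → (∀ z ∈ S, g.1.1 z = z) → ρ g y = c • y → ρ g y' = c • y' := by
  classical
  obtain ⟨w, hw⟩ : ∃ w, ∑ z : S, ψ (-(D.B z w)) • ρ (og D p z) y ≠ 0 := by
    by_contra! H
    have := sum_eq_zero (s := univ) fun w _ => H w
    rw [sum_comm, sum_eq_single 0 (fun z _ h => by rw [← sum_smul, sum_B hψ (by simpa using h), zero_smul]) (by simp),
      ← sum_smul] at this
    simp [og_zero, h0] at this
  refine ⟨w, _, hw, fun z hz => ?_, fun g c e1 e2 e3 => ?_⟩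
  · rw [map_sum, smul_sum]
    refine Fintype.sum_equiv (Equiv.addLeft ⟨z, hz⟩) _ _ fun x => ?_
    rw [Equiv.coe_addLeft, Submodule.coe_add, og_add (hS z hz) (hS _ x.2), rmul, smul_smul, ← AddChar.map_add_eq_mul, map_smul]
    simp
  · rw [map_sum, smul_sum]
    refine sum_congr rfl fun x _ => ?_
    have := og_mul g⁻¹ p x
    rw [show (g⁻¹).1.1 p = p from isom_inv_apply_eq.2 e1, show (g⁻¹).1.1 x = x from isom_inv_apply_eq.2 (e2 _ x.2),
      inv_mul_eq_iff_eq_mul, ← mul_assoc, eq_mul_inv_iff_mul_eq] at this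
    rw [map_smul, ← rmul, ← this, rmul, e3, map_smul, smul_comm]

theorem finrank_ws_le [FiniteDimensional ℂ V] {p w p' w' : N} (h : J2 F p w) (h' : J2 F p' w') (ha : D.Q p' = D.Q p)
    (hb : D.Q w' = D.Q w) (hab : D.B p' w' = D.B p w) : finrank ℂ (ws ρ ψ p w) ≤ finrank ℂ (ws ρ ψ p' w') := by
  obtain ⟨g, rfl, rfl⟩ := witt2 h h' ha hb hab
  exact LinearMap.finrank_le_finrank_of_injective (f := (ρ g).restrict fun x hx => ws_conj g hx)
    fun x y e => Subtype.ext (rinj g (congrArg Subtype.val e))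

variable (D) in
/-- A maximal totally singular subspace, a dual one and an anisotropic complement. -/
structure Fr (ι : Type) [Fintype ι] (α : Type*) [AddCommGroup α] [Module F α] where
  i : (ι → F) →ₗ[F] N
  j : (ι → F) →ₗ[F] N
  k : α →ₗ[F] N
  Q : ∀ a φ u, D.Q (i a + j φ + k u) = φ ⬝ᵥ a + D.Q (k u)
  an : ∀ u, D.Q (k u) = 0 → u = 0
  sur : ∀ x, ∃ a φ u, x = i a + j φ + k u

namespace Fr

variable {ι : Type} [Fintype ι] [DecidableEq ι] {α : Type*} [AddCommGroup α] [Module F α] [Fintype α] (X : Fr D ι α)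
  (a b φ η : ι → F) (u : α)

@[simp] theorem Qi : D.Q (X.i a) = 0 := by simpa using X.Q a 0 0
@[simp] theorem Qj : D.Q (X.j a) = 0 := by simpa using X.Q 0 a 0
@[simp] theorem Bii : D.B (X.i a) (X.i b) = 0 := by simp [quad_B_eq, ← map_add]
@[simp] theorem Bjj : D.B (X.j a) (X.j b) = 0 := by simp [quad_B_eq, ← map_add]
@[simp] theorem Bij : D.B (X.i a) (X.j φ) = φ ⬝ᵥ a := by simpa [quad_B_eq] using X.Q a φ 0
@[simp] theorem Bji : D.B (X.j φ) (X.i a) = φ ⬝ᵥ a := by rw [quad_symm, Bij]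
@[simp] theorem Bik : D.B (X.i a) (X.k u) = 0 := by simpa [quad_B_eq, sub_eq_zero] using X.Q a 0 u
@[simp] theorem Bjk : D.B (X.j a) (X.k u) = 0 := by simpa [quad_B_eq, sub_eq_zero] using X.Q 0 a u
@[simp] theorem Bki : D.B (X.k u) (X.i a) = 0 := by rw [quad_symm, Bik]
@[simp] theorem Bkj : D.B (X.k u) (X.j a) = 0 := by rw [quad_symm, Bjk]

variable {a b φ η u}

theorem eq_zero (h : X.i a + X.j φ + X.k u = 0) : a = 0 ∧ φ = 0 ∧ u = 0 := by
  have h1 : a = 0 := funext fun l => by simpa using congrArg (D.B (X.j (Pi.single l 1))) h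
  have h2 : φ = 0 := funext fun l => by simpa using congrArg (D.B (X.i (Pi.single l 1))) h
  exact ⟨h1, h2, X.an u (by simp [show X.k u = 0 by simpa [h1, h2] using h])⟩

theorem exists_B (h : u ≠ 0) (c : F) : ∃ u', D.B (X.k u') (X.k u) = c := by
  obtain ⟨x, -, hx⟩ := hB.nd.exists_perp_B_eq (H := ⊥) (a := X.k u) (fun e => h (X.an u (by simp [(Submodule.mem_bot F).1 e]))) c
  obtain ⟨a, φ, u', rfl⟩ := X.sur x
  exact ⟨u', by simpa using hx⟩

theorem t2 (h : I2 a b) : T2 D (X.i a) (X.i b) :=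
  ⟨fun s t e => h s t (X.eq_zero (φ := 0) (u := 0) (by simpa using e)).1, by simp, by simp, by simp⟩

theorem exists_lift (g : SpecialLinearGroup ι F) : ∃ h : commutator D.isom, ∀ a, h.1.1 (X.i a) = X.i (g.1 *ᵥ a) :=
  mem_of_fix ⟨⟨⟨{g | ∃ h : commutator D.isom, ∀ a, h.1.1 (X.i a) = X.i (g.1 *ᵥ a)}, fun ⟨h, a⟩ ⟨h', b⟩ =>
    ⟨h * h', fun x => by simp [a, b]⟩⟩, ⟨1, by simp⟩⟩, fun {g} ⟨h, a⟩ => ⟨h⁻¹, fun x => isom_inv_apply_eq.2 (by rw [a, mulVec_mulVec, sl_coe_mul_inv, one_mulVec])⟩⟩ ⊥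
    (fun u φ _ h => ⟨og D (X.i u) (X.j φ), fun a => by simp [og_perp, tvf_mulVec, h]⟩) g (by simp)

variable (ρ) in
/-- The centre of the Siegel radical. -/
noncomputable def zf (x : (ι → F) × (ι → F)) : End ℂ V := ρ (og D (X.i x.1) (X.i x.2))

end Fr

variable {ι : Type} [Fintype ι] [DecidableEq ι] {α : Type*} [AddCommGroup α] [Module F α] [Fintype α] (X : Fr D ι α)
  {φ η : ι → F} {y : V}

variable (ψ) in
/-- The characters of rank two. -/
def om (φ η : ι → F) (x : (ι → F) × (ι → F)) : ℂ := ψ (φ ⬝ᵥ x.1 * η ⬝ᵥ x.2 - φ ⬝ᵥ x.2 * η ⬝ᵥ x.1)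

theorem om_eq (hψ : ψ ≠ 1) {φ' η' : ι → F} (h : om ψ φ η = om ψ φ' η') (a b : ι → F) :
    φ ⬝ᵥ a * η ⬝ᵥ b - φ ⬝ᵥ b * η ⬝ᵥ a = φ' ⬝ᵥ a * η' ⬝ᵥ b - φ' ⬝ᵥ b * η' ⬝ᵥ a := eq_of_char hψ fun t => by
  have := congrFun h (t • a, b)
  simp only [om, dotProduct_smul, smul_eq_mul] at this
  convert this using 2 <;> ring

theorem exists_pS' (hψ : ψ ≠ 1) (d : ι → F) (h0 : y ≠ 0) :
    ∃ χ u y', y' ≠ 0 ∧ (∀ b u', ρ (og D (X.i d) (X.i b + X.k u')) y' = ψ (χ ⬝ᵥ b + D.B (X.k u') (X.k u)) • y') ∧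
      ∀ a b (c : ℂ), ρ (og D (X.i a) (X.i b)) y = c • y → ρ (og D (X.i a) (X.i b)) y' = c • y' := by
  obtain ⟨w, y', h1, h2, h3⟩ := exists_pS (ρ := ρ) hψ (p := X.i d) (D.perp (LinearMap.range X.i))
    (fun z hz => hz _ ⟨d, rfl⟩) h0
  obtain ⟨e, χ, u, rfl⟩ := X.sur w
  refine ⟨χ, u, y', h1, fun b u' => ?_, fun a b c => h3 _ c (og_fix (by simp) (by simp)) fun z hz =>
    og_fix (hz _ ⟨a, rfl⟩) (hz _ ⟨b, rfl⟩)⟩
  simpa using h2 (X.i b + X.k u') (by rintro _ ⟨a, rfl⟩; simp)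

theorem exists_om (hψ : ψ ≠ 1) {c d : ι → F} (hc : η ⬝ᵥ c = 0) (hd : η ⬝ᵥ d = 1) (h0 : y ≠ 0)
    (h1 : ∀ a b, η ⬝ᵥ a = 0 → η ⬝ᵥ b = 0 → ρ (og D (X.i a) (X.i b)) y = y) {t : ℂ} (ht : t ≠ 1)
    (h2 : ρ (og D (X.i c) (X.i d)) y = t • y) : ∃ φ η, I2 φ η ∧ ∃ y ∈ wt (X.zf ρ) (om ψ φ η), y ≠ 0 := by
  obtain ⟨χ, u, y', a0, a1, a2⟩ := exists_pS' (ρ := ρ) X hψ d h0
  have a3 : ∀ b, ρ (og D (X.i d) (X.i b)) y' = ψ (χ ⬝ᵥ b) • y' := fun b => by simpa using a1 b 0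
  have a4 : ∀ b, ρ (og D (X.i b) (X.i d)) y' = ψ (-(χ ⬝ᵥ b)) • y' := fun b => by
    rw [og_swap (by simp) (by simp) (by simp), ← map_neg, a3, dotProduct_neg]
  have a5 : χ ⬝ᵥ d = 0 := eq_of_char hψ fun s => by
    have := a3 (s • d)
    rw [map_smul, og_smul_self (by simp), map_one] at this
    simpa using by_contra fun e => a0 (eq_zero_of_smul e this)
  refine ⟨η, χ, i2_iff.2 ⟨by rintro rfl; simp at hd, fun e => ?_⟩, y', mem_wt.2 fun x => ?_, a0⟩
  · obtain ⟨s, rfl⟩ := Submodule.mem_span_singleton.1 e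
    have := a2 _ _ _ h2
    rw [a4, smul_dotProduct, hc] at this
    exact a0 (eq_zero_of_smul ht (by simpa using this))
  obtain ⟨a, b⟩ := x
  obtain ⟨a', s, rfl, e1⟩ : ∃ a', ∃ s : F, a = a' + s • d ∧ η ⬝ᵥ a' = 0 := ⟨a - (η ⬝ᵥ a) • d, η ⬝ᵥ a, by simp, by simp [hd]⟩
  obtain ⟨b', r, rfl, e2⟩ : ∃ a', ∃ s : F, b = a' + s • d ∧ η ⬝ᵥ a' = 0 := ⟨b - (η ⬝ᵥ b) • d, η ⬝ᵥ b, by simp, by simp [hd]⟩
  have e3 := a2 b' (-a') 1 (by simpa using h1 b' (-a') e2 (by simp [e1]))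
  simp only [Fr.zf, om]
  rw [map_add X.i b', map_smul X.i r, og_add (by simp) (by simp), ← og_smul (X.Qi _) (by simp),
    ← map_smul X.i r, rmul, a4, og_swap (X.Qi _) (by simp) (by simp), ← map_neg, neg_add, map_add, og_add (by simp) (by simp),
    ← neg_smul, map_smul X.i, ← og_smul (by simp) (by simp), ← map_smul X.i, map_smul, rmul, a4, map_smul, e3, one_smul,
    smul_smul, ← AddChar.map_add_eq_mul]
  congr 2
  simp [e1, e2, hd, a5]
  ring

theorem om_all (hι : 3 ≤ Fintype.card ι) (h : I2 φ η) (hy : y ∈ wt (X.zf ρ) (om ψ φ η)) (h0 : y ≠ 0) {φ' η' : ι → F}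
    (h' : I2 φ' η') : ∃ y ∈ wt (X.zf ρ) (om ψ φ' η'), y ≠ 0 := by
  obtain ⟨g, rfl, rfl⟩ := h'.exists_sl hι h
  obtain ⟨k, hk⟩ := X.exists_lift g.transpose
  refine ⟨ρ k y, mem_wt.2 fun x => ?_, rne k h0⟩
  obtain ⟨a, e1⟩ := Finite.injective_iff_surjective.1 (sl_mulVec_injective g.transpose) x.1
  obtain ⟨b, e2⟩ := Finite.injective_iff_surjective.1 (sl_mulVec_injective g.transpose) x.2
  have := mem_wt.1 hy (a, b)
  simp only [Fr.zf, om] at this ⊢
  rw [← e1, ← e2, ← hk, ← hk, ← rmul, ← og_mul, rmul, this, map_smul]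
  simp [dotProduct_mulVec, vecMul_transpose]

theorem om_heis [FiniteDimensional ℂ V] (hψ : ψ ≠ 1) (h : I2 φ η) (hy : y ∈ wt (X.zf ρ) (om ψ φ η)) (h0 : y ≠ 0) :
    Fintype.card α ≤ finrank ℂ (wt (X.zf ρ) (om ψ φ η)) := by
  obtain ⟨c, c1, c2⟩ : ∃ c, η ⬝ᵥ c = 0 ∧ φ ⬝ᵥ c = 1 := by simpa only [dotProduct_comm] using h.symm.exists_dot 1
  obtain ⟨d, d1, d2⟩ : ∃ d, φ ⬝ᵥ d = 0 ∧ η ⬝ᵥ d = 1 := by simpa only [dotProduct_comm] using h.exists_dot 1
  obtain ⟨χ, u, y', a0, a1, a2⟩ := exists_pS' (ρ := ρ) X hψ d h0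
  have a3 : ∀ a b, _ := fun a b => a2 a b _ (mem_wt.1 hy (a, b))
  rw [← Nat.card_eq_fintype_card]
  refine card_le_of_wt (fun s => ρ (og D (X.i d) (X.k s))) (c := fun r s => ψ (D.B (X.k s) (X.k (u + r))))
    (fun r r' e => by_contra fun n => ?_) (v := fun r => ρ (og D (X.i c) (X.k r)) y') (fun r => rne _ a0) (fun r s => ?_)
    fun r => mem_wt.2 fun x => ?_
  · obtain ⟨s, hs⟩ := X.exists_B (sub_ne_zero.2 n) 1
    have := eq_of_char hψ fun t => by simpa only [map_smul, LinearMap.smul_apply, smul_eq_mul] using congrFun e (t • s)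
    simp_all
  · have := og_mul (og D (X.i c) (X.k r)) (X.i d) (X.i (-(D.B (X.k r) (X.k s)) • c) + X.k s)
    rw [og_fix (by simp) (by simp), og_perp (by simp) (by simp) (by simp)] at this
    rw [show X.k s = X.i (-(D.B (X.k r) (X.k s)) • c) + X.k s +
      D.B (X.k r) (X.i (-(D.B (X.k r) (X.k s)) • c) + X.k s) • X.i c by simp, ← rmul, ← this, rmul,
      og_add (by simp) (by simp), rmul]
    have e := a1 0 s
    rw [map_zero, zero_add] at e
    rw [e, map_smul, a3, smul_smul, map_smul, om, ← AddChar.map_add_eq_mul]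
    simp [c1, c2, d1, d2, quad_symm D (X.k r)]
  · have := og_mul (og D (X.i c) (X.k r)) (X.i x.1) (X.i x.2)
    rw [og_fix (by simp) (by simp), og_fix (by simp) (by simp)] at this
    rw [Fr.zf, ← rmul, ← this, rmul, a3, map_smul]

theorem siegel [FiniteDimensional ℂ V] (hψ : ψ ≠ 1) (hι : 3 ≤ Fintype.card ι)
    (h : ∃ φ η, I2 φ η ∧ ∃ y ∈ wt (X.zf ρ) (om ψ φ η), y ≠ 0) :
    ∃ s, (Fintype.card F ^ Fintype.card ι - 1) * (Fintype.card F ^ Fintype.card ι - Fintype.card F) ≤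
      (Fintype.card F ^ 2 - 1) * Fintype.card F * s ∧ s * Fintype.card α + finrank ℂ (wt (X.zf ρ) 1) ≤ finrank ℂ V := by
  classical
  obtain ⟨φ, η, h, y, hy, h0⟩ := h
  let J := {s : Fin 2 → ι → F // LinearIndependent F s}
  have i2 : ∀ s : J, I2 (s.1 0) (s.1 1) := fun s => LinearIndependent.pair_iff.1 (by
    rw [show ![s.1 0, s.1 1] = s.1 by ext1 i; fin_cases i <;> rfl]; exact s.2)
  let f : J → _ := fun s => om ψ (s.1 0) (s.1 1)
  refine ⟨#(univ.image f), ?_, ?_⟩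
  · have := card_linearIndependent (K := F) (V := ι → F) (k := 2) (by simp; omega)
    rw [Fin.prod_univ_two, Nat.card_eq_fintype_card, finrank_fintype_fun_eq_card] at this
    simp only [Fin.val_zero, pow_zero, Fin.val_one, pow_one] at this
    rw [← this]
    refine card_le_mul_card_image _ _ fun ω hω => ?_
    obtain ⟨s, -, rfl⟩ := mem_image.1 hω
    have : ∀ η : ι → F, η ≠ 0 → ∃ d, η ⬝ᵥ d = 1 := fun η h => by
      obtain ⟨l, hl⟩ := Function.ne_iff.1 h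
      exact ⟨Pi.single l (η l)⁻¹, by simpa using mul_inv_cancel₀ hl⟩
    choose! d hd using this
    have k : ∀ t : J, f t = f s → ∃ x : F × F, t.1 1 = x.1 • s.1 0 + x.2 • s.1 1 := fun t e => by
      obtain ⟨c, c1, c2⟩ : ∃ c, t.1 1 ⬝ᵥ c = 0 ∧ t.1 0 ⬝ᵥ c = 1 := by simpa only [dotProduct_comm] using (i2 t).symm.exists_dot 1
      exact ⟨(-(s.1 1 ⬝ᵥ c), s.1 0 ⬝ᵥ c), funext fun l => by
        have := om_eq hψ e c (Pi.single l 1)
        simp only [c1, c2, dotProduct_single] at this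
        simp only [Pi.add_apply, Pi.smul_apply, smul_eq_mul]
        linear_combination this⟩
    choose! x hx using k
    refine (card_le_card_of_injOn (fun t => (x t, t.1 0 ⬝ᵥ d (t.1 1))) (t := univ.erase 0 ×ˢ univ) (fun t ht => ?_)
      fun t ht t' ht' e => ?_).trans (by simp [sq])
    · have := hx t (mem_filter.1 ht).2
      simpa using fun e => (i2_iff.1 (i2 t).symm).1 (by simpa [e] using this)
    · have e1 : t.1 1 = t'.1 1 := by rw [hx t (mem_filter.1 ht).2, hx t' (mem_filter.1 ht').2, show x t = x t' from (Prod.ext_iff.1 e).1]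
      have e2 := (Prod.ext_iff.1 e).2
      refine Subtype.ext (funext fun i => ?_)
      fin_cases i
      · funext l
        have := om_eq hψ ((mem_filter.1 ht).2.trans (mem_filter.1 ht').2.symm) (Pi.single l 1) (d (t.1 1))
        simp only [← e1] at e2 this
        simpa [e2, hd _ (i2_iff.1 (i2 t).symm).1] using this
      · exact e1
  have n1 : (1 : (ι → F) × (ι → F) → ℂ) ∉ univ.image f := fun e => by
    obtain ⟨s, -, e⟩ := mem_image.1 e
    obtain ⟨c, c1, c2⟩ : ∃ c, s.1 1 ⬝ᵥ c = 0 ∧ s.1 0 ⬝ᵥ c = 1 := by simpa only [dotProduct_comm] using (i2 s).symm.exists_dot 1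
    have := fun l => om_eq hψ (φ' := 0) (η' := 0) (e.trans (by ext; simp [om])) c (Pi.single l 1)
    exact (i2_iff.1 (i2 s).symm).1 (funext fun l => by simpa [c1, c2] using this l)
  have := sum_finrank_le (wt_indep (X.zf ρ)) (insert 1 (univ.image f))
  rw [sum_insert n1, add_comm] at this
  refine le_trans (Nat.add_le_add_right (card_nsmul_le_sum _ _ _ fun ω hω => ?_) _) this
  obtain ⟨s, -, rfl⟩ := mem_image.1 hω
  obtain ⟨y, hy, h0⟩ := om_all X hι h hy h0 (i2 s)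
  exact om_heis X hψ (i2 s) hy h0

end Cfsg.Lib.Stein.MinO
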