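import Cfsg.Agent.Lib.Stein.MinO4

/-! The fixed space of the centre of the Siegel radical. -/

set_option autoImplicit false
set_option linter.unusedSectionVars false

namespace Cfsg.Lib.Stein.MinO

open Module Matrix Cfsg.Lib.Forms Cfsg.Lib.Forms.Form Cfsg.Lib.Forms.MI Cfsg.Lib.Conj Cfsg.Lib.Linear Finset
open Cfsg.Lib.Stein.MinSL (eq_zero_of_smul I2 i2_iff herm herm_apply herm_inv herm_smul herm_self herm_eq_zero)
open scoped LinearAlgebra.Projectivization

universe u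

section gen
variable {G κ : Type*} [Group G] [Fintype G] [Fintype κ] (ρ : Representation ℂ G (κ → ℂ))

theorem li_of_eigen {I : Type*} [Finite I] (v : I → κ → ℂ) (h0 : ∀ i, v i ≠ 0)
    (h : ∀ i j, i ≠ j → ∃ g, ∃ a b : ℂ, a ≠ b ∧ ρ g (v i) = a • v i ∧ ρ g (v j) = b • v j) : LinearIndependent ℂ v := by
  classical
  have := Fintype.ofFinite I
  refine Fintype.linearIndependent_iff.2 fun c hc i => ?_
  have := congrArg (herm ρ (v i)) hc
  rw [map_sum, map_zero, sum_eq_single i (fun j _ hj => by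
    obtain ⟨g, a, b, h1, h2, h3⟩ := h i j hj.symm
    rw [map_smul, herm_eq_zero ρ (h0 i) h1 h2 h3, smul_zero]) (by simp), map_smul, smul_eq_mul] at this
  exact (mul_eq_zero.1 this).resolve_right (herm_self ρ (h0 i))

theorem gram {I : Type*} [Fintype I] (v : I → κ → ℂ) {n a : ℂ} (hn : n ≠ a) (h1 : ∀ i, herm ρ (v i) (v i) = n)
    (h2 : ∀ i j, i ≠ j → herm ρ (v i) (v j) = a) {C : Submodule ℂ (κ → ℂ)} (hv : ∀ i, v i ∈ C) :
    Fintype.card I ≤ finrank ℂ C + 1 ∧ (∑ i, v i ≠ 0 → Fintype.card I ≤ finrank ℂ C) := by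
  classical
  let Φ := (Fintype.linearCombination ℂ v).codRestrict C fun c => by
    rw [Fintype.linearCombination_apply]
    exact C.sum_mem fun i _ => C.smul_mem _ (hv i)
  have k : ∀ c ∈ LinearMap.ker Φ, ∃ t : ℂ, t • (1 : I → ℂ) = c := fun c hc => ⟨-(a * ∑ i, c i) / (n - a), funext fun i => by
    have := congrArg (herm ρ (v i)) (show ∑ i, c i • v i = 0 from congrArg Subtype.val hc)
    rw [map_sum, map_zero, ← add_sum_erase _ _ (mem_univ i), sum_congr rfl fun j hj => by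
      rw [map_smul, h2 i j (ne_of_mem_erase hj).symm, smul_eq_mul], ← sum_mul, map_smul, h1, smul_eq_mul] at this
    rw [← add_sum_erase _ _ (mem_univ i), Pi.smul_apply, Pi.one_apply, smul_eq_mul, mul_one, div_eq_iff (sub_ne_zero.2 hn)]
    linear_combination -this⟩
  have r := Φ.finrank_range_add_finrank_ker
  have := Submodule.finrank_le (LinearMap.range Φ)
  rw [finrank_fintype_fun_eq_card] at r
  refine ⟨?_, fun h => ?_⟩
  · have := (Submodule.finrank_mono fun c hc => Submodule.mem_span_singleton.2 (k c hc)).trans (finrank_single_le _)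
    omega
  · rw [(Submodule.eq_bot_iff (LinearMap.ker Φ)).2 fun c hc => ?_, finrank_bot] at r
    · omega
    obtain ⟨t, rfl⟩ := k c hc
    have : ∑ i, (t • (1 : I → ℂ)) i • v i = 0 := congrArg Subtype.val hc
    simp only [Pi.smul_apply, Pi.one_apply, smul_eq_mul, mul_one, ← smul_sum] at this
    simp [(smul_eq_zero.1 this).resolve_right h]

theorem herm_sub (u v w : κ → ℂ) : herm ρ (u - v) w = herm ρ u w - herm ρ v w := by
  simp [herm_apply, sub_dotProduct]

end gen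

variable {F : Type*} [Field F] [Fintype F] [DecidableEq F] {N : Type u} [AddCommGroup N] [Module F N] [Fintype N]
  {D : Form (quadKind F) N} [hB : Big D] {κ : Type*} [Fintype κ] [Fintype (commutator D.isom)]
  {ρ : Representation ℂ (commutator D.isom) (κ → ℂ)} {ψ : AddChar F ℂ}
  {ι : Type} [Fintype ι] [DecidableEq ι] {α : Type*} [AddCommGroup α] [Module F α] [Fintype α] (X : Fr D ι α)

theorem Fr.i_ne {a : ι → F} (h : a ≠ 0) : X.i a ≠ 0 := fun e => h (X.eq_zero (φ := 0) (u := 0) (by simpa using e)).1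

theorem Fr.j_ne {a : ι → F} (h : a ≠ 0) : X.j a ≠ 0 := fun e => h (X.eq_zero (a := 0) (u := 0) (by simpa using e)).2.1

theorem sum_lin {R : Type*} [AddCommGroup R] [Module F R] [Fintype R] (hψ : ψ ≠ 1) {l : R →ₗ[F] F} (hl : l ≠ 0) :
    ∑ r, ψ (l r) = 0 := by
  obtain ⟨c, hc⟩ := AddChar.ne_one_iff.1 hψ
  obtain ⟨r, hr⟩ := (LinearMap.surjective hl) c
  exact AddChar.sum_eq_zero_iff_ne_zero (ψ := ψ.compAddMonoidHom l.toAddMonoidHom).2
    (AddChar.ne_zero_iff.2 ⟨r, by simpa [hr] using hc⟩)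

theorem i2_rep {A B : ℙ F (ι → F)} (h : A ≠ B) : I2 A.rep B.rep :=
  LinearIndependent.pair_iff.1 (Projectivization.linearIndependent_pair_iff_ne.2 h)

theorem case_one (hι : 3 ≤ Fintype.card ι) {f : N → N → κ → ℂ}
    (h1 : ∀ (g : commutator D.isom) a b, f (g.1.1 a) (g.1.1 b) = ρ g (f a b)) (h2 : ∀ a b, T2 D a b → f a b ≠ 0)
    (h3 : ∀ x y y', T2 D x y → T2 D x y' → D.B y y' = 0 → f x y = f x y') {s : F} (hs : s ≠ 0) {c : ℂ} (hc : c ≠ 1)
    (h4 : ∀ a b, f (s • a) b = c • f a b) : Nat.card (ℙ F (ι → F)) ≤ finrank ℂ (wt (X.zf ρ) 1) := by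
  choose o ho using fun a : ι → F => MinSL.exists_notMem_pair hι a a
  have t : ∀ A : ℙ F (ι → F), T2 D (X.i A.rep) (X.i (o A.rep)) := fun A =>
    X.t2 (i2_iff.2 ⟨A.rep_nonzero, by simpa using ho A.rep⟩)
  refine li_le (li_of_eigen ρ (fun A : ℙ F (ι → F) => f (X.i A.rep) (X.i (o A.rep))) (fun A => h2 _ _ (t A)) fun A B e => ?_)
    fun A => mem_wt.2 fun x => ?_
  · have e := X.t2 (i2_rep e)
    obtain ⟨z, hz⟩ := e.exists_T3
    obtain ⟨g, e1, -, e2⟩ := hz.rot.rot.swap.scale hs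
    refine ⟨g, c, 1, hc, ?_, ?_⟩
    · rw [h3 _ _ _ (t A) e (by simp), ← h1, e1, e2, h4]
    · rw [h3 _ _ _ (t B) e.symm (by simp), ← h1, e1, e2, one_smul]
      exact h3 _ _ _ (by simpa using (t2_smul one_ne_zero hs).2 e.symm) e.symm (by simp)
  · rw [Fr.zf, ← h1, og_fix (by simp) (by simp), og_fix (by simp) (by simp)]
    simp

theorem exists_pt {x : N} (qx : D.Q x = 0) (hx : x ≠ 0) {v : κ → ℂ}
    (h : ∀ (g : commutator D.isom) (t : F), g.1.1 x = t • x → ρ g v = v) :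
    ∃ f : N → κ → ℂ, f x = v ∧ (∀ (g : commutator D.isom) y, D.Q y = 0 → y ≠ 0 → f (g.1.1 y) = ρ g (f y)) ∧
      ∀ t : F, t ≠ 0 → ∀ y, D.Q y = 0 → y ≠ 0 → f (t • y) = f y := by
  have : ∀ y, D.Q y = 0 → y ≠ 0 → ∃ g : commutator D.isom, g.1.1 x = y := fun y a b => witt1 hx b (a.trans qx.symm)
  choose! g hg using this
  have k : ∀ (a b : commutator D.isom) (t : F), a.1.1 x = t • b.1.1 x → ρ a v = ρ b v := fun a b t e => by
    nth_rw 2 [← h (b⁻¹ * a) t (by simp [e])]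
    rw [← rmul, mul_inv_cancel_left]
  refine ⟨fun y => ρ (g y) v, h _ 1 (by simp [hg x qx hx]), fun a y qy hy => ?_, fun t ht y qy hy =>
    k _ _ t (by rw [hg y qy hy, hg _ (by simp [quad_Q_smul, qy]) (by simp [ht, hy])])⟩
  rw [← rmul]
  exact k _ _ 1 (by simp [hg y qy hy, hg (a.1.1 y) (by simpa) (by simpa)])

theorem sum_c (x : F) : ∑ s : F, ∑ t : F, ((if s = 0 then (Fintype.card F : ℂ) else 0) - 1) *
    ((if t = 0 then (Fintype.card F : ℂ) else 0) - 1) * (if s * t + x = 0 then 1 else 0) =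
      (Fintype.card F - 1) * (1 - if x = 0 then (Fintype.card F : ℂ) else 0) := by
  rw [← add_sum_erase _ _ (mem_univ 0), sum_congr rfl (s₁ := univ.erase 0) (g := fun _ => 1 - if x = 0 then (Fintype.card F : ℂ) else 0)
    fun s hs => ?_, sum_const, card_erase_of_mem (mem_univ _), card_univ, nsmul_eq_mul, Nat.cast_pred Fintype.card_pos]
  · simp [← mul_sum]
  have hs := ne_of_mem_erase hs
  rw [sum_eq_single (-(s⁻¹ * x)) (fun t _ ht => by
    rw [if_neg (c := s * t + x = 0) fun e => ht (by rw [eq_neg_of_add_eq_zero_right e]; field_simp), mul_zero]) (by simp)]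
  simp [hs]

/-- A relation coming from the absence of non-singular weights. -/
theorem rel_three [DecidableEq N] (hψ : ψ ≠ 1) (hn : ∀ p w, D.Q p = 0 → p ≠ 0 → D.Q w ≠ 0 → ∀ y ∈ ws ρ ψ p w, y = 0) {l m : ι} (hlm : l ≠ m)
    {v : κ → ℂ} {n a b : ℂ} (h : ∀ z, D.B (X.i (Pi.single l 1)) z = 0 → D.B (X.j (Pi.single l 1)) z = 0 →
      herm ρ v (ρ (og D (X.i (Pi.single l 1)) z) v) = b + (a - b) * (if D.Q z = 0 then 1 else 0) + (n - a) * if z = 0 then 1 else 0) :
    ∃ e : ℕ, (n - a) * (Fintype.card F - 1) = (a - b) * e * (Fintype.card F - Fintype.card α) := by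
  classical
  let H : Submodule F (ι → F) := LinearMap.ker (LinearMap.proj l) ⊓ LinearMap.ker (LinearMap.proj m)
  let c : F → ℂ := fun s => (if s = 0 then (Fintype.card F : ℂ) else 0) - 1
  have c0 : ∑ s, c s = 0 := by simp [c]
  let z : F → F → H × α → N := fun s t r => X.i (Pi.single m s) + X.j (Pi.single m t + r.1.1) + X.k r.2
  have z1 : ∀ s t r, D.B (X.i (Pi.single l 1)) (z s t r) = 0 := fun s t r => by simp [z, hlm, show r.1.1 l = 0 from r.1.2.1]
  have z2 : ∀ s t r, D.B (X.j (Pi.single l 1)) (z s t r) = 0 := fun s t r => by simp [z, hlm]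
  have z3 : ∀ s t r, D.Q (z s t r) = s * t + D.Q (X.k r.2) := fun s t r => by
    rw [X.Q]
    simp [show r.1.1 m = 0 from r.1.2.2, mul_comm]
  have z4 : ∀ s t r, z s t r = 0 ↔ s = 0 ∧ t = 0 ∧ r = 0 := fun s t r => ⟨fun e => by
    obtain ⟨e1, e2, e3⟩ := X.eq_zero e
    have e4 : t = 0 := by simpa [show r.1.1 m = 0 from r.1.2.2] using congrFun e2 m
    exact ⟨by simpa using e1, e4, Prod.ext (by simpa [e4] using e2) e3⟩, by rintro ⟨rfl, rfl, rfl⟩; simp [z]⟩
  have P : ∑ r, ∑ s, ∑ t, (c s * c t) • ρ (og D (X.i (Pi.single l 1)) (z s t r)) v = 0 := by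
    refine smul_right_injective _ (r := (Fintype.card N : ℂ)) (by simp) ?_
    simp only [smul_sum, smul_comm (Fintype.card N : ℂ), ← map_smul, smul_zero]
    simp only [← sum_pj (ρ := ρ) (p := X.i (Pi.single l 1)) hψ, map_sum, map_smul, smul_sum, pj_mem v _ (z1 _ _ _)]
    simp only [sum_comm (s := univ) (t := (univ : Finset N))]
    refine sum_eq_zero fun w _ => by_contra fun d => ?_
    obtain ⟨x, χ, u, rfl⟩ := X.sur w
    let L : H × α →ₗ[F] F := D.B.flip (X.i x + X.j χ + X.k u) ∘ₗ (X.j ∘ₗ H.subtype).coprod X.k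
    simp only [smul_smul, ← sum_smul] at d
    rw [show ∑ r, ∑ s, ∑ t, c s * c t * ψ (D.B (z s t r) (X.i x + X.j χ + X.k u)) =
      (∑ r, ψ (L r)) * ((∑ s, c s * ψ (s * χ m)) * ∑ t, c t * ψ (t * x m)) by
        rw [sum_mul_sum, sum_mul]
        simp only [mul_sum]
        refine sum_congr rfl fun r _ => sum_congr rfl fun s _ => sum_congr rfl fun t _ => ?_
        rw [show D.B (z s t r) (X.i x + X.j χ + X.k u) = L r + s * χ m + t * x m by simp [z, L]; ring,
          AddChar.map_add_eq_mul, AddChar.map_add_eq_mul]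
        ring, ← ne_eq, smul_ne_zero_iff, mul_ne_zero_iff, mul_ne_zero_iff] at d
    obtain ⟨⟨d1, d2, d3⟩, d4⟩ := d
    have d1 : L = 0 := by_contra fun e => d1 (sum_lin hψ e)
    have p1 := ws_perp hψ (X.Qi _) (pj_mem v) d4
    refine d4 (hn _ _ (X.Qi _) (X.i_ne (by simp)) ?_ _ (pj_mem v))
    have u0 : u = 0 := by_contra fun e => by
      obtain ⟨u', e⟩ := X.exists_B e 1
      simpa [L, e] using LinearMap.congr_fun d1 (0, u')
    rw [X.Q, u0, dotProduct, sum_eq_single m (fun o _ ho => ?_) (by simp)]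
    · simpa using And.intro (fun e => d2 (by simp [e, c0])) fun e => d3 (by simp [e, c0])
    by_cases e : o = l
    · simpa [e] using Or.inl p1
    · simpa [L] using Or.inr (LinearMap.congr_fun d1 (⟨Pi.single o 1, by simp [Ne.symm e], by simp [Ne.symm ho]⟩, 0))
  have := congrArg (herm ρ v) P
  simp only [map_sum, map_smul, map_zero, h _ (z1 _ _ _) (z2 _ _ _), z3, z4, smul_eq_mul, mul_add, sum_add_distrib] at this
  simp only [mul_left_comm _ (a - b), mul_left_comm _ (n - a), ← mul_sum, ← sum_mul, c0, c, sum_c] at this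
  refine ⟨Fintype.card H, mul_left_cancel₀ (a := (Fintype.card F - 1 : ℂ)) (by simpa [sub_eq_zero] using Fintype.one_lt_card.ne') ?_⟩
  have e : ∀ u, D.Q (X.k u) = 0 ↔ u = 0 := fun u => ⟨X.an u, by rintro rfl; simp⟩
  simp [e, ite_and, Fintype.sum_prod_type] at this
  linear_combination this

theorem sum_proj {M : Type*} [AddCommGroup M] [Module ℂ M] [Fintype (ℙ F (ι → F))] (g : (ι → F) → M)
    (h : ∀ t : F, t ≠ 0 → ∀ a, a ≠ 0 → g (t • a) = g a) :
    ∑ a ∈ univ.erase 0, g a = Fintype.card Fˣ • ∑ A : ℙ F (ι → F), g A.rep := by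
  rw [← card_univ, ← sum_const, ← Fintype.sum_prod_type' (f := fun (_ : Fˣ) (A : ℙ F (ι → F)) => g A.rep)]
  refine (sum_nbij (fun x : Fˣ × ℙ F (ι → F) => x.1 • x.2.rep) (fun x _ => by simp [Units.smul_def, x.2.rep_nonzero]) (fun x _ y _ e => ?_)
    (fun a ha => ?_) fun x _ => (h _ x.1.ne_zero _ x.2.rep_nonzero).symm).symm
  · have e1 : x.2 = y.2 := by
      rw [← x.2.mk_rep, ← y.2.mk_rep, Projectivization.mk_eq_mk_iff]
      exact ⟨x.1⁻¹ * y.1, by rw [mul_smul, ← show x.1 • x.2.rep = y.1 • y.2.rep from e, inv_smul_smul]⟩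
    refine Prod.ext (Units.ext (smul_left_injective F y.2.rep_nonzero ?_)) e1
    simpa [e1, Units.smul_def] using e
  · obtain ⟨t, ht⟩ := Projectivization.exists_smul_eq_mk_rep F a (by simpa using ha)
    exact ⟨(t⁻¹, .mk F a (by simpa using ha)), by simp, by simp [← ht]⟩

theorem case_two (hψ : ψ ≠ 1) (hι : 3 ≤ Fintype.card ι) (hG : ∀ v, (∀ g, ρ g v = v) → v = 0)
    (hn : ∀ p w, D.Q p = 0 → p ≠ 0 → D.Q w ≠ 0 → ∀ y ∈ ws ρ ψ p w, y = 0) {x : N} (qx : D.Q x = 0) (hx : x ≠ 0) {v : κ → ℂ}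
    (h0 : v ≠ 0) (h : ∀ (g : commutator D.isom) (t : F), g.1.1 x = t • x → ρ g v = v) :
    Nat.card (ℙ F (ι → F)) ≤ finrank ℂ (wt (X.zf ρ) 1) + 1 ∧
      (Fintype.card α ≤ Fintype.card F → Nat.card (ℙ F (ι → F)) ≤ finrank ℂ (wt (X.zf ρ) 1)) := by
  classical
  obtain ⟨f, f0, f1, f2⟩ := exists_pt qx hx h
  obtain ⟨l, m, hlm⟩ := Fintype.exists_pair_of_one_lt_card (α := ι) (by omega)
  set p := X.i (Pi.single l 1)
  set p' := X.j (Pi.single l 1)
  have p0 : p ≠ 0 := X.i_ne (by simp)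
  have p1 : p' ≠ 0 := X.j_ne (by simp)
  have t0 : T2 D p (X.i (Pi.single m 1)) := X.t2 fun s t e => ⟨by simpa [hlm] using congrFun e l, by simpa [hlm] using congrFun e m⟩
  set n := herm ρ v v
  set a := herm ρ (f p) (f (X.i (Pi.single m 1)))
  set b := herm ρ (f p') (f p)
  have n0 : n ≠ 0 := herm_self ρ h0
  have hN : ∀ y, D.Q y = 0 → y ≠ 0 → herm ρ (f y) (f y) = n := fun y qy hy => by
    obtain ⟨g, rfl⟩ := witt1 hx hy (qy.trans qx.symm)
    rw [f1 g x qx hx, f0, herm_inv]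
  have hA : ∀ y z, T2 D y z → herm ρ (f y) (f z) = a := fun y z e => by
    obtain ⟨g, rfl, rfl⟩ := t0.witt e
    rw [f1 g _ t0.qa p0, f1 g _ t0.qb t0.j.ne', herm_inv]
  have j : ∀ y z, D.Q y = 0 → D.Q z = 0 → D.B y z ≠ 0 → J2 F y z := fun y z qy qz e s t d => by
    have e1 := congrArg (D.B y) d
    have e2 := congrArg (D.B z) d
    simp [quad_B_self, qy, qz, e, quad_symm D z] at e1 e2
    exact ⟨e2, e1⟩
  have hb : ∀ y z, D.Q y = 0 → D.Q z = 0 → D.B y z ≠ 0 → herm ρ (f y) (f z) = b := fun y z qy qz e => by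
    obtain ⟨g, rfl, e2⟩ := witt2 (D := D) (j p' p (X.Qj _) (X.Qi _) (by simp [p, p'])) (j y ((D.B y z)⁻¹ • z) qy
      (by simp [quad_Q_smul, qz]) (by simp [e])) (by simp [qy, p']) (by simp [quad_Q_smul, qz, p]) (by simp [p, p', e])
    rw [← f2 _ (inv_ne_zero e) z qz (j _ z qy qz e).ne', ← e2, f1 g _ (X.Qj _) p1, f1 g _ (X.Qi _) p0, herm_inv]
  have na : n ≠ a := fun e => h0 (hG v fun g => by
    have k : ∀ y z, D.Q y = 0 → D.Q z = 0 → y ≠ 0 → z ≠ 0 → D.B y z = 0 → f y = f z := fun y z qy qz hy hz d => by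
      by_cases c : z ∈ F ∙ y
      · obtain ⟨t, rfl⟩ := Submodule.mem_span_singleton.1 c
        exact (f2 t (by rintro rfl; simp at hz) y qy hy).symm
      have t := T2.mk (j2_iff.2 ⟨hy, c⟩) qy qz d
      by_contra c
      refine herm_self ρ (sub_ne_zero.2 c) ?_
      rw [herm_sub, map_sub, map_sub, hN y qy hy, hN z qz hz, hA _ _ t, hA _ _ t.symm, e]
      simp
    obtain ⟨z, z0, z1, z2, z3, -⟩ := exists_sing_perp (D := D) x (g.1.1 x) x x
    rw [← f0, ← f1 g x qx hx, k x z qx z1 hx z0 z2, k _ z (by simpa) z1 (by simpa) z0 z3])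
  have := Fintype.ofFinite (ℙ F (ι → F))
  obtain ⟨g1, g2⟩ := gram ρ (fun A : ℙ F (ι → F) => f (X.i A.rep)) na (fun A => hN _ (X.Qi _) (X.i_ne A.rep_nonzero))
    (fun A B e => hA _ _ (X.t2 (i2_rep e))) (C := wt (X.zf ρ) 1) fun A => mem_wt.2 fun y => by
      rw [Fr.zf, ← f1 _ _ (X.Qi _) (X.i_ne A.rep_nonzero), og_fix (by simp) (by simp)]
      simp
  rw [Nat.card_eq_fintype_card]
  refine ⟨g1, fun hα => g2 fun S => ?_⟩
  have S1 := sum_proj (fun a => f (X.i a)) fun t ht a ha => by rw [map_smul, f2 t ht _ (X.Qi _) (X.i_ne ha)]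
  rw [S, smul_zero] at S1
  have R1 := congrArg (herm ρ (f p)) S1
  have R2 := congrArg (herm ρ (f p')) S1
  rw [map_sum, map_zero, ← sum_filter_add_sum_filter_not _ (· ∈ F ∙ Pi.single l (1 : F)),
    sum_congr rfl (g := fun _ => n) fun y hy => ?_, sum_congr rfl (s₁ := filter (¬ · ∈ F ∙ Pi.single l (1 : F)) _) fun y hy =>
      hA _ _ (X.t2 (i2_iff.2 ⟨by simp, (mem_filter.1 hy).2⟩)), sum_const, sum_const, nsmul_eq_mul, nsmul_eq_mul] at R1
  swap
  · obtain ⟨t, rfl⟩ := Submodule.mem_span_singleton.1 (mem_filter.1 hy).2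
    rw [map_smul, f2 t (by rintro rfl; simp at hy) _ (X.Qi _) p0, hN _ (X.Qi _) p0]
  rw [map_sum, map_zero, ← sum_filter_add_sum_filter_not _ (· l = 0),
    sum_congr rfl (g := fun _ => a) fun y hy => hA _ _ ⟨fun s t e => ?_, X.Qj _, X.Qi _, by simpa [p'] using (mem_filter.1 hy).2⟩,
    sum_congr rfl (s₁ := filter (fun y : ι → F => ¬ y l = 0) _) fun y hy => hb p' (X.i y) (X.Qj _) (X.Qi _) (by simpa [p'] using (mem_filter.1 hy).2),
    sum_const, sum_const, nsmul_eq_mul, nsmul_eq_mul] at R2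
  swap
  · have := X.eq_zero (a := t • y) (φ := s • Pi.single l 1) (u := 0) (by simpa [add_comm] using e)
    simpa [ne_of_mem_erase (mem_filter.1 hy).1, and_comm] using this
  obtain ⟨e, R3⟩ := rel_three X hψ hn hlm (v := f p') (n := n) (a := a) (b := b) fun z z1 z2 => by
    have qp : D.Q p = 0 := X.Qi _
    have qp' : D.Q p' = 0 := X.Qj _
    have pp : D.B p p' = 1 := by simp [p, p']
    have q := Q_isom (og D p z).1 p'
    rw [← f1 _ _ qp' p1]
    rw [og_apply qp z1, D.eq_zero_symm z2, pp, zero_smul, add_zero, one_smul] at q ⊢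
    by_cases c : z = 0
    · simp [c, hN _ qp' p1]
    by_cases d : D.Q z = 0
    · rw [hA _ _ ⟨fun s t e => ?_, qp', q.trans qp', by simp [d, show D.B p' z = 0 from z2, quad_B_self, qp']⟩]
      · simp [c, d]
      have e1 : s = -t := by simpa [add_eq_zero_iff_eq_neg, d, pp, show D.B p z = 0 from z1] using congrArg (D.B p) e
      simpa [e1, smul_sub, c, d, ← add_sub_assoc] using e
    · rw [hb _ _ qp' (q.trans qp') (by simp [show D.B p' z = 0 from z2, quad_B_self, qp', d, quad_symm D p' p, pp])]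
      simp [c, d]
  have a1 : 0 < #{y ∈ univ.erase 0 | y ∈ F ∙ Pi.single (M := fun _ => F) l (1 : F)} := card_pos.2 ⟨Pi.single l 1, by simp⟩
  have a2 : 0 < #{y ∈ univ.erase (0 : ι → F) | ¬ y l = 0} := card_pos.2 ⟨Pi.single l 1, by simp⟩
  generalize #{y ∈ univ.erase 0 | y ∈ F ∙ Pi.single (M := fun _ => F) l (1 : F)} = n1 at *
  generalize #{y ∈ univ.erase 0 | ¬ y ∈ F ∙ Pi.single (M := fun _ => F) l (1 : F)} = n2 at *
  generalize #{y ∈ univ.erase (0 : ι → F) | ¬ y l = 0} = n4 at *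
  generalize #{y ∈ univ.erase (0 : ι → F) | y l = 0} = n3 at *
  obtain ⟨r, hr⟩ := Nat.exists_eq_add_of_le hα
  obtain ⟨q, hq⟩ := Nat.exists_eq_add_of_lt (Fintype.one_lt_card (α := F))
  have e1 : (Fintype.card F : ℂ) - Fintype.card α = r := by rw [hr]; simp
  have e2 : (Fintype.card F : ℂ) - 1 = q + 1 := by rw [hq]; push_cast; ring
  rw [e1, e2] at R3
  refine mul_ne_zero n0 (Nat.cast_ne_zero.2 (show (n1 + n2) * n4 * (q + 1) + e * r * n1 * (n3 + n4) ≠ 0 by positivity)) ?_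
  push_cast
  linear_combination n2 * n4 * R3 + (n4 * (q + 1) + e * r * (n3 + n4)) * R1 - e * r * n2 * R2

end Cfsg.Lib.Stein.MinO
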