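import Cfsg.Agent.Lib.Stein.MinO5

/-! The minimal degree of a representation of `Ω_d(q)` without fixed vectors. -/

set_option autoImplicit false
set_option linter.unusedSectionVars false

namespace Cfsg.Lib.Stein.MinO

open Module Matrix Cfsg.Lib.Forms Cfsg.Lib.Forms.Form Cfsg.Lib.Forms.MI Cfsg.Lib.Conj Cfsg.Lib.Linear Finset
open Cfsg.Lib.Stein.MinSL (eq_zero_of_smul I2 i2_iff exists_notMem_sup)

universe u

variable {F : Type*} [Field F] [Fintype F] [DecidableEq F] {N : Type u} [AddCommGroup N] [Module F N] [Fintype N]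
  {D : Form (quadKind F) N} [hB : Big D] {κ : Type*} [Fintype κ] [Fintype (commutator D.isom)]
  {ρ : Representation ℂ (commutator D.isom) (κ → ℂ)} {ψ : AddChar F ℂ}
  {ι : Type} [Fintype ι] [DecidableEq ι] {α : Type*} [AddCommGroup α] [Module F α] [Fintype α] [DecidableEq α] (X : Fr D ι α)
  {μ : F → ℕ} {m : ℕ}

theorem char_inj (hψ : ψ ≠ 1) {l : ι} {a φ a' φ' : ι → F} {u u' : α} (h : a l = a' l)
    (e : ∀ z, D.B (X.i (Pi.single l 1)) z = 0 → ψ (D.B z (X.i a + X.j φ + X.k u)) = ψ (D.B z (X.i a' + X.j φ' + X.k u'))) :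
    a = a' ∧ φ = φ' ∧ u = u' := by
  obtain ⟨t, ht⟩ : ∃ t : F, t • X.i (Pi.single l 1) = (X.i a + X.j φ + X.k u) - (X.i a' + X.j φ' + X.k u') := by
    rw [← Submodule.mem_span_singleton]
    by_contra c
    obtain ⟨z, e1, e2⟩ := hB.nd.exists_perp_B_eq c 1
    have := eq_of_char hψ fun t => by
      simpa only [map_smul, LinearMap.smul_apply, smul_eq_mul, RingHom.id_apply] using
        e (t • z) (by simp [D.mem_perp_span_singleton.1 e1])
    rw [map_sub, this] at e2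
    simp at e2
  obtain ⟨e1, e2, e3⟩ := X.eq_zero (a := a - a' - t • Pi.single l 1) (φ := φ - φ') (u := u - u') (by
    simp only [map_sub, map_smul, ht]
    abel)
  have : t = 0 := by simpa [h] using congrFun e1 l
  exact ⟨by simpa [this, sub_eq_zero] using e1, sub_eq_zero.1 e2, sub_eq_zero.1 e3⟩

theorem card_ker (hk : Fintype.card ι = m + 1) (l : ι) :
    Nat.card (LinearMap.ker (LinearMap.proj (R := F) (φ := fun _ : ι => F) l)) = Fintype.card F ^ m := by
  have := (LinearMap.proj (R := F) (φ := fun _ : ι => F) l).finrank_range_add_finrank_ker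
  rw [LinearMap.range_eq_top.2 (Function.surjective_eval l)] at this
  simp only [finrank_top, Module.finrank_self, finrank_fintype_fun_eq_card] at this
  rw [Module.natCard_eq_pow_finrank (K := F), Nat.card_eq_fintype_card]
  congr 1
  omega

theorem j2_frame {l : ι} {a φ : ι → F} {u : α} (h : φ ≠ 0 ∨ u ≠ 0) : J2 F (X.i (Pi.single l 1)) (X.i a + X.j φ + X.k u) :=
  fun s t e => by
    obtain ⟨e1, e2, e3⟩ := X.eq_zero (a := s • Pi.single l 1 + t • a) (φ := t • φ) (u := t • u) (by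
      simp only [← e, map_add, map_smul]
      module)
    have : t = 0 := h.elim (smul_eq_zero.1 e2).resolve_right (smul_eq_zero.1 e3).resolve_right
    simpa [this] using e1

theorem weights (hψ : ψ ≠ 1) (hk : Fintype.card ι = m + 1)
    (hμ : ∀ p w, D.Q p = 0 → J2 F p w → D.B p w = 0 → finrank ℂ (ws ρ ψ p w) = μ (D.Q w)) :
    (Fintype.card F ^ m - 1) * Fintype.card α * Fintype.card F ^ m * ∑ c, μ c +
      Fintype.card F * Fintype.card F ^ m * ∑ u ∈ univ.erase 0, μ (D.Q (X.k u)) ≤ Fintype.card F * Fintype.card κ := by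
  classical
  obtain ⟨l⟩ : Nonempty ι := Fintype.card_pos_iff.1 (by omega)
  let H := LinearMap.ker (LinearMap.proj (R := F) (φ := fun _ : ι => F) l)
  have cH : Fintype.card H = Fintype.card F ^ m := Nat.card_eq_fintype_card.symm.trans (card_ker hk l)
  have := sum_finrank_le ((wt_indep fun z : {z // D.B (X.i (Pi.single l 1)) z = 0} => ρ (og D (X.i (Pi.single l 1)) z)).comp
    (f := fun (x : H × α × H) z => ψ (D.B z.1 (X.i x.2.2 + X.j x.1 + X.k x.2.1))) fun x y e => by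
      obtain ⟨e1, e2, e3⟩ := char_inj X hψ (x.2.2.2.trans y.2.2.2.symm) fun z hz => congrFun e ⟨z, hz⟩
      exact Prod.ext (Subtype.ext e2) (Prod.ext e3 (Subtype.ext e1))) univ
  rw [finrank_fintype_fun_eq_card] at this
  have k : ∀ (φ : H) u (a : H), φ ≠ 0 ∨ u ≠ 0 → μ (φ.1 ⬝ᵥ a.1 + D.Q (X.k u)) ≤ finrank ℂ (wt
      (fun z : {z // D.B (X.i (Pi.single l 1)) z = 0} => ρ (og D (X.i (Pi.single l 1)) z))
      fun z => ψ (D.B z.1 (X.i a + X.j φ + X.k u))) := fun φ u a h => by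
    rw [← X.Q, ← hμ _ _ (X.Qi _) (j2_frame X (l := l) (by simpa using h)) (by simp [show φ.1 l = 0 from φ.2])]
    exact Submodule.finrank_mono fun v hv => mem_wt.2 fun z => hv z.1 z.2
  refine le_trans ?_ (Nat.mul_le_mul_left _ this)
  simp only [Fintype.sum_prod_type, Function.comp]
  rw [← add_sum_erase _ _ (mem_univ (0 : H)), mul_add, add_comm]
  refine add_le_add ?_ ?_
  · rw [mul_assoc, mul_sum]
    refine Nat.mul_le_mul_left _ ((sum_le_sum fun u hu => ?_).trans (sum_le_sum_of_subset (subset_univ _)))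
    rw [← cH]
    exact card_nsmul_le_sum _ _ _ fun a _ => by simpa using k 0 u a (Or.inr (ne_of_mem_erase hu))
  rw [mul_assoc, mul_assoc, mul_sum (univ.erase (0 : H)), show Fintype.card F ^ m - 1 = #(univ.erase (0 : H)) by simp [cH]]
  refine card_nsmul_le_sum _ _ _ fun φ hφ => ?_
  rw [mul_sum (univ : Finset α)]
  refine card_nsmul_le_sum _ _ _ fun u _ => le_trans ?_ (Nat.mul_le_mul_left _ (sum_le_sum fun a _ => k φ u a
    (Or.inl (ne_of_mem_erase hφ))))
  obtain ⟨o, ho⟩ := Function.ne_iff.1 (mt Subtype.ext (ne_of_mem_erase hφ))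
  have := sum_fib (((dotProductBilin F F φ.1) ∘ₗ H.subtype).toAddMonoidHom) (fun t => ⟨⟨Pi.single o (t * (φ.1 o)⁻¹), by
    simp [H, show l ≠ o by rintro rfl; exact ho φ.2]⟩, by
      have : φ.1 o ≠ 0 := ho
      simp
      field_simp⟩) fun t => μ (t + D.Q (X.k u))
  rw [Fintype.sum_equiv (Equiv.addRight (D.Q (X.k u))) (fun t => μ (t + D.Q (X.k u))) μ fun _ => rfl, cH] at this
  exact this.ge

theorem nonsing (hψ : ψ ≠ 1) (hk : Fintype.card ι = m + 1) (hm : 3 ≤ m)
    (hμ : ∀ p w, D.Q p = 0 → J2 F p w → D.B p w = 0 → finrank ℂ (ws ρ ψ p w) = μ (D.Q w)) {c : F} (hc : c ≠ 0) (h1 : μ c = 1) :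
    Nat.card {u // D.Q (X.k u) = c} * Fintype.card F ^ m ≤ finrank ℂ (wt (X.zf ρ) 1) := by
  obtain ⟨l⟩ : Nonempty ι := Fintype.card_pos_iff.1 (by omega)
  have : ∀ x : {u // D.Q (X.k u) = c} × LinearMap.ker (LinearMap.proj (R := F) (φ := fun _ : ι => F) l),
      ∃ y ∈ ws ρ ψ (X.i (Pi.single l 1)) (X.i x.2 + X.j 0 + X.k x.1), y ≠ 0 ∧ y ∈ wt (X.zf ρ) 1 := fun ⟨⟨u, hu⟩, e⟩ => by
    have u0 : u ≠ 0 := by rintro rfl; exact hc (by simpa using hu.symm)
    have r := hμ _ _ (X.Qi _) (j2_frame X (l := l) (a := 0) (φ := 0) (Or.inr u0)) (by simp)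
    simp only [map_zero, zero_add, hu, h1] at r
    obtain ⟨⟨y, hy⟩, y0⟩ := finrank_pos_iff_exists_ne_zero.1 (r ▸ one_pos)
    obtain ⟨u', hu'⟩ := X.exists_B u0 1
    refine ⟨_, by simpa [og_fix, og_perp, hu', add_comm] using ws_conj (og D (X.i e) (X.k u')) hy, rne _ (by simpa using y0),
      mem_wt.2 fun x => ?_⟩
    have := og_mul (og D (X.i e) (X.k u')) (X.i x.1) (X.i x.2)
    rw [og_fix (by simp) (by simp), og_fix (by simp) (by simp)] at this
    rw [Fr.zf, ← rmul, ← this, rmul, Pi.one_apply, one_smul]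
    congr 1
    obtain ⟨d, hd⟩ := exists_notMem_sup (A := Submodule.span F {x.1, x.2}) (by have := finrank_pair_le (F := F) x.1 x.2; omega)
      (Pi.single l 1)
    obtain ⟨φ, h2, h3⟩ := exists_dotProduct_of_notMem hd 1
    have h4 := h2 x.1 (Submodule.mem_sup_left (Submodule.subset_span (by simp)))
    have h5 := h2 x.2 (Submodule.mem_sup_left (Submodule.subset_span (by simp)))
    have h6 := h2 _ (Submodule.mem_sup_right (Submodule.mem_span_singleton_self _))
    have := og_sub_fix (X.Qi _) r.le hy (og D (X.i x.2) (X.j φ)) (og_fix (by simp) (by simpa using h6))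
      (og_fix (by simp) (by simp)) (e := X.i x.1) (z := X.i d) (X.Qi _) one_ne_zero
      (by rw [og_fix (by simp) (by simpa using h4), one_smul]) (by simp) (by simp) (by simp) (by simp) (by simp)
    simpa [og_perp, h5, h3] using this
  choose y hy y0 yC using this
  rw [← card_ker hk l, ← Nat.card_prod]
  refine card_le_of_wt (fun z : {z // D.B (X.i (Pi.single l 1)) z = 0} => ρ (og D (X.i (Pi.single l 1)) z))
    (c := fun x z => ψ (D.B z.1 (X.i x.2 + X.j 0 + X.k x.1))) (fun x y e => ?_) y0 (fun x z => hy x z.1 z.2) yC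
  obtain ⟨e1, -, e3⟩ := char_inj X hψ (x.2.2.trans y.2.2.symm) fun z hz => congrFun e ⟨z, hz⟩
  exact Prod.ext (Subtype.ext e3) (Subtype.ext e1)

set_option maxHeartbeats 800000 in
theorem main (hk : Fintype.card ι = m + 1) (hm : 2 ≤ m)
    (hq : (∃ t : F, t ≠ 0 ∧ t ^ 2 ≠ 1) ∨ 9 ≤ finrank F N ∨ (finrank F N = 8 ∧ ¬ D.HasTS 4))
    (hG : ∀ v, (∀ g, ρ g v = v) → v = 0) [Nonempty κ] {q A d : ℕ} (e1 : Fintype.card F = q) (e2 : Fintype.card α = A)
    (e3 : Fintype.card κ = d) :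
    2 * ((q ^ m - 1) * A * q ^ m) ≤ q * d ∨
    (∃ s c, (q ^ (m + 1) - 1) * (q ^ (m + 1) - q) ≤ (q ^ 2 - 1) * q * s ∧ s * A + c ≤ d ∧
      ∑ i ∈ range (m + 1), q ^ i ≤ c + 1 ∧ (A ≤ q → ∑ i ∈ range (m + 1), q ^ i ≤ c)) ∨
    ((∀ t : F, t ≠ 0 → t ^ 2 = 1) ∧ ∃ x : F, x ≠ 0 ∧ ∃ n, n = Nat.card {u // D.Q (X.k u) = x} ∧
      (q ^ m - 1) * A * q ^ m + q * q ^ m * n ≤ q * d ∧ (1 < A → 3 ≤ m →
        ∃ s c, (q ^ (m + 1) - 1) * (q ^ (m + 1) - q) ≤ (q ^ 2 - 1) * q * s ∧ s * A + c ≤ d ∧ n * q ^ m ≤ c)) := by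
  classical
  subst e1 e2 e3
  obtain ⟨ψ, hψ1⟩ := (AddChar.exists_apply_ne_zero (α := F) (a := 1)).2 one_ne_zero
  have hψ : ψ ≠ 1 := by rintro rfl; simp at hψ1
  obtain ⟨l, o, hlo⟩ := Fintype.exists_pair_of_one_lt_card (α := ι) (by omega)
  have j : ∀ c : F, J2 F (X.i (Pi.single l 1)) (X.i (Pi.single o c) + X.j (Pi.single o 1) + X.k 0) := fun c =>
    j2_frame X (Or.inl (by simp))
  have b : ∀ c : F, D.B (X.i (Pi.single l 1)) (X.i (Pi.single o c) + X.j (Pi.single o 1) + X.k 0) = 0 := fun c => by simp [hlo]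
  have qc : ∀ c : F, D.Q (X.i (Pi.single o c) + X.j (Pi.single o 1) + X.k 0) = c := fun c => by rw [X.Q]; simp
  obtain ⟨μ, hμ⟩ : ∃ μ : F → ℕ, ∀ p w, D.Q p = 0 → J2 F p w → D.B p w = 0 → finrank ℂ (ws ρ ψ p w) = μ (D.Q w) :=
    ⟨fun c => finrank ℂ (ws ρ ψ (X.i (Pi.single l 1)) (X.i (Pi.single o c) + X.j (Pi.single o 1) + X.k 0)), fun p w h1 h2 h3 =>
      le_antisymm (finrank_ws_le h2 (j _) (by simp [h1]) (qc _) ((b _).trans h3.symm))
        (finrank_ws_le (j _) h2 (by simp [h1]) (qc _).symm (h3.trans (b _).symm))⟩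
  have W := weights X hψ hk hμ
  by_cases c : 2 ≤ ∑ c, μ c
  · exact Or.inl (le_trans (by rw [mul_comm 2]; exact Nat.mul_le_mul_left _ c) (le_self_add.trans W))
  right
  obtain ⟨p, w, h1, h2, h3, y, hy, y0⟩ := exists_ws (ρ := ρ) (v := 1) hψ fun h => one_ne_zero (hG _ h)
  have m1 : 0 < μ (D.Q w) := hμ p w h1 h2 h3 ▸ finrank_pos_iff_exists_ne_zero.2 ⟨⟨y, hy⟩, by simpa using y0⟩
  have m2 : ∀ x, x ≠ D.Q w → μ x = 0 := fun x hx => by
    have := sum_le_sum_of_subset (f := μ) (subset_univ {x, D.Q w})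
    rw [sum_pair hx] at this
    omega
  have m3 : μ (D.Q w) = 1 := by
    have := single_le_sum (f := μ) (fun _ _ => Nat.zero_le _) (mem_univ (D.Q w))
    omega
  have r := hμ _ _ (X.Qi _) (j (D.Q w)) (b _)
  rw [qc, m3] at r
  obtain ⟨⟨v, hv⟩, v0⟩ := finrank_pos_iff_exists_ne_zero.1 (r ▸ one_pos)
  have S : (∀ a b, Pi.single o (1 : F) ⬝ᵥ a = 0 → Pi.single o (1 : F) ⬝ᵥ b = 0 → ρ (og D (X.i a) (X.i b)) v = v) → _ := fun h =>
    siegel X hψ (by omega) (exists_om X hψ (c := Pi.single l 1) (d := Pi.single o 1) (by simp [hlo.symm]) (by simp)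
      (by simpa using v0) h hψ1 (by simpa using hv (X.i (Pi.single o 1)) (by simp)))
  rw [hk, finrank_fintype_fun_eq_card] at S
  by_cases c0 : D.Q w = 0
  · left
    rw [c0] at m2 m3 hv
    have hW : PW ρ ψ := ⟨fun p w h => by rw [hμ p w h.qa h.j h.ab, h.qb, m3], fun p w h v hv =>
      fix_of_finrank h.qa (by rw [hμ p w h.qa h.j h.ab, h.qb, m3]) hv hq h⟩
    obtain ⟨s, s1, s2⟩ := S fun a b' ha hb => hW.fix _ _ ⟨j 0, X.Qi _, qc 0, b 0⟩ v hv _ (og_fix (by simp) (by simp))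
      (og_fix (by simpa using ha) (by simpa using hb))
    refine ⟨s, _, s1, s2, ?_⟩
    have P := Projectivization.card_of_finrank F _ ((finrank_fintype_fun_eq_card F).trans hk)
    rw [Nat.card_eq_fintype_card (α := F)] at P
    rw [← P]
    rcases hW.dichotomy hψ ⟨h2, h1, c0, h3⟩ hy y0 with ⟨f, f1, f2, f3, s, hs, c, hc, f4⟩ | ⟨x, v, qx, hx, v0, h⟩
    · have := case_one X (by omega) f1 f2 f3 hs hc f4
      exact ⟨by omega, fun _ => this⟩
    refine case_two X hψ (by omega) hG (fun p w a b c y hy => by_contra fun d => ?_) qx hx v0 h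
    have := hμ p w a (j2_iff.2 ⟨b, fun e => ?_⟩) (ws_perp hψ a hy d)
    · rw [m2 _ c, Submodule.finrank_eq_zero] at this
      exact d (by simpa [this] using hy)
    obtain ⟨t, rfl⟩ := Submodule.mem_span_singleton.1 e
    simp [quad_Q_smul, a] at c
  refine Or.inr ⟨fun t ht => by_contra fun e => ?_, _, c0, _, rfl, le_trans ?_ W, fun hA h3 => ?_⟩
  · have := hμ _ _ (by simp [quad_Q_smul, h1]) ((j2_smul ht ht).2 h2) (by simp [h3])
    rw [quad_Q_smul, m2 _ (by simpa [c0] using e), Submodule.finrank_eq_zero] at this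
    have := ws_smul (ρ := ρ) (ψ := ψ) (p := t • p) (w := t • w) (v := y) (by simp [quad_Q_smul, h1]) (inv_ne_zero ht)
      (by simpa [ht] using hy)
    simp_all
  · refine add_le_add (Nat.le_mul_of_pos_right _ (m1.trans_le (single_le_sum (fun _ _ => Nat.zero_le _) (mem_univ _))))
      (Nat.mul_le_mul_left _ ?_)
    rw [Nat.card_eq_fintype_card, Fintype.card_subtype, card_eq_sum_ones]
    refine (sum_congr rfl fun u hu => by rw [(mem_filter.1 hu).2, m3]).le.trans (sum_le_sum_of_subset fun u hu => ?_)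
    simpa using fun e => c0 (by simpa [e] using (mem_filter.1 hu).2.symm)
  · obtain ⟨u, u0⟩ := Fintype.exists_ne_of_one_lt_card hA 0
    obtain ⟨u', hu⟩ := X.exists_B u0 1
    obtain ⟨s, s1, s2⟩ := S fun a b' ha hb => by
      have := og_sub_fix (X.Qi _) r.le hv (og D (X.i b') (X.k u')) (og_fix (by simp) (by simp))
        (og_fix (by simpa using hb) (by simp)) (e := X.i a) (z := X.k u) (X.Qi _) one_ne_zero
        (by rw [og_fix (by simp) (by simp), one_smul]) (by simp) (by simpa using ha) (by simp) (by simp) (by simp)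
      simpa [og_perp, hu] using this
    exact ⟨s, _, s1, s2, nonsing X hψ hk h3 hμ c0 m3⟩

end Cfsg.Lib.Stein.MinO
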