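import Cfsg.Agent.Lib.Stein.MinO6
import Cfsg.Agent.Lib.Forms.Bridge

/-! The minimal degrees of `Ω_d(q)`: frames of the standard forms and arithmetic. -/

set_option autoImplicit false

namespace Cfsg.Lib.Stein.MinO

open Module Cfsg.Lib.Forms Finset

theorem fixed_eq_zero {G G' : Type*} [Group G] [Group G'] {k : ℕ} {ρ : Representation ℂ G (Fin k → ℂ)} (hρ : ρ.IsIrreducible)
    (hk : 2 ≤ k) (e : G ≃* G') (v : Fin k → ℂ) (hv : ∀ g, ρ.comp e.symm.toMonoidHom g v = v) : v = 0 := by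
  by_contra h0
  let S : Subrepresentation ρ := ⟨Submodule.span ℂ {v}, fun g u hu => by
    obtain ⟨c, rfl⟩ := Submodule.mem_span_singleton.1 hu
    rw [map_smul, show ρ g v = v by simpa using hv (e g)]
    exact hu⟩
  rcases hρ.eq_bot_or_eq_top S with h3 | h3
  · exact h0 (Submodule.span_singleton_eq_bot.1 (congrArg Subrepresentation.toSubmodule h3))
  · have h4 := finrank_span_singleton (K := ℂ) h0
    rw [show Submodule.span ℂ {v} = ⊤ from congrArg Subrepresentation.toSubmodule h3] at h4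
    simp at h4
    omega

variable {F : Type*} [Field F]

theorem exists_sq_ne [Fintype F] (h : 3 < Fintype.card F) : ∃ t : F, t ≠ 0 ∧ t ^ 2 ≠ 1 := by
  classical
  by_contra! c
  have : (univ : Finset F) ⊆ {0, 1, -1} := fun t _ => by
    by_cases e : t = 0
    · simp [e]
    · simpa [e] using c t e
  have := (card_le_card this).trans card_le_three
  rw [card_univ] at this
  omega

/-- The frame of `fPlus`. -/
def frPlus (n : ℕ) : Fr (fPlus F n) (Fin n) (Fin 0 → F) where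
  i := ⟨⟨fun a => Sum.elim a 0, fun _ _ => by ext (_ | _) <;> simp⟩, fun _ _ => by ext (_ | _) <;> simp⟩
  j := ⟨⟨fun a => Sum.elim 0 a, fun _ _ => by ext (_ | _) <;> simp⟩, fun _ _ => by ext (_ | _) <;> simp⟩
  k := 0
  Q a φ u := by simp [fPlus_Q, quadFormPlus, dotProduct, mul_comm]
  an u _ := Subsingleton.elim _ _
  sur x := ⟨x ∘ .inl, x ∘ .inr, 0, by ext (_ | _) <;> simp⟩

/-- The frame of `fOdd`. -/
def frOdd (n : ℕ) : Fr (fOdd F n) (Fin n) F where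
  i := ⟨⟨fun a => Sum.elim 0 (Sum.elim a 0), fun _ _ => by ext (_ | _ | _) <;> simp⟩, fun _ _ => by ext (_ | _ | _) <;> simp⟩
  j := ⟨⟨fun a => Sum.elim 0 (Sum.elim 0 a), fun _ _ => by ext (_ | _ | _) <;> simp⟩, fun _ _ => by ext (_ | _ | _) <;> simp⟩
  k := ⟨⟨fun a => Sum.elim (fun _ => a) 0, fun _ _ => by ext (_ | _) <;> simp⟩, fun _ _ => by ext (_ | _) <;> simp⟩
  Q a φ u := by simp [fOdd_Q, quadFormOdd, dotProduct, mul_comm, add_comm]
  an u h := by simpa [fOdd_Q, quadFormOdd] using h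
  sur x := ⟨fun l => x (.inr (.inl l)), fun l => x (.inr (.inr l)), x (.inl ()), by ext (_ | _ | _) <;> simp⟩

/-- The frame of `fMinus`. -/
def frMinus (n : ℕ) {a b : F} (hab : ∀ z₁ z₂ : F, z₁ ^ 2 + a * z₁ * z₂ + b * z₂ ^ 2 = 0 → z₁ = 0 ∧ z₂ = 0) :
    Fr (fMinus n a b) (Fin n) (Fin 2 → F) where
  i := ⟨⟨fun a => Sum.elim (Sum.elim a 0) 0, fun _ _ => by ext ((_ | _) | _) <;> simp⟩, fun _ _ => by ext ((_ | _) | _) <;> simp⟩
  j := ⟨⟨fun a => Sum.elim (Sum.elim 0 a) 0, fun _ _ => by ext ((_ | _) | _) <;> simp⟩, fun _ _ => by ext ((_ | _) | _) <;> simp⟩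
  k := ⟨⟨fun a => Sum.elim 0 a, fun _ _ => by ext (_ | _) <;> simp⟩, fun _ _ => by ext (_ | _) <;> simp⟩
  Q x φ u := by simp [fMinus_Q, quadFormMinus, dotProduct, mul_comm]
  an u h := fBin_aniso_iff.2 hab u (by simpa [fMinus_Q, quadFormMinus, fBin_Q] using h)
  sur x := ⟨fun l => x (.inl (.inl l)), fun l => x (.inl (.inr l)), x ∘ .inr, by ext ((_ | _) | _) <;> simp⟩

theorem arith {q m s : ℕ} (hq : 2 ≤ q) (h : (q ^ (m + 1) - 1) * (q ^ (m + 1) - q) ≤ (q ^ 2 - 1) * q * s) :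
    ((q : ℤ) * q ^ m - 1) * (q ^ m - 1) ≤ (q ^ 2 - 1) * s ∧ (∑ i ∈ range (m + 1), q ^ i : ℕ) * (q - 1 : ℤ) = q * q ^ m - 1 := by
  have h1 : q ≤ q ^ (m + 1) := Nat.le_self_pow (by omega) _
  have h2 : 1 ≤ q ^ 2 := Nat.one_le_pow _ _ (by omega)
  refine ⟨le_of_mul_le_mul_left (a := (q : ℤ)) ?_ (by omega), by push_cast; rw [geom_sum_mul, pow_succ']⟩
  zify [h1, h2, show 1 ≤ q ^ (m + 1) by omega] at h
  rw [pow_succ'] at h
  linarith

end Cfsg.Lib.Stein.MinO
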