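import Cfsg.Agent.Lib.Linear.SLPair
import Cfsg.Agent.Lib.Linear.TvSub

/-! Linear algebra and an invariant hermitian form for the minimal degree of `SL_n(q)`. -/

set_option autoImplicit false

namespace Cfsg.Lib.Stein.MinSL

open Matrix Module Cfsg.Lib.Linear Finset

local notation "SL" => Matrix.SpecialLinearGroup

section form

variable {G κ : Type*} [Group G] [Fintype G] [Fintype κ] (ρ : Representation ℂ G (κ → ℂ))

/-- An invariant positive hermitian form. -/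
noncomputable def herm (u : κ → ℂ) : (κ → ℂ) →ₗ[ℂ] ℂ where
  toFun v := ∑ g, star (ρ g u) ⬝ᵥ ρ g v
  map_add' v w := by simp [sum_add_distrib]
  map_smul' c v := by simp [mul_sum]

theorem herm_apply (u v : κ → ℂ) : herm ρ u v = ∑ g, star (ρ g u) ⬝ᵥ ρ g v := rfl

theorem herm_inv (g : G) (u v : κ → ℂ) : herm ρ (ρ g u) (ρ g v) = herm ρ u v := by
  rw [herm_apply, herm_apply]
  exact Fintype.sum_equiv (Equiv.mulRight g) _ _ fun h => by simp

theorem herm_smul (c : ℂ) (u v : κ → ℂ) : herm ρ (c • u) v = star c * herm ρ u v := by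
  simp [herm_apply, mul_sum]

open ComplexOrder in
theorem herm_self {u : κ → ℂ} (hu : u ≠ 0) : herm ρ u u ≠ 0 := fun h => hu (by
  have := (sum_eq_zero_iff_of_nonneg fun g _ => dotProduct_star_self_nonneg (ρ g u)).1 h 1 (mem_univ _)
  simpa using dotProduct_star_self_eq_zero.1 this)

theorem herm_eq_zero {g : G} {u v : κ → ℂ} {a b : ℂ} (hu : u ≠ 0) (h : a ≠ b) (ha : ρ g u = a • u) (hb : ρ g v = b • v) :
    herm ρ u v = 0 := by
  have h1 := herm_inv ρ g u u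
  have h2 := herm_inv ρ g u v
  rw [ha, herm_smul, map_smul, smul_eq_mul, ← mul_assoc, mul_eq_right₀ (herm_self ρ hu)] at h1
  rw [ha, hb, herm_smul, map_smul, smul_eq_mul] at h2
  have : (a - b) * herm ρ u v = 0 := by linear_combination (-a) * h2 + b * herm ρ u v * h1
  exact (mul_eq_zero.1 this).resolve_left (sub_ne_zero.2 h)

/-- Non-zero vectors separated by eigenvalues of group elements are independent. -/
theorem card_le_of_eigen {I : Type*} [Finite I] (v : I → κ → ℂ) (h0 : ∀ i, v i ≠ 0)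
    (h : ∀ i j, i ≠ j → ∃ g, ∃ a b : ℂ, a ≠ b ∧ ρ g (v i) = a • v i ∧ ρ g (v j) = b • v j) :
    Nat.card I ≤ Fintype.card κ := by
  classical
  have := Fintype.ofFinite I
  have : LinearIndependent ℂ v := Fintype.linearIndependent_iff.2 fun c hc i => by
    have := congrArg (herm ρ (v i)) hc
    rw [map_sum, map_zero, sum_eq_single i (fun j _ hj => by
      obtain ⟨g, a, b, h1, h2, h3⟩ := h i j hj.symm
      rw [map_smul, herm_eq_zero ρ (h0 i) h1 h2 h3, smul_zero]) (by simp), map_smul, smul_eq_mul] at this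
    exact (mul_eq_zero.1 this).resolve_right (herm_self ρ (h0 i))
  simpa using this.fintype_card_le_finrank

end form

variable {ι : Type} [Fintype ι] [DecidableEq ι] {F : Type*} [Field F]

omit [DecidableEq ι] in
theorem exists_notMem_sup {A : Submodule F (ι → F)} (h : finrank F A + 2 ≤ Fintype.card ι) (a : ι → F) :
    ∃ c, c ∉ A ⊔ F ∙ a := by
  by_contra! h'
  have := Submodule.finrank_add_le_finrank_add_finrank A (F ∙ a)
  have h2 : finrank F (F ∙ a) ≤ 1 := by simpa using finrank_span_le_card (R := F) ({a} : Set (ι → F))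
  rw [Submodule.eq_top_iff'.2 h', finrank_top, finrank_fintype_fun_eq_card] at this
  omega

omit [DecidableEq ι] in
theorem exists_ker_notMem {A : Submodule F (ι → F)} (h : finrank F A + 2 ≤ Fintype.card ι) {φ z : ι → F}
    (hz : φ ⬝ᵥ z = 1) : ∃ u, φ ⬝ᵥ u = 0 ∧ u ∉ A := by
  obtain ⟨c, hc⟩ := exists_notMem_sup h z
  refine ⟨c - (φ ⬝ᵥ c) • z, by simp [hz], fun e => hc ?_⟩
  have := Submodule.add_mem_sup e (Submodule.smul_mem _ (φ ⬝ᵥ c) (Submodule.mem_span_singleton_self z))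
  simpa using this

theorem exists_tv_move {A : Submodule F (ι → F)} {a b : ι → F} (ha : a ∉ A) (hb : b ∉ A ⊔ F ∙ a) :
    ∃ φ, (∀ x ∈ A, φ ⬝ᵥ x = 0) ∧ φ ⬝ᵥ (a - b) = 0 ∧ (tvf (a - b) φ).1 *ᵥ b = a := by
  have : a ∉ A ⊔ F ∙ (a - b) := fun e => by
    obtain ⟨x, hx, y, hy, e⟩ := Submodule.mem_sup.1 e
    obtain ⟨s, rfl⟩ := Submodule.mem_span_singleton.1 hy
    by_cases hs : s = 0
    · exact ha (by simpa [hs] using e ▸ (by simpa [hs] using hx : x + s • (a - b) ∈ A))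
    · refine hb (Submodule.mem_sup.2 ⟨s⁻¹ • x, A.smul_mem _ hx, (1 - s⁻¹) • a,
        Submodule.smul_mem _ _ (Submodule.mem_span_singleton_self _), ?_⟩)
      have : x = a - s • (a - b) := by rw [← eq_sub_iff_add_eq] at e; exact e
      rw [this]
      match_scalars <;> (field_simp; try ring)
  obtain ⟨φ, h1, h2⟩ := exists_dotProduct_of_notMem this 1
  have h3 := h1 _ (Submodule.mem_sup_right (Submodule.mem_span_singleton_self _))
  refine ⟨φ, fun x hx => h1 x (Submodule.mem_sup_left hx), h3, ?_⟩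
  have : φ ⬝ᵥ b = 1 := by rw [dotProduct_sub, h2] at h3; linear_combination -h3
  rw [tvf_mulVec h3, this]
  simp

/-- The pointwise stabiliser of a subspace is generated by its transvections. -/
theorem mem_of_fix (H : Subgroup (SL ι F)) (A : Submodule F (ι → F))
    (hH : ∀ u φ, (∀ x ∈ A, φ ⬝ᵥ x = 0) → φ ⬝ᵥ u = 0 → tvf u φ ∈ H) (g : SL ι F) (hg : ∀ x ∈ A, g.1 *ᵥ x = x) :
    g ∈ H := by
  induction' e : Fintype.card ι - finrank F A with d ih generalizing A g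
  · have : A = ⊤ := Submodule.eq_top_of_finrank_eq (le_antisymm A.finrank_le (by simp; omega))
    have : g = 1 := Subtype.ext (ext_iff_mulVec.2 fun x => by simp [hg x (this ▸ Submodule.mem_top)])
    exact this ▸ H.one_mem
  have hA : A ≠ ⊤ := by rintro rfl; simp at e
  obtain ⟨a, ha⟩ : ∃ a, a ∉ A := by simpa [Submodule.eq_top_iff'] using hA
  have r : finrank F ↥(A ⊔ F ∙ a) = finrank F A + 1 := by
    have := Submodule.finrank_sup_add_finrank_inf_eq A (F ∙ a)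
    rw [finrank_span_singleton (by rintro rfl; exact ha A.zero_mem),
      ((Submodule.disjoint_span_singleton' (by rintro rfl; exact ha A.zero_mem)).2 ha).eq_bot] at this
    simpa using this
  by_cases h2 : finrank F A + 2 ≤ Fintype.card ι
  · have hb : g.1 *ᵥ a ∉ A := fun c => ha (sl_mulVec_injective g (hg _ c) ▸ c)
    obtain ⟨h, hh, h1, h3⟩ : ∃ h ∈ H, (∀ x ∈ A, h.1 *ᵥ x = x) ∧ h.1 *ᵥ (g.1 *ᵥ a) = a := by
      have k : ∀ a b, a ∉ A → b ∉ A ⊔ F ∙ a → ∃ h ∈ H, (∀ x ∈ A, h.1 *ᵥ x = x) ∧ h.1 *ᵥ b = a := fun a b ha hb => by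
        obtain ⟨φ, a1, a2, a3⟩ := exists_tv_move ha hb
        exact ⟨_, hH _ _ a1 a2, fun x hx => by simp [tvf_mulVec a2, a1 x hx], a3⟩
      by_cases c : g.1 *ᵥ a ∈ A ⊔ F ∙ a
      · obtain ⟨c, hc⟩ := exists_notMem_sup h2 a
        obtain ⟨h, a1, a2, a3⟩ := k a c ha hc
        obtain ⟨h', b1, b2, b3⟩ := k _ c hb fun e => hc ((sup_le le_sup_left
          ((Submodule.span_singleton_le_iff_mem _ _).2 ‹_›) : A ⊔ F ∙ (g.1 *ᵥ a) ≤ A ⊔ F ∙ a) e)
        have i : ∀ x y, h'.1 *ᵥ x = y → (h'⁻¹).1 *ᵥ y = x := fun x y e => by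
          rw [← e, mulVec_mulVec, sl_coe_inv_mul, one_mulVec]
        exact ⟨h * h'⁻¹, H.mul_mem a1 (H.inv_mem b1), fun x hx => by
          rw [sl_coe_mul, ← mulVec_mulVec, i x x (b2 x hx), a2 x hx], by rw [sl_coe_mul, ← mulVec_mulVec, i _ _ b3, a3]⟩
      · exact k _ _ ha c
    have := ih (A ⊔ F ∙ a) (fun u φ c => hH u φ fun x hx => c x (Submodule.mem_sup_left hx)) (h * g) (fun x hx' => by
      obtain ⟨x, hx, y, hy, rfl⟩ := Submodule.mem_sup.1 hx'
      obtain ⟨s, rfl⟩ := Submodule.mem_span_singleton.1 hy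
      rw [sl_coe_mul, ← mulVec_mulVec, mulVec_add, mulVec_add, mulVec_smul, mulVec_smul, h3, hg x hx, h1 x hx]) (by omega)
    exact (H.mul_mem_cancel_left hh).1 this
  · obtain ⟨φ, h1, h3⟩ := exists_dotProduct_of_notMem ha 1
    have t : A ⊔ F ∙ a = ⊤ := Submodule.eq_top_of_finrank_eq (le_antisymm (Submodule.finrank_le _) (by simp; omega))
    have c : g.1 = 1 + vecMulVec (g.1 *ᵥ a - a) φ := ext_iff_mulVec.2 fun x => by
      obtain ⟨x, hx, y, hy, rfl⟩ := Submodule.mem_sup.1 (t ▸ Submodule.mem_top : x ∈ A ⊔ F ∙ a)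
      obtain ⟨s, rfl⟩ := Submodule.mem_span_singleton.1 hy
      rw [one_add_vecMulVec_mulVec, mulVec_add, hg x hx, mulVec_smul, dotProduct_add, h1 x hx, dotProduct_smul, h3]
      module
    have c' := dotProduct_eq_zero_of_coe_eq c
    have : g = tvf (g.1 *ᵥ a - a) φ := Subtype.ext (c.trans (coe_tvf c').symm)
    exact this ▸ hH _ _ h1 c'

theorem exists_sl_fix_smul {A : Submodule F (ι → F)} {r r' : ι → F} (hr : r ∉ A) (hr' : r' ∉ A) :
    ∃ k : SL ι F, ∃ t : F, t ≠ 0 ∧ (∀ x ∈ A, k.1 *ᵥ x = x) ∧ k.1 *ᵥ r = t • r' := by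
  obtain ⟨g, a, b⟩ := exists_gl_fix_map hr hr'
  obtain ⟨ψ, c, d⟩ := exists_dotProduct_of_notMem hr' ((g : Matrix ι ι F).det⁻¹ - 1)
  refine ⟨⟨(1 + vecMulVec r' ψ) * g, ?_⟩, (g : Matrix ι ι F).det⁻¹, inv_ne_zero g.det_ne_zero, fun w hw => ?_, ?_⟩
  · rw [det_mul, det_one_add_vecMulVec, d, add_sub_cancel, inv_mul_cancel₀ g.det_ne_zero]
  · simp only [← mulVec_mulVec, a w hw, one_add_vecMulVec_mulVec, c w hw, zero_smul, add_zero]
  · simp only [← mulVec_mulVec, b, one_add_vecMulVec_mulVec, d]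
    module

theorem exists_sl_dil {u z φ χ : ι → F} (h1 : φ ⬝ᵥ u = 1) (h2 : χ ⬝ᵥ z = 1) (h3 : φ ⬝ᵥ z = 0) {a : F} (ha : a ≠ 0) :
    ∃ g : SL ι F, ∀ x, g.1 *ᵥ x = x + ((a - 1) * φ ⬝ᵥ x) • u + ((a⁻¹ - 1) * χ ⬝ᵥ x) • z := by
  refine ⟨⟨(1 + vecMulVec u ((a - 1) • φ)) * (1 + vecMulVec z ((a⁻¹ - 1) • χ)), ?_⟩, fun x => ?_⟩
  · rw [det_mul, det_one_add_vecMulVec, det_one_add_vecMulVec]
    simp [h1, h2, ha]
  · simp only [← mulVec_mulVec, one_add_vecMulVec_mulVec, smul_dotProduct, dotProduct_add, dotProduct_smul, h3]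
    module

theorem exists_sl_scal {z φ : ι → F} (h : φ ⬝ᵥ z = 1) {a : F} (ha : a ≠ 0) :
    ∃ g : SL ι F, ∀ x, g.1 *ᵥ x = a • x + (a * ((a ^ Fintype.card ι)⁻¹ - 1) * φ ⬝ᵥ x) • z := by
  refine ⟨⟨a • (1 + vecMulVec z (((a ^ Fintype.card ι)⁻¹ - 1) • φ)), ?_⟩, fun x => ?_⟩
  · rw [det_smul, det_one_add_vecMulVec]
    simp [h, ha]
  · simp only [smul_mulVec, one_add_vecMulVec_mulVec, smul_dotProduct]
    module

/-- Independent pairs. -/
def I2 (a b : ι → F) : Prop := ∀ s t : F, s • a + t • b = 0 → s = 0 ∧ t = 0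

omit [Fintype ι] [DecidableEq ι] in
theorem I2.symm {a b : ι → F} (h : I2 a b) : I2 b a := fun s t e => (h t s (by rw [add_comm, e])).symm

omit [Fintype ι] [DecidableEq ι] in
theorem i2_iff {a b : ι → F} : I2 a b ↔ a ≠ 0 ∧ b ∉ F ∙ a := by
  refine ⟨fun h => ⟨fun e => by simpa using (h 1 0 (by simp [e])).1, fun e => ?_⟩, fun h s t e => ?_⟩
  · obtain ⟨s, rfl⟩ := Submodule.mem_span_singleton.1 e
    simpa using (h s (-1) (by simp)).2
  · have : t = 0 := by_contra fun c => h.2 (Submodule.mem_span_singleton.2 ⟨-(t⁻¹ * s), by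
      rw [← eq_neg_iff_add_eq_zero] at e
      rw [neg_smul, mul_smul, e]
      simp [c]⟩)
    simpa [this, h.1] using e

theorem i2_mulVec (g : SL ι F) {a b : ι → F} : I2 (g.1 *ᵥ a) (g.1 *ᵥ b) ↔ I2 a b := by
  refine forall₂_congr fun s t => imp_congr_left ?_
  rw [← mulVec_smul, ← mulVec_smul, ← mulVec_add, ← (sl_mulVec_injective g).eq_iff (a := s • a + t • b), mulVec_zero]

theorem I2.exists_sl (hι : 3 ≤ Fintype.card ι) {a b a' b' : ι → F} (h : I2 a b) (h' : I2 a' b') :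
    ∃ g : SL ι F, g.1 *ᵥ a = a' ∧ g.1 *ᵥ b = b' :=
  exists_sl_pair hι (i2_iff.1 h).1 (i2_iff.1 h).2 (i2_iff.1 h').1 (i2_iff.1 h').2

omit [DecidableEq ι] in
theorem exists_notMem_pair (hι : 3 ≤ Fintype.card ι) (a b : ι → F) : ∃ c, c ∉ Submodule.span F {a, b} := by
  have h2 : finrank F (F ∙ a) ≤ 1 := by simpa using finrank_span_le_card (R := F) ({a} : Set (ι → F))
  obtain ⟨c, hc⟩ := exists_notMem_sup (A := F ∙ a) (by omega) b
  exact ⟨c, by rwa [Submodule.span_insert]⟩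

theorem exists_dot_pair {a b c : ι → F} (h : c ∉ Submodule.span F {a, b}) (t : F) :
    ∃ φ, φ ⬝ᵥ a = 0 ∧ φ ⬝ᵥ b = 0 ∧ φ ⬝ᵥ c = t := by
  obtain ⟨φ, h1, h2⟩ := exists_dotProduct_of_notMem h t
  exact ⟨φ, (ann_span_pair.1 h1).1, (ann_span_pair.1 h1).2, h2⟩

theorem I2.exists_dot {a b : ι → F} (h : I2 a b) (t : F) : ∃ φ, φ ⬝ᵥ a = 0 ∧ φ ⬝ᵥ b = t := by
  obtain ⟨φ, h1, h2⟩ := exists_dotProduct_of_notMem (i2_iff.1 h).2 t
  exact ⟨φ, h1 _ (Submodule.mem_span_singleton_self _), h2⟩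

end Cfsg.Lib.Stein.MinSL
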