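import Cfsg.Agent.Lib.Stein.MinSL3
import Cfsg.Agent.Lib.Conj.Wt

/-! The minimal degree of a representation of `SL_n(q)` without fixed vectors. -/

set_option autoImplicit false

namespace Cfsg.Lib.Stein.MinSL

open Matrix Module Cfsg.Lib.Linear Finset
open scoped LinearAlgebra.Projectivization

local notation "SL" => Matrix.SpecialLinearGroup

variable {ι : Type} [Fintype ι] [DecidableEq ι] {F : Type*} [Field F] [Fintype F] [DecidableEq F]
  {κ : Type*} [Fintype κ] {ρ : Representation ℂ (SL ι F) (κ → ℂ)} {ψ : AddChar F ℂ}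

theorem card_le_of_point (hι : 3 ≤ Fintype.card ι) (hG : ∀ v, (∀ g, ρ g v = v) → v = 0) {x : ι → F} (hx : x ≠ 0)
    {v : κ → ℂ} (h : ∀ (g : SL ι F) (t : F), g.1 *ᵥ x = t • x → ρ g v = v) (h0 : v ≠ 0) :
    Nat.card (ℙ F (ι → F)) - 1 ≤ Fintype.card κ := by
  classical
  have : ∀ y ≠ 0, ∃ g : SL ι F, g.1 *ᵥ x = y := fun y hy => by
    obtain ⟨g, -, hg⟩ := exists_sl_fix_map (W := ⊥) (by simp; omega) (v := x) (v' := y) (by simpa) (by simpa)
    exact ⟨g, hg⟩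
  choose! g hg using this
  have k : ∀ (a b : SL ι F) (t : F), a.1 *ᵥ x = t • b.1 *ᵥ x → ρ a v = ρ b v := fun a b t e => by
    rw [← h (b⁻¹ * a) t (by rw [sl_coe_mul, ← mulVec_mulVec, e, mulVec_smul, mulVec_mulVec, sl_coe_inv_mul, one_mulVec]),
      ← rho_mul b, mul_inv_cancel_left, h (b⁻¹ * a) t]
    rw [sl_coe_mul, ← mulVec_mulVec, e, mulVec_smul, mulVec_mulVec, sl_coe_inv_mul, one_mulVec]
  have nz : ∀ (a : SL ι F) (y : ι → F), a.1 *ᵥ y ≠ 0 ↔ y ≠ 0 := fun a y => by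
    rw [ne_eq, ne_eq, ← (sl_mulVec_injective a).eq_iff (a := y), mulVec_zero]
  have eqv : ∀ (a : SL ι F), ∀ y ≠ 0, ρ a (ρ (g y) v) = ρ (g (a.1 *ᵥ y)) v := fun a y hy => by
    rw [← rho_mul]
    exact k _ _ 1 (by rw [sl_coe_mul, ← mulVec_mulVec, hg y hy, hg _ ((nz a y).2 hy), one_smul])
  have S : ∑ y ∈ univ.filter (· ≠ 0), ρ (g y) v = 0 := hG _ fun a => by
    rw [map_sum]
    exact sum_bijective a.1.mulVec (Finite.injective_iff_bijective.1 (sl_mulVec_injective a)) (by simpa using fun y => (nz a y).symm)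
      fun y hy => eqv a y (mem_filter.1 hy).2
  obtain ⟨z, hz⟩ := exists_notMem_pair hι x x
  have xz : I2 x z := i2_iff.2 ⟨hx, by simpa using hz⟩
  set β := herm ρ (ρ (g x) v) (ρ (g z) v)
  have B : ∀ a b, I2 a b → herm ρ (ρ (g a) v) (ρ (g b) v) = β := fun a b e => by
    obtain ⟨c, rfl, rfl⟩ := xz.exists_sl hι e
    rw [← eqv c x hx, ← eqv c z (i2_iff.1 xz.symm).1, herm_inv]
  have N := herm_self ρ h0
  have := congrArg (herm ρ (ρ (g x) v)) S
  rw [map_sum, map_zero, ← sum_filter_add_sum_filter_not _ (· ∈ F ∙ x),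
    sum_congr rfl (g := fun _ => herm ρ v v) fun y hy => ?_,
    sum_congr rfl (s₁ := filter (¬ · ∈ F ∙ x) _) fun y hy => B x y (i2_iff.2 ⟨hx, (mem_filter.1 hy).2⟩),
    sum_const, sum_const, nsmul_eq_mul, nsmul_eq_mul] at this
  swap
  · obtain ⟨t, e⟩ := Submodule.mem_span_singleton.1 (mem_filter.1 hy).2
    rw [k (g y) (g x) t (by rw [hg x hx, e, hg y (mem_filter.1 (mem_filter.1 hy).1).2]), herm_inv]
  have a0 : 0 < (filter (· ∈ F ∙ x) (filter (· ≠ 0) univ)).card := card_pos.2 ⟨x, by simpa⟩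
  have b0 : β ≠ 0 := fun e => by
    rw [e, mul_zero, add_zero] at this
    exact mul_ne_zero (Nat.cast_ne_zero.2 a0.ne') N this
  have b1 : herm ρ v v ≠ β := fun e => by
    rw [← e, ← add_mul, ← Nat.cast_add] at this
    exact mul_ne_zero (Nat.cast_ne_zero.2 (by omega)) N this
  have := Fintype.ofFinite (ℙ F (ι → F))
  let P := Projectivization.mk F x hx
  have i : ∀ A B : ℙ F (ι → F), A ≠ B → I2 A.rep B.rep := fun A B e =>
    LinearIndependent.pair_iff.1 (Projectivization.linearIndependent_pair_iff_ne.2 e)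
  have : LinearIndependent ℂ fun A : {A // A ≠ P} => ρ (g A.1.rep) v := Fintype.linearIndependent_iff.2 fun c hc A => by
    have e1 := congrArg (herm ρ (ρ (g P.rep) v)) hc
    have e2 := congrArg (herm ρ (ρ (g A.1.rep) v)) hc
    simp only [map_sum, map_smul, map_zero, smul_eq_mul] at e1 e2
    rw [sum_congr rfl fun D _ => by rw [B _ _ (i _ _ D.2.symm)], ← sum_mul, ← add_sum_erase _ _ (mem_univ A)] at e1
    rw [← add_sum_erase _ _ (mem_univ A), herm_inv,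
      sum_congr rfl fun D hD => by rw [B _ _ (i _ _ fun e => ne_of_mem_erase hD (Subtype.ext e.symm))], ← sum_mul] at e2
    have : c A * (herm ρ v v - β) = 0 := by linear_combination e2 - e1
    exact (mul_eq_zero.1 this).resolve_right (sub_ne_zero.2 b1)
  simpa using this.fintype_card_le_finrank

theorem card_le_main (hι : 3 ≤ Fintype.card ι) (h3 : Fintype.card ι = 3 → ∃ a : F, a ≠ 0 ∧ a ^ 3 ≠ 1)
    (h4 : Fintype.card ι = 4 → ∃ a : F, a ≠ 0 ∧ a ^ 2 ≠ 1) (hG : ∀ v, (∀ g, ρ g v = v) → v = 0) [Nonempty κ] :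
    ∑ i ∈ range (Fintype.card ι), Fintype.card F ^ i - 1 ≤ Fintype.card κ := by
  classical
  obtain ⟨ψ, hψ⟩ : ∃ ψ : AddChar F ℂ, ψ ≠ 1 := by
    obtain ⟨ψ, h⟩ := (AddChar.exists_apply_ne_zero (α := F) (a := 1)).2 one_ne_zero
    exact ⟨ψ, by rintro rfl; simp at h⟩
  obtain ⟨c, hc⟩ := AddChar.ne_one_iff.1 hψ
  obtain ⟨i⟩ : Nonempty ι := Fintype.card_pos_iff.1 (by omega)
  let p : ι → F := Pi.single i 1
  let H : Submodule F (ι → F) := LinearMap.ker (LinearMap.proj i)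
  obtain ⟨n, hn⟩ : ∃ n, Fintype.card ι = n + 1 := ⟨Fintype.card ι - 1, by omega⟩
  have rH : finrank F H = n := by
    have := (LinearMap.proj (R := F) (φ := fun _ : ι => F) i).finrank_range_add_finrank_ker
    rw [LinearMap.range_eq_top.2 (Function.surjective_eval i)] at this
    simp only [finrank_top, Module.finrank_self, finrank_fintype_fun_eq_card] at this
    change 1 + finrank F H = _ at this
    omega
  have cH : Nat.card {w : H // w ≠ 0} = Fintype.card F ^ n - 1 := by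
    rw [← rH, ← Module.card_eq_pow_finrank]
    simp
  have i3 : ∀ a b : H, I2 a.1 b.1 → I3 p a.1 b.1 := fun a b e r s t d => by
    have hr : r = 0 := by simpa [p, show a.1 i = 0 from a.2, show b.1 i = 0 from b.2] using congrFun d i
    simpa [hr] using e s t (by simpa [hr] using d)
  have i2 : ∀ a : H, a ≠ 0 → I2 p a.1 := fun a e r s d => by
    have hr : r = 0 := by simpa [p, show a.1 i = 0 from a.2] using congrFun d i
    simpa [hr, e] using d
  have sep : ∀ a b : H, a ≠ b → ∃ φ, φ ⬝ᵥ p = 0 ∧ ψ (φ ⬝ᵥ a.1) ≠ ψ (φ ⬝ᵥ b.1) := fun a b e => by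
    obtain ⟨φ, e1, e2⟩ := (i2 _ (sub_ne_zero.2 e)).exists_dot c
    refine ⟨φ, e1, fun d => hc ?_⟩
    rw [← e2, Submodule.coe_sub, dotProduct_sub, AddChar.map_sub_eq_div, d, div_self]
    exact (AddChar.val_isUnit _ _).ne_zero
  have q1 := Fintype.one_lt_card (α := F)
  by_cases hm : ∀ a b, I2 a b → 2 ≤ finrank ℂ (wsp ρ ψ a b)
  · have := Cfsg.Lib.Conj.card_mul_le_of_wt (fun φ : {φ : ι → F // φ ⬝ᵥ p = 0} => ρ (tvf p φ))
      (c := fun (w : {w : H // w ≠ 0}) φ => ψ (φ.1 ⬝ᵥ w.1.1)) (fun a b e => by_contra fun d => by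
        obtain ⟨φ, e1, e2⟩ := sep a.1 b.1 fun e => d (Subtype.ext e)
        exact e2 (congrFun e ⟨φ, e1⟩)) (d := 2) fun w => (hm _ _ (i2 _ w.2)).trans (Submodule.finrank_mono fun v hv =>
          Cfsg.Lib.Conj.mem_wt.2 fun φ => hv φ.1 φ.2)
    rw [cH, finrank_fintype_fun_eq_card] at this
    have := Nat.geomSum_lt q1 (s := range n) (n := n) (by simp)
    rw [hn, sum_range_succ]
    omega
  push Not at hm
  obtain ⟨a, b, e, hm⟩ := hm
  have hW := propW_of hι e fun v hv => fix_of_finrank h3 h4 hι (Nat.le_of_lt_succ hm) hv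
  obtain ⟨a, b, e, y, hy, y0⟩ := exists_wsp (ρ := ρ) (v := 1) hψ fun h => one_ne_zero (hG _ h)
  by_cases hP : ∀ x ≠ 0, ∀ v, (∀ (g : SL ι F) (t : F), g.1 *ᵥ x = t • x → ρ g v = v) → v = 0
  swap
  · push Not at hP
    obtain ⟨x, hx, v, h, h0⟩ := hP
    have := card_le_of_point hι hG hx h h0
    rwa [Projectivization.card_of_finrank F _ (finrank_fintype_fun_eq_card F), Nat.card_eq_fintype_card] at this
  obtain ⟨a', b', e', y', z0, z1, z2⟩ := hW.exists_fixed hψ hι e hy y0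
  obtain ⟨f, β, γ, hf, f0, t, ht, hγ⟩ : ∃ f β γ, Good ρ f β γ ∧ (∃ a b, f a b ≠ 0) ∧ ∃ t ≠ 0, γ t ≠ 1 := by
    obtain ⟨f, β, γ, hf, f0⟩ := exists_good hι e' z0 z1 z2
    by_contra! d
    obtain ⟨a, b, f1⟩ := id f0
    exact f1 (Good.eq_zero hι hψ hW hP ⟨hf.eqv, hf.zero, hf.add,
      fun s hs a b => by rw [hf.left s hs, d _ _ _ hf.swap (hf.swap_ne f0) s hs],
      fun s hs a b => by rw [hf.right s hs, d _ _ _ hf f0 s hs]⟩ a b)
  have : ∀ w : {w : H // w ≠ 0}, ∃ u ∈ wsp ρ ψ p w.1.1, u ≠ 0 := fun w => by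
    obtain ⟨g, e1, e2⟩ := e.exists_sl hι (i2 _ w.2)
    exact ⟨_, e1 ▸ e2 ▸ wsp_conj g hy, rho_ne g y0⟩
  choose u hu u0 using this
  have fz : ∀ A : ℙ F H, f p A.rep.1 ≠ 0 := fun A => hf.ne_zero hι f0 (i2 _ A.rep_nonzero)
  have mix : ∀ (A : ℙ F H) w, ∃ g, ρ g (f p A.rep.1) = (1 : ℂ) • f p A.rep.1 ∧ ρ g (u w) = ψ c • u w := fun A w => by
    obtain ⟨φ, e1, e2⟩ := (i2 _ w.2).exists_dot c
    exact ⟨tvf p φ, by simp [← hf.eqv, tvf_mulVec e1, e1, hf.add], by rw [hu w φ e1, e2]⟩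
  have := card_le_of_eigen ρ (Sum.elim (fun A : ℙ F H => f p A.rep.1) u) (by rintro (A | w); exacts [fz A, u0 w]) (by
    rintro (A | w) (B | w') d
    · have d1 := i3 A.rep B.rep fun s t e => LinearIndependent.pair_iff.1
        (Projectivization.linearIndependent_pair_iff_ne.2 (by simpa using d)) s t (Subtype.ext e)
      obtain ⟨φ, a1, a2, a3⟩ := exists_dot_pair (i3_iff.1 d1).2 1
      obtain ⟨χ, b1, b2, b3⟩ := exists_dot_pair (i3_iff.1 d1.rot).2 1
      obtain ⟨g, hg⟩ := exists_sl_dil a3 b3 a1 ht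
      have gp : g.1 *ᵥ p = t⁻¹ • p := by simp [hg, a1, b3, sub_smul]
      have e1 : ρ g (f p A.rep.1) = β t⁻¹ • f p A.rep.1 := by
        rw [← hf.eqv, gp, hf.left _ (inv_ne_zero ht)]
        simp [hg, a2, b1]
      refine ⟨g, _, β t⁻¹ * γ t, fun e => rho_ne (ρ := ρ) g (fz A) ?_, e1, ?_⟩
      · rw [e1, by_contra (p := β t⁻¹ = 0) fun d => hγ ((mul_eq_left₀ d).1 e.symm), zero_smul]
      · rw [Sum.elim_inl, ← hf.eqv, gp, hf.left _ (inv_ne_zero ht), mul_smul, ← hf.right t ht]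
        simp [hg, a3, b2, sub_smul]
    · obtain ⟨g, e1, e2⟩ := mix A w'
      exact ⟨g, _, _, hc.symm, e1, e2⟩
    · obtain ⟨g, e1, e2⟩ := mix B w
      exact ⟨g, _, _, hc, e2, e1⟩
    · obtain ⟨φ, e1, e2⟩ := sep w.1 w'.1 fun e => d (congrArg _ (Subtype.ext e))
      exact ⟨tvf p φ, _, _, e2, hu w φ e1, hu w' φ e1⟩)
  rw [Nat.card_sum, cH, Projectivization.card_of_finrank F _ rH, Nat.card_eq_fintype_card] at this
  have := Nat.one_le_pow n _ (zero_lt_one.trans q1)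
  rw [hn, sum_range_succ]
  omega

end Cfsg.Lib.Stein.MinSL
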